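/-
Two factors, the second symplectic: adjoints, contractions and the unipotent elements fixing a pure subspace.
-/
import Cfsg.Agent.Lib.Classical22.TensorMaxBase
import Cfsg.Agent.Lib.Classical22.SympTensorForm

set_option autoImplicit false
set_option linter.unusedSectionVars false
set_option linter.unusedSimpArgs false

namespace CfsgLib.Classical22.TPow

open Matrix Kronecker CfsgLib.Transvec CfsgLib.Classical22.TensorMax CfsgLib.Classical22.TensorMax.SympO
open scoped MatrixGroups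

variable {F : Type*} [Field F] {n k : ℕ}

/-- A symmetric or alternating space tensored with a symplectic space. -/
structure Duo (F : Type*) [Field F] (n k : ℕ) where
  GR : Matrix (Fin n) (Fin n) F
  f : (Fin k → F) → (Fin k → F) → F
  ε : F
  symp : Cfsg.Geo.IsSymplecticForm f
  symm : GRᵀ = ε • GR
  unit : IsUnit GR.det
  sq : ε * ε = 1

section Vec

lemma kron_pt (A : Matrix (Fin n) (Fin n) F) (H : Matrix (Fin k) (Fin k) F) (y : Fin n → F) (u : Fin k → F) :
    (A ⊗ₖ H) *ᵥ pt y u = pt (A *ᵥ y) (H *ᵥ u) := TensorRefine.kronecker_mulVec _ _ y u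

lemma mat_ext_pt {X Y : Matrix (Fin n × Fin k) (Fin n × Fin k) F}
    (h : ∀ y b, X *ᵥ pt y b = Y *ᵥ pt y b) : X = Y :=
  Matrix.ext_iff_mulVec.2 fun v => by
    rw [eq_sum_pt v, mulVec_sum, mulVec_sum]
    exact Finset.sum_congr rfl fun j _ => h _ _

lemma pt_dot (x a : Fin n → F) (u b : Fin k → F) : pt x u ⬝ᵥ pt a b = (x ⬝ᵥ a) * (u ⬝ᵥ b) := by
  simp only [dotProduct, pt, Fintype.sum_prod_type]
  rw [Finset.sum_mul_sum]
  exact Finset.sum_congr rfl fun i _ => Finset.sum_congr rfl fun j _ => by ring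

end Vec

variable (D : Duo F n k)

/-- The Gram matrix of the product form. -/
def Duo.G : Matrix (Fin n × Fin k) (Fin n × Fin k) F := D.GR ⊗ₖ gram D.f

/-- The adjoint on the first factor. -/
noncomputable def Duo.adjR (X : Matrix (Fin n) (Fin n) F) : Matrix (Fin n) (Fin n) F := D.GR⁻¹ * Xᵀ * D.GR

/-- The adjoint on the product. -/
noncomputable def Duo.adjV (X : Matrix (Fin n × Fin k) (Fin n × Fin k) F) :
    Matrix (Fin n × Fin k) (Fin n × Fin k) F := D.G⁻¹ * Xᵀ * D.G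

/-- Contraction with the dual of `a`. -/
noncomputable def Duo.ct (a : Fin k → F) : (Fin n × Fin k → F) →ₗ[F] (Fin n → F) := sl (gram D.f *ᵥ a)

/-- The block of `X` from `b` to `a`. -/
noncomputable def Duo.cR (a b : Fin k → F) (X : Matrix (Fin n × Fin k) (Fin n × Fin k) F) :
    Matrix (Fin n) (Fin n) F :=
  LinearMap.toMatrix' ((D.ct a).comp (X.mulVecLin.comp (ptL b)))

/-- An isometry of the product form. -/
def Duo.Iso (g : GL (Fin n × Fin k) F) : Prop := (g.val)ᵀ * D.G * g.val = D.G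

lemma Duo.ct_pt (a : Fin k → F) (y : Fin n → F) (b : Fin k → F) : D.ct a (pt y b) = D.f b a • y := by
  rw [Duo.ct, sl_pt, form_eq_dot D.symp]

lemma Duo.ct_kron {A : Matrix (Fin n) (Fin n) F} {H : Matrix (Fin k) (Fin k) F} {a a' : Fin k → F}
    (h : ∀ b, D.f (H *ᵥ b) a = D.f b a') (w : Fin n × Fin k → F) :
    D.ct a ((A ⊗ₖ H) *ᵥ w) = A *ᵥ D.ct a' w := by
  rw [eq_sum_pt w, mulVec_sum, map_sum, map_sum, mulVec_sum]
  refine Finset.sum_congr rfl fun j _ => ?_
  rw [kron_pt, D.ct_pt, D.ct_pt, h, mulVec_smul]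

lemma Duo.outer_pt (c d b : Fin k → F) (A : Matrix (Fin n) (Fin n) F) (y : Fin n → F) :
    (A ⊗ₖ outer D.f c d) *ᵥ pt y b = pt (D.f b d • (A *ᵥ y)) c := by
  rw [kron_pt, outer_mulVec D.symp, pt_smul_right, pt_smul_left]

lemma Duo.outer_vec (c d : Fin k → F) (A : Matrix (Fin n) (Fin n) F) (w : Fin n × Fin k → F) :
    (A ⊗ₖ outer D.f c d) *ᵥ w = pt (A *ᵥ D.ct d w) c := by
  conv_lhs => rw [eq_sum_pt w]
  conv_rhs => rw [eq_sum_pt w]
  rw [mulVec_sum, map_sum, mulVec_sum, ← ptL_apply, map_sum]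
  refine Finset.sum_congr rfl fun j _ => ?_
  rw [D.outer_pt, D.ct_pt, mulVec_smul, ptL_apply]

lemma Duo.cR_mulVec (a b : Fin k → F) (X : Matrix (Fin n × Fin k) (Fin n × Fin k) F) (y : Fin n → F) :
    D.cR a b X *ᵥ y = D.ct a (X *ᵥ pt y b) := by
  rw [Duo.cR, LinearMap.toMatrix'_mulVec]; rfl

lemma Duo.cR_add (a b : Fin k → F) (X Y : Matrix (Fin n × Fin k) (Fin n × Fin k) F) :
    D.cR a b (X + Y) = D.cR a b X + D.cR a b Y :=
  Matrix.ext_iff_mulVec.2 fun y => by simp only [add_mulVec, D.cR_mulVec, map_add]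

lemma Duo.cR_sub (a b : Fin k → F) (X Y : Matrix (Fin n × Fin k) (Fin n × Fin k) F) :
    D.cR a b (X - Y) = D.cR a b X - D.cR a b Y :=
  Matrix.ext_iff_mulVec.2 fun y => by simp only [sub_mulVec, D.cR_mulVec, map_sub]

lemma Duo.cR_zero (a b : Fin k → F) : D.cR a b (0 : Matrix (Fin n × Fin k) (Fin n × Fin k) F) = 0 :=
  Matrix.ext_iff_mulVec.2 fun y => by simp only [zero_mulVec, D.cR_mulVec, map_zero]

lemma Duo.cR_neg (a b : Fin k → F) (X : Matrix (Fin n × Fin k) (Fin n × Fin k) F) :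
    D.cR a b (-X) = -D.cR a b X :=
  Matrix.ext_iff_mulVec.2 fun y => by simp only [neg_mulVec, D.cR_mulVec, map_neg]

lemma Duo.cR_smul (a b : Fin k → F) (c : F) (X : Matrix (Fin n × Fin k) (Fin n × Fin k) F) :
    D.cR a b (c • X) = c • D.cR a b X :=
  Matrix.ext_iff_mulVec.2 fun y => by simp only [smul_mulVec, D.cR_mulVec, map_smul]

lemma Duo.ct_add (a a' : Fin k → F) (w : Fin n × Fin k → F) : D.ct (a + a') w = D.ct a w + D.ct a' w := by
  rw [Duo.ct, Duo.ct, Duo.ct, mulVec_add]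
  funext i; simp [sl, add_mul, Finset.sum_add_distrib]

lemma Duo.ct_smul (c : F) (a : Fin k → F) (w : Fin n × Fin k → F) : D.ct (c • a) w = c • D.ct a w := by
  rw [Duo.ct, Duo.ct, mulVec_smul]
  funext i; simp [sl, Finset.mul_sum, mul_assoc]

lemma Duo.cR_add_left (a a' b : Fin k → F) (X : Matrix (Fin n × Fin k) (Fin n × Fin k) F) :
    D.cR (a + a') b X = D.cR a b X + D.cR a' b X :=
  Matrix.ext_iff_mulVec.2 fun y => by simp only [add_mulVec, D.cR_mulVec, D.ct_add]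

lemma Duo.cR_smul_left (c : F) (a b : Fin k → F) (X : Matrix (Fin n × Fin k) (Fin n × Fin k) F) :
    D.cR (c • a) b X = c • D.cR a b X :=
  Matrix.ext_iff_mulVec.2 fun y => by simp only [smul_mulVec, D.cR_mulVec, D.ct_smul]

lemma Duo.cR_add_right (a b b' : Fin k → F) (X : Matrix (Fin n × Fin k) (Fin n × Fin k) F) :
    D.cR a (b + b') X = D.cR a b X + D.cR a b' X :=
  Matrix.ext_iff_mulVec.2 fun y => by simp only [add_mulVec, D.cR_mulVec, pt_add_right, mulVec_add, map_add]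

lemma Duo.cR_smul_right (c : F) (a b : Fin k → F) (X : Matrix (Fin n × Fin k) (Fin n × Fin k) F) :
    D.cR a (c • b) X = c • D.cR a b X :=
  Matrix.ext_iff_mulVec.2 fun y => by simp only [smul_mulVec, D.cR_mulVec, pt_smul_right, mulVec_smul, map_smul]

lemma Duo.cR_kron (a b : Fin k → F) (A : Matrix (Fin n) (Fin n) F) (H : Matrix (Fin k) (Fin k) F) :
    D.cR a b (A ⊗ₖ H) = D.f (H *ᵥ b) a • A :=
  Matrix.ext_iff_mulVec.2 fun y => by rw [D.cR_mulVec, kron_pt, D.ct_pt, smul_mulVec]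

lemma Duo.cR_one (a b : Fin k → F) : D.cR a b (1 : Matrix (Fin n × Fin k) (Fin n × Fin k) F) = D.f b a • 1 := by
  rw [← one_kronecker_one, D.cR_kron, one_mulVec]

lemma Duo.eq_zero_of_ct {w : Fin n × Fin k → F} (h : ∀ a, D.ct a w = 0) : w = 0 := by
  funext p
  obtain ⟨z, hz⟩ := exists_repr D.symp (Pi.single p.2 (1 : F) : Fin k → F)
  have e := congrFun (h z) p.1
  rw [Duo.ct, hz, sl_single] at e
  exact e

lemma Duo.eq_of_cR {X Y : Matrix (Fin n × Fin k) (Fin n × Fin k) F} (h : ∀ a b, D.cR a b X = D.cR a b Y) :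
    X = Y :=
  mat_ext_pt fun y b => by
    rw [← sub_eq_zero]
    refine D.eq_zero_of_ct fun a => ?_
    rw [map_sub, ← D.cR_mulVec, ← D.cR_mulVec, h, sub_self]

/-- A matrix with proportional blocks is a Kronecker product. -/
theorem Duo.kron_of_cR {X : Matrix (Fin n × Fin k) (Fin n × Fin k) F} {L : Matrix (Fin n) (Fin n) F}
    (h : ∀ a b, ∃ c : F, D.cR a b X = c • L) : ∃ σ : Matrix (Fin k) (Fin k) F, X = L ⊗ₖ σ := by
  choose c hc using h
  choose z hz using fun p : Fin k => exists_repr D.symp (Pi.single p (1 : F) : Fin k → F)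
  refine ⟨fun p q => c (z p) (Pi.single q 1), Matrix.ext fun x y => ?_⟩
  obtain ⟨i, p⟩ := x
  obtain ⟨j, q⟩ := y
  change X (i, p) (j, q) = L i j * c (z p) (Pi.single q 1)
  have e := congrFun (congrArg (· *ᵥ (Pi.single j 1 : Fin n → F)) (hc (z p) (Pi.single q 1))) i
  rw [D.cR_mulVec, Duo.ct, hz, sl_single] at e
  simp only [smul_mulVec, Pi.smul_apply, smul_eq_mul, mulVec_single_one, Matrix.col_apply] at e
  rw [show pt (Pi.single j 1 : Fin n → F) (Pi.single q 1 : Fin k → F) = Pi.single (j, q) 1 from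
    funext fun r => by
      obtain ⟨r1, r2⟩ := r
      by_cases h1 : r1 = j <;> by_cases h2 : r2 = q <;> simp [pt, Pi.single_apply, Prod.ext_iff, h1, h2]] at e
  simp only [mulVec_single_one, Matrix.col_apply] at e
  rw [e, mul_comm]
  try rfl

/-! ### Adjoints -/

lemma Duo.GR_inv_transpose : (D.GR⁻¹)ᵀ = D.ε • D.GR⁻¹ := by
  rw [transpose_nonsing_inv, D.symm]
  refine Matrix.inv_eq_left_inv ?_
  rw [smul_mul_smul_comm, D.sq, one_smul, Matrix.nonsing_inv_mul _ D.unit]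

lemma Duo.adjR_adjR (X : Matrix (Fin n) (Fin n) F) : D.adjR (D.adjR X) = X := by
  rw [Duo.adjR, Duo.adjR, transpose_mul, transpose_mul, transpose_transpose, D.symm, D.GR_inv_transpose]
  simp only [Matrix.smul_mul, Matrix.mul_smul, smul_smul, D.sq, one_smul, mul_assoc]
  rw [Matrix.nonsing_inv_mul _ D.unit, mul_one, Matrix.nonsing_inv_mul_cancel_left _ _ D.unit]

lemma Duo.adjR_add (X Y : Matrix (Fin n) (Fin n) F) : D.adjR (X + Y) = D.adjR X + D.adjR Y := by
  simp [Duo.adjR, mul_add, add_mul]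

lemma Duo.adjR_smul (c : F) (X : Matrix (Fin n) (Fin n) F) : D.adjR (c • X) = c • D.adjR X := by
  simp [Duo.adjR]

lemma Duo.adjR_one : D.adjR 1 = 1 := by
  rw [Duo.adjR, transpose_one, mul_one, Matrix.nonsing_inv_mul _ D.unit]

lemma Duo.adjR_zero : D.adjR 0 = 0 := by simp [Duo.adjR]

lemma Duo.adjR_neg (X : Matrix (Fin n) (Fin n) F) : D.adjR (-X) = -D.adjR X := by simp [Duo.adjR]

lemma Duo.adjR_mul (X Y : Matrix (Fin n) (Fin n) F) : D.adjR (X * Y) = D.adjR Y * D.adjR X := by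
  simp only [Duo.adjR, transpose_mul, mul_assoc]
  rw [Matrix.mul_nonsing_inv_cancel_left _ _ D.unit]

lemma Duo.adjV_add (X Y : Matrix (Fin n × Fin k) (Fin n × Fin k) F) : D.adjV (X + Y) = D.adjV X + D.adjV Y := by
  simp [Duo.adjV, mul_add, add_mul]

lemma Duo.adjV_kron (A : Matrix (Fin n) (Fin n) F) (H : Matrix (Fin k) (Fin k) F) :
    D.adjV (A ⊗ₖ H) = D.adjR A ⊗ₖ adj D.f H := by
  rw [Duo.adjV, Duo.G, inv_kronecker, ← kroneckerMap_transpose, ← mul_kronecker_mul, ← mul_kronecker_mul]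
  rfl

/-- The blocks of the adjoint. -/
theorem Duo.cR_adj (a b : Fin k → F) (X : Matrix (Fin n × Fin k) (Fin n × Fin k) F) :
    D.cR a b (D.adjV X) = -D.adjR (D.cR b a X) := by
  induction X using Matrix.induction_on' with
  | h_zero => simp [Duo.adjV, D.cR_zero, D.adjR_zero]
  | h_add X Y hX hY => rw [D.adjV_add, D.cR_add, hX, hY, D.cR_add, D.adjR_add, neg_add]
  | h_std_basis x y c =>
    obtain ⟨i, p⟩ := x
    obtain ⟨j, q⟩ := y
    rw [show single (i, p) (j, q) c = (single i j c) ⊗ₖ (single p q (1 : F)) by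
      rw [single_kronecker_single, mul_one], D.adjV_kron, D.cR_kron, D.cR_kron, D.adjR_smul,
      adj_spec' D.symp, D.symp.skew _ b, neg_smul, neg_neg]

/-! ### Isometries -/

lemma Duo.G_unit : IsUnit D.G.det := by
  rw [Duo.G, det_kronecker]
  exact (D.unit.pow _).mul (((Matrix.isUnit_iff_isUnit_det _).mp (isUnit_gram D.symp)).pow _)

lemma Duo.Iso.adjV_eq {g : GL (Fin n × Fin k) F} (hg : D.Iso g) : D.adjV g.val = g⁻¹.val := by
  have h : (g.val)ᵀ * D.G = D.G * g⁻¹.val := by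
    conv_rhs => rw [← hg, mul_assoc, Units.mul_inv, mul_one]
  rw [Duo.adjV, mul_assoc, h, Matrix.nonsing_inv_mul_cancel_left _ _ D.G_unit]

/-- The product form. -/
noncomputable def Duo.BV (v w : Fin n × Fin k → F) : F := v ⬝ᵥ (D.G *ᵥ w)

lemma Duo.BV_pt (x y : Fin n → F) (u b : Fin k → F) :
    D.BV (pt x u) (pt y b) = (x ⬝ᵥ (D.GR *ᵥ y)) * D.f u b := by
  rw [Duo.BV, Duo.G, kron_pt, pt_dot, form_eq_dot D.symp u b, dotProduct_comm u]

lemma Duo.Iso.BV_eq {g : GL (Fin n × Fin k) F} (hg : D.Iso g) (v w : Fin n × Fin k → F) :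
    D.BV (g.val *ᵥ v) (g.val *ᵥ w) = D.BV v w := by
  rw [Duo.BV, Duo.BV]
  conv_rhs => rw [← hg]
  simp only [← mulVec_mulVec, dotProduct_mulVec, vecMul_transpose]

/-! ### Slot elements and the perpendicular space -/

lemma Duo.ext_perp {v v' : Fin k → F} (hv : D.f v v' = 1) {X Y : Matrix (Fin n × Fin k) (Fin n × Fin k) F}
    (h : ∀ y b, D.f b v = 0 → X *ᵥ pt y b = Y *ᵥ pt y b) {w : Fin n × Fin k → F} (hw : D.ct v w = 0) :
    X *ᵥ w = Y *ᵥ w := by
  have hP : ∀ b, D.f (b + D.f b v • v') v = 0 := fun b => by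
    rw [D.symp.bilinear.add_left, D.symp.bilinear.smul_left, D.symp.skew v' v, hv]; ring
  have e : w = ((1 : Matrix (Fin n) (Fin n) F) ⊗ₖ (1 + outer D.f v' v)) *ᵥ w := by
    rw [kronecker_add, one_kronecker_one, add_mulVec, one_mulVec, D.outer_vec, hw, mulVec_zero, pt_zero_left,
      add_zero]
  rw [e, eq_sum_pt w, mulVec_sum, mulVec_sum, mulVec_sum]
  refine Finset.sum_congr rfl fun j _ => ?_
  rw [kron_pt, one_mulVec, add_mulVec, one_mulVec, outer_mulVec D.symp]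
  exact h _ _ (hP _)

end CfsgLib.Classical22.TPow
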