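/-
Unipotent elements fixing a pure subspace: their middle blocks are scalar when the shears are.
-/
import Cfsg.Agent.Lib.Classical22.TensorPower.Duo
import Cfsg.Agent.Lib.Classical22.SpOrthTensor.Base
import Cfsg.Agent.Lib.Classical22.SympTensorStatement

set_option autoImplicit false
set_option linter.unusedSectionVars false
set_option linter.unusedSimpArgs false

namespace CfsgLib.Classical22.TPow

open Matrix Kronecker CfsgLib.Transvec CfsgLib.Classical22.TensorMax CfsgLib.Classical22.TensorMax.SympO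
open CfsgLib.Classical22.TensorMax.SpO (kr kr_apply)
open scoped MatrixGroups

variable {F : Type*} [Field F] {n k : ℕ}

/-- The element of the second factor as an element of the product. -/
noncomputable def slot : GL (Fin k) F →* GL (Fin n × Fin k) F :=
  MonoidHom.mk' (fun σ => kr 1 σ) fun σ τ => Units.ext (by simp [kr, ← mul_kronecker_mul])

lemma slot_val (σ : GL (Fin k) F) : (slot (n := n) σ).val = (1 : Matrix (Fin n) (Fin n) F) ⊗ₖ σ.val := rfl

lemma slot_pt (σ : GL (Fin k) F) (y : Fin n → F) (b : Fin k → F) :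
    (slot σ).val *ᵥ pt y b = pt y (σ.val *ᵥ b) := by rw [slot_val, kron_pt, one_mulVec]

variable (D : Duo F n k)

lemma Duo.f_add (x y z : Fin k → F) : D.f (x + y) z = D.f x z + D.f y z := D.symp.bilinear.add_left x y z

lemma Duo.f_smul (c : F) (x z : Fin k → F) : D.f (c • x) z = c * D.f x z := D.symp.bilinear.smul_left c x z

lemma Duo.f_add' (x y z : Fin k → F) : D.f x (y + z) = D.f x y + D.f x z := D.symp.bilinear.add_right x y z

lemma Duo.f_smul' (c : F) (x z : Fin k → F) : D.f x (c • z) = c * D.f x z := D.symp.bilinear.smul_right c x z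

lemma Duo.f_neg' (x z : Fin k → F) : D.f x (-z) = -D.f x z := by
  rw [← neg_one_smul F z, D.f_smul', neg_one_mul]

lemma Duo.f_sub (x y z : Fin k → F) : D.f (x - y) z = D.f x z - D.f y z := by
  rw [sub_eq_add_neg, D.f_add, ← neg_one_smul F y, D.f_smul]; ring

lemma Duo.f_sub' (x y z : Fin k → F) : D.f x (y - z) = D.f x y - D.f x z := by
  rw [sub_eq_add_neg, D.f_add', D.f_neg', sub_eq_add_neg]

/-- The transvection at `u`. -/
noncomputable def Duo.tr (u : Fin k → F) (c : F) : GL (Fin k) F := transv u (c • (gram D.f *ᵥ u))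

lemma Duo.tr_mulVec (u : Fin k → F) (c : F) (x : Fin k → F) :
    (D.tr u c).val *ᵥ x = x + (c * D.f x u) • u := by
  rw [Duo.tr, transv_mulVec (by rw [smul_dotProduct, ← form_eq_dot D.symp, D.symp.alternating, smul_zero]),
    smul_dotProduct, ← form_eq_dot D.symp, smul_eq_mul]

lemma Duo.tr_iso (u : Fin k → F) (c : F) (x y : Fin k → F) :
    D.f ((D.tr u c).val *ᵥ x) ((D.tr u c).val *ᵥ y) = D.f x y := by
  simp only [D.tr_mulVec, D.f_add, D.f_add', D.f_smul, D.f_smul', D.symp.alternating, D.symp.skew u y]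
  ring

/-- The slot roots, isometries only, and scalar shears. -/
structure Duo.Side (M : Subgroup (GL (Fin n × Fin k) F)) : Prop where
  iso : ∀ g ∈ M, D.Iso g
  root : ∀ u c, slot (D.tr u c) ∈ M
  scalar : ∀ h ∈ M, ∀ v, v ≠ 0 → ∀ S, h.val = 1 + S ⊗ₖ outer D.f v v → ∃ c : F, S = c • 1

/-- No invariant group of skew matrices with scalar anticommutators. -/
def Duo.NoCliff (M : Subgroup (GL (Fin n × Fin k) F)) : Prop :=
  4 ≤ k → ∀ 𝒦 : AddSubgroup (Matrix (Fin n) (Fin n) F), (∀ K ∈ 𝒦, D.adjR K = -K) →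
    (∀ A : GL (Fin n) F, kr A (1 : GL (Fin k) F) ∈ M → ∀ K ∈ 𝒦, A.val * K * A⁻¹.val ∈ 𝒦) →
    (∀ K ∈ 𝒦, ∀ K' ∈ 𝒦, ∃ c : F, K * K' + K' * K = c • 1) → 𝒦 = ⊥

/-- `X` annihilates the pure space at `v`, and pushes down its flag. -/
structure Duo.IsRad (v : Fin k → F) (X : Matrix (Fin n × Fin k) (Fin n × Fin k) F) : Prop where
  fix : ∀ y, X *ᵥ pt y v = 0
  mid : ∀ y b, D.f b v = 0 → ∃ z, X *ᵥ pt y b = pt z v
  top : ∀ w, D.ct v (X *ᵥ w) = 0

/-- The middle block. -/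
noncomputable def Duo.beta (v' : Fin k → F) (g : GL (Fin n × Fin k) F) (b : Fin k → F) :
    Matrix (Fin n) (Fin n) F := D.cR v' b (g.val - 1)

section
variable {D} {v v' : Fin k → F} (hv : D.f v v' = 1)
include hv

lemma Duo.beta_eq {g : GL (Fin n × Fin k) F} (hg : D.IsRad v (g.val - 1)) (y : Fin n → F) {b : Fin k → F}
    (hb : D.f b v = 0) : (g.val - 1) *ᵥ pt y b = pt (D.beta v' g b *ᵥ y) v := by
  obtain ⟨z, hz⟩ := hg.mid y b hb
  rw [Duo.beta, D.cR_mulVec, hz, D.ct_pt, hv, one_smul]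

lemma Duo.rad_vec {g : GL (Fin n × Fin k) F} (hg : D.IsRad v (g.val - 1)) (y : Fin n → F) {b : Fin k → F}
    (hb : D.f b v = 0) : g.val *ᵥ pt y b = pt y b + pt (D.beta v' g b *ᵥ y) v := by
  rw [← Duo.beta_eq hv hg y hb, sub_mulVec, one_mulVec, add_sub_cancel]

lemma Duo.rad_fix {g : GL (Fin n × Fin k) F} (hg : D.IsRad v (g.val - 1)) (y : Fin n → F) :
    g.val *ᵥ pt y v = pt y v := by
  have := hg.fix y
  rwa [sub_mulVec, one_mulVec, sub_eq_zero] at this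

lemma Duo.ct_rad {g : GL (Fin n × Fin k) F} (hg : D.IsRad v (g.val - 1)) (w : Fin n × Fin k → F) :
    D.ct v (g.val *ᵥ w) = D.ct v w := by
  have := hg.top w
  rwa [sub_mulVec, one_mulVec, map_sub, sub_eq_zero] at this

lemma Duo.beta_of_vec {g : GL (Fin n × Fin k) F} {b : Fin k → F} {B : Matrix (Fin n) (Fin n) F}
    (h : ∀ y, g.val *ᵥ pt y b = pt y b + pt (B *ᵥ y) v) : D.beta v' g b = B :=
  Matrix.ext_iff_mulVec.2 fun y => by
    rw [Duo.beta, D.cR_mulVec, sub_mulVec, h, one_mulVec, add_sub_cancel_left, D.ct_pt, hv, one_smul]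

lemma Duo.isRad_mk {g : GL (Fin n × Fin k) F} (h1 : ∀ y, g.val *ᵥ pt y v = pt y v)
    (h2 : ∀ y b, D.f b v = 0 → ∃ z, g.val *ᵥ pt y b = pt y b + pt z v)
    (h3 : ∀ w, D.ct v (g.val *ᵥ w) = D.ct v w) : D.IsRad v (g.val - 1) where
  fix y := by rw [sub_mulVec, one_mulVec, h1, sub_self]
  mid y b hb := by
    obtain ⟨z, hz⟩ := h2 y b hb
    exact ⟨z, by rw [sub_mulVec, one_mulVec, hz, add_sub_cancel_left]⟩
  top w := by rw [sub_mulVec, one_mulVec, map_sub, h3, sub_self]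

lemma Duo.rad_mul {g h : GL (Fin n × Fin k) F} (hg : D.IsRad v (g.val - 1)) (hh : D.IsRad v (h.val - 1)) :
    D.IsRad v ((g * h).val - 1) ∧
      ∀ b, D.f b v = 0 → D.beta v' (g * h) b = D.beta v' g b + D.beta v' h b := by
  have key : ∀ y b, D.f b v = 0 → (g * h).val *ᵥ pt y b =
      pt y b + pt ((D.beta v' g b + D.beta v' h b) *ᵥ y) v := fun y b hb => by
    rw [Transvec.mul_mulVec, Duo.rad_vec hv hh y hb, mulVec_add, Duo.rad_vec hv hg y hb, Duo.rad_fix hv hg,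
      add_mulVec, pt_add_left, add_assoc]
  refine ⟨Duo.isRad_mk hv (fun y => ?_) (fun y b hb => ⟨_, key y b hb⟩) fun w => ?_,
    fun b hb => Duo.beta_of_vec hv fun y => key y b hb⟩
  · rw [Transvec.mul_mulVec, Duo.rad_fix hv hh, Duo.rad_fix hv hg]
  · rw [Transvec.mul_mulVec, Duo.ct_rad hv hg, Duo.ct_rad hv hh]

lemma Duo.rad_inv {g : GL (Fin n × Fin k) F} (hg : D.IsRad v (g.val - 1)) :
    D.IsRad v (g⁻¹.val - 1) ∧ ∀ b, D.f b v = 0 → D.beta v' g⁻¹ b = -D.beta v' g b := by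
  have hfix : ∀ y, g⁻¹.val *ᵥ pt y v = pt y v := fun y => by
    conv_lhs => rw [← Duo.rad_fix hv hg y, Transvec.inv_mulVec_cancel]
  have key : ∀ y b, D.f b v = 0 → g⁻¹.val *ᵥ pt y b = pt y b + pt ((-D.beta v' g b) *ᵥ y) v := fun y b hb => by
    refine mulVec_injective g ?_
    simp only
    rw [Transvec.mulVec_inv_cancel, mulVec_add, Duo.rad_vec hv hg y hb, Duo.rad_fix hv hg, add_assoc,
      ← pt_add_left, neg_mulVec, add_neg_cancel, pt_zero_left, add_zero]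
  refine ⟨Duo.isRad_mk hv hfix (fun y b hb => ⟨_, key y b hb⟩) fun w => ?_,
    fun b hb => Duo.beta_of_vec hv fun y => key y b hb⟩
  conv_rhs => rw [← Transvec.mulVec_inv_cancel g w, Duo.ct_rad hv hg]

/-- Conjugation by a product element fixing `v`. -/
lemma Duo.rad_conj {g h : GL (Fin n × Fin k) F} (hg : D.IsRad v (g.val - 1)) (A : GL (Fin n) F)
    (σ : GL (Fin k) F) (hh : h = kr A σ) (hσ : ∀ x y, D.f (σ.val *ᵥ x) (σ.val *ᵥ y) = D.f x y)
    (hσv : σ.val *ᵥ v = v) :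
    D.IsRad v ((h * g * h⁻¹).val - 1) ∧ ∀ b, D.f b v = 0 →
      D.beta v' (h * g * h⁻¹) b = A.val * D.beta v' g (σ⁻¹.val *ᵥ b) * A⁻¹.val := by
  have hh' : h⁻¹ = kr A⁻¹ σ⁻¹ := by rw [hh]; exact Units.ext rfl
  have hv0 : σ⁻¹.val *ᵥ v = v := by
    conv_lhs => rw [← hσv, Transvec.inv_mulVec_cancel]
  have hb' : ∀ b, D.f b v = 0 → D.f (σ⁻¹.val *ᵥ b) v = 0 := fun b hb => by
    rw [← hσ, Transvec.mulVec_inv_cancel, hσv, hb]
  have key : ∀ y b, D.f b v = 0 → (h * g * h⁻¹).val *ᵥ pt y b =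
      pt y b + pt ((A.val * D.beta v' g (σ⁻¹.val *ᵥ b) * A⁻¹.val) *ᵥ y) v := fun y b hb => by
    rw [Transvec.mul_mulVec, Transvec.mul_mulVec, hh', kr_apply, Duo.rad_vec hv hg _ (hb' b hb), mulVec_add, hh,
      kr_apply, kr_apply, Transvec.mulVec_inv_cancel, Transvec.mulVec_inv_cancel, hσv, ← mulVec_mulVec,
      ← mulVec_mulVec]
  refine ⟨Duo.isRad_mk hv (fun y => ?_) (fun y b hb => ⟨_, key y b hb⟩) fun w => ?_,
    fun b hb => Duo.beta_of_vec hv fun y => key y b hb⟩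
  · rw [Transvec.mul_mulVec, Transvec.mul_mulVec, hh', kr_apply, hv0, Duo.rad_fix hv hg, hh, kr_apply,
      Transvec.mulVec_inv_cancel, hσv]
  · have hct : ∀ (B : GL (Fin n) F) (τ : GL (Fin k) F), (∀ x y, D.f (τ.val *ᵥ x) (τ.val *ᵥ y) = D.f x y) →
        τ.val *ᵥ v = v → ∀ z, D.ct v ((kr B τ).val *ᵥ z) = B.val *ᵥ D.ct v z := fun B τ hτ hτv z =>
      D.ct_kron (fun b => (congrArg (D.f (τ.val *ᵥ b)) hτv).symm.trans (hτ b v)) z
    rw [Transvec.mul_mulVec, Transvec.mul_mulVec, hh', hh, hct A σ hσ hσv, Duo.ct_rad hv hg,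
      hct A⁻¹ σ⁻¹ (fun x y => by rw [← hσ, Transvec.mulVec_inv_cancel, Transvec.mulVec_inv_cancel]) hv0,
      Transvec.mulVec_inv_cancel]

/-- A matrix pushing the flag down twice is a shear. -/
lemma Duo.eq_shear {X : Matrix (Fin n × Fin k) (Fin n × Fin k) F}
    (h0 : ∀ y b, D.f b v = 0 → X *ᵥ pt y b = 0) (h1 : ∀ y, ∃ z, X *ᵥ pt y v' = pt z v) :
    X = (-D.cR v' v' X) ⊗ₖ outer D.f v v := by
  refine mat_ext_pt fun y b => ?_
  obtain ⟨z, hz⟩ := h1 y
  have hb : D.f (b + D.f b v • v') v = 0 := by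
    rw [D.f_add, D.f_smul, D.symp.skew v' v, hv]; ring
  have e : pt y b = pt y (b + D.f b v • v') - D.f b v • pt y v' := by
    rw [pt_add_right, pt_smul_right, add_sub_cancel_right]
  rw [D.outer_pt, neg_mulVec, D.cR_mulVec, hz, D.ct_pt, hv, one_smul, e, mulVec_sub, h0 _ _ hb, mulVec_smul, hz,
    zero_sub, smul_neg, show -(D.f b v • z) = (-(D.f b v)) • z from (neg_smul _ _).symm, pt_smul_left, neg_smul]

/-- The commutator of two such elements. -/
lemma Duo.rad_comm {g h : GL (Fin n × Fin k) F} (hg : D.IsRad v (g.val - 1)) (hh : D.IsRad v (h.val - 1)) :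
    (g * h * (h * g)⁻¹).val = 1 + (-D.cR v' v' ((g.val - 1) * (h.val - 1) - (h.val - 1) * (g.val - 1))) ⊗ₖ
      outer D.f v v := by
  obtain ⟨X, hX⟩ : ∃ X, X = (g.val - 1) * (h.val - 1) - (h.val - 1) * (g.val - 1) := ⟨_, rfl⟩
  have h0 : ∀ y b, D.f b v = 0 → X *ᵥ pt y b = 0 := fun y b hb => by
    rw [hX, sub_mulVec, ← mulVec_mulVec, ← mulVec_mulVec, Duo.beta_eq hv hh y hb, Duo.beta_eq hv hg y hb,
      hg.fix, hh.fix, sub_zero]
  have hperp : ∀ {W : GL (Fin n × Fin k) F}, D.IsRad v (W.val - 1) → ∀ w, D.ct v w = 0 →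
      (W.val - 1) *ᵥ w ∈ pureW n v := fun {W} hW w hw => by
    obtain ⟨L, hL⟩ : ∃ L : Matrix (Fin n × Fin k) (Fin n × Fin k) F,
        L = ((1 : Matrix (Fin n) (Fin n) F) ⊗ₖ outer D.f v v') * (W.val - 1) := ⟨_, rfl⟩
    rw [D.ext_perp hv (X := W.val - 1) (Y := L) (fun y b hb => by
      rw [hL, ← mulVec_mulVec, Duo.beta_eq hv hW y hb, D.outer_pt, hv, one_smul, one_mulVec]) hw, hL,
      ← mulVec_mulVec, D.outer_vec]
    exact pt_mem_pureW _ _
  have h1 : ∀ y, ∃ z, X *ᵥ pt y v' = pt z v := fun y => by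
    obtain ⟨z, hz⟩ := hperp hg _ (hh.top (pt y v'))
    obtain ⟨z', hz'⟩ := hperp hh _ (hg.top (pt y v'))
    exact ⟨z - z', by
      rw [hX, sub_mulVec, ← mulVec_mulVec, ← mulVec_mulVec, ← hz, ← hz', ptL_apply, ptL_apply, ← ptL_apply,
        ← ptL_apply, ← map_sub, ptL_apply]⟩
  have hq : D.IsRad v ((h * g)⁻¹.val - 1) := (Duo.rad_inv hv (Duo.rad_mul hv hh hg).1).1
  have hXq : X * (h * g)⁻¹.val = X := by
    refine mat_ext_pt fun y b => ?_
    rw [← mulVec_mulVec, ← sub_eq_zero, ← mulVec_sub, show (h * g)⁻¹.val *ᵥ pt y b - pt y b =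
      ((h * g)⁻¹.val - 1) *ᵥ pt y b by rw [sub_mulVec, one_mulVec],
      D.ext_perp hv (X := X) (Y := 0) (fun y b hb => by rw [h0 y b hb, zero_mulVec]) (hq.top _), zero_mulVec]
  have e : (g * h).val - (h * g).val = X := by
    rw [hX, Units.val_mul, Units.val_mul]; noncomm_ring
  rw [← hX, ← Duo.eq_shear hv h0 h1]
  conv_rhs => rw [← hXq, ← e, sub_mul, Units.mul_inv, add_sub_cancel, ← Units.val_mul]

/-- The block opposite to a middle one. -/
lemma Duo.cR_opp {g : GL (Fin n × Fin k) F} (hg : D.Iso g) (hr : D.IsRad v (g.val - 1)) {m : Fin k → F}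
    (hm : D.f m v = 0) : D.cR m v' (g.val - 1) = D.adjR (D.beta v' g m) := by
  have hg' : D.Iso g⁻¹ := by
    have e := hg
    unfold Duo.Iso at e ⊢
    conv_lhs => rw [← e]
    rw [show (g⁻¹.val)ᵀ * ((g.val)ᵀ * D.G * g.val) * g⁻¹.val =
      ((g⁻¹.val)ᵀ * (g.val)ᵀ) * D.G * (g.val * g⁻¹.val) by simp only [mul_assoc],
      ← transpose_mul, Units.mul_inv, transpose_one, one_mul, mul_one]
  have e : g.val - 1 = D.adjV (g⁻¹.val - 1) := by
    conv_lhs => rw [show g.val = (g⁻¹)⁻¹.val by rw [inv_inv], ← hg'.adjV_eq]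
    simp [Duo.adjV, mul_sub, sub_mul, Matrix.nonsing_inv_mul _ D.G_unit]
  rw [e, D.cR_adj, ← Duo.beta, (Duo.rad_inv hv hr).2 m hm, D.adjR_neg, neg_neg]

/-- The second-order block of a product with a rank-one element. -/
lemma Duo.cR_prod {g h : GL (Fin n × Fin k) F} (hgi : D.Iso g) (hg : D.IsRad v (g.val - 1))
    (hh : D.IsRad v (h.val - 1)) {m : Fin k → F} (hm : D.f m v = 0) {K : Matrix (Fin n) (Fin n) F}
    (hK : ∀ b, D.f b v = 0 → D.beta v' h b = D.f b m • K) :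
    D.cR v' v' ((h.val - 1) * (g.val - 1)) = K * D.adjR (D.beta v' g m) := by
  refine Matrix.ext_iff_mulVec.2 fun y => ?_
  rw [D.cR_mulVec, ← mulVec_mulVec, ← Duo.cR_opp hv hgi hg hm, ← mulVec_mulVec, D.cR_mulVec,
    D.ext_perp hv (X := h.val - 1) (Y := K ⊗ₖ outer D.f v m) (fun y b hb => by
      rw [Duo.beta_eq hv hh y hb, hK b hb, D.outer_pt, smul_mulVec]) (hg.top _), D.outer_vec, D.ct_pt, hv, one_smul]

end

/-- The radical slot element. -/
lemma Duo.exists_q {M : Subgroup (GL (Fin n × Fin k) F)} (hM : D.Side M) {v w : Fin k → F} (hw : D.f w v = 0) :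
    ∃ σ : GL (Fin k) F, slot σ ∈ M ∧ (∀ x, σ.val *ᵥ x = x + D.f x w • v + D.f x v • w) ∧
      ∀ x y, D.f (σ.val *ᵥ x) (σ.val *ᵥ y) = D.f x y := by
  refine ⟨D.tr (v + w) 1 * (D.tr v (-1) * D.tr w (-1)), ?_, fun x => ?_, fun x y => ?_⟩
  · rw [map_mul, map_mul]
    exact mul_mem (hM.root _ _) (mul_mem (hM.root _ _) (hM.root _ _))
  · rw [Transvec.mul_mulVec, Transvec.mul_mulVec, D.tr_mulVec, D.tr_mulVec, D.tr_mulVec]
    simp only [D.f_add, D.f_add', D.f_smul, D.f_smul', D.symp.alternating, hw, D.symp.skew v w, mul_zero, neg_zero,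
      add_zero]
    funext i
    simp only [Pi.add_apply, Pi.smul_apply, smul_eq_mul]
    ring
  · simp only [Transvec.mul_mulVec, D.tr_iso]

theorem Duo.beta_scalar (h2 : (2 : F) ≠ 0) {M : Subgroup (GL (Fin n × Fin k) F)} (hM : D.Side M)
    (hnc : D.NoCliff M) {v v' : Fin k → F} (hv : D.f v v' = 1) {g : GL (Fin n × Fin k) F} (hg : g ∈ M)
    (hr : D.IsRad v (g.val - 1)) {b : Fin k → F} (hb : D.f b v = 0) : ∃ c : F, D.beta v' g b = c • 1 := by
  classical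
  have hv0 : v ≠ 0 := fun h => by
    have := D.f_smul 0 v v'
    rw [zero_smul, ← h, hv, zero_mul] at this
    exact one_ne_zero this
  have hpair : ∀ g ∈ M, ∀ h ∈ M, D.IsRad v (g.val - 1) → D.IsRad v (h.val - 1) →
      ∃ c : F, D.cR v' v' ((g.val - 1) * (h.val - 1) - (h.val - 1) * (g.val - 1)) = c • 1 := by
    intro g hg h hh hgr hhr
    obtain ⟨c, hc⟩ := hM.scalar _ (mul_mem (mul_mem hg hh) (inv_mem (mul_mem hh hg))) v hv0 _
      (Duo.rad_comm hv hgr hhr)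
    exact ⟨-c, by rw [neg_smul, ← hc, neg_neg]⟩
  have hq : ∀ w, D.f w v = 0 → ∃ q ∈ M, D.IsRad v (q.val - 1) ∧
      (∀ b, D.f b v = 0 → D.beta v' q b = D.f b w • 1) ∧
      ∀ y, (q.val - 1) *ᵥ pt y v' = pt (D.f v' w • y) v - pt y w := by
    intro w hw
    obtain ⟨σ, hσM, hσ, -⟩ := D.exists_q hM hw
    have hvec : ∀ (y : Fin n → F) x,
        (slot σ).val *ᵥ pt y x = pt y x + pt (D.f x w • y) v + pt (D.f x v • y) w := fun y x => by
      rw [slot_pt, hσ, pt_add_right, pt_add_right, pt_smul_right, pt_smul_right, pt_smul_left, pt_smul_left]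
    have hrad : D.IsRad v ((slot σ).val - 1) := Duo.isRad_mk hv (fun y => by
        rw [hvec, D.symp.alternating, D.symp.skew v w, hw]; simp [pt_zero_left])
      (fun y b hb => ⟨D.f b w • y, by rw [hvec, hb]; simp [pt_zero_left]⟩) fun z => by
        rw [slot_val, D.ct_kron (a' := v) (fun x => by
          rw [hσ, D.f_add, D.f_add, D.f_smul, D.f_smul, D.symp.alternating, hw]; ring), one_mulVec]
    refine ⟨_, hσM, hrad, fun b hb => Duo.beta_of_vec hv fun y => ?_, fun y => ?_⟩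
    · rw [hvec, hb, smul_mulVec, one_mulVec]; simp [pt_zero_left]
    · rw [sub_mulVec, one_mulVec, hvec, D.symp.skew v' v, hv, neg_one_smul,
        show pt (-y) w = -pt y w from funext fun i => by simp [pt]]
      abel
  -- the symmetric part is scalar
  have hsym : ∀ g ∈ M, D.IsRad v (g.val - 1) → ∀ w, D.f w v = 0 →
      ∃ c : F, D.beta v' g w + D.adjR (D.beta v' g w) = c • 1 := by
    intro g hg hgr w hw
    obtain ⟨q, hqM, hqr, hqb, hqv⟩ := hq w hw
    obtain ⟨c, hc⟩ := hpair g hg q hqM hgr hqr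
    have e : D.cR v' v' ((g.val - 1) * (q.val - 1)) = -D.beta v' g w := Matrix.ext_iff_mulVec.2 fun y => by
      rw [D.cR_mulVec, ← mulVec_mulVec, hqv, mulVec_sub, hgr.fix, Duo.beta_eq hv hgr y hw, zero_sub, map_neg,
        D.ct_pt, hv, one_smul, neg_mulVec]
    rw [D.cR_sub, e, Duo.cR_prod hv (hM.iso g hg) hgr hqr hw hqb, one_mul] at hc
    exact ⟨-c, by rw [neg_smul, ← hc]; abel⟩
  -- reduce to a middle vector
  obtain ⟨m, hm⟩ : ∃ m, m = b - D.f b v' • v := ⟨_, rfl⟩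
  have hmv : D.f m v = 0 := by rw [hm, D.f_sub, D.f_smul, D.symp.alternating, hb]; ring
  have hmv' : D.f m v' = 0 := by rw [hm, D.f_sub, D.f_smul, hv]; ring
  have hbm : ∀ g : GL (Fin n × Fin k) F, D.IsRad v (g.val - 1) → D.beta v' g b = D.beta v' g m := fun g hgr => by
    rw [hm, Duo.beta, Duo.beta, show b - D.f b v' • v = b + (-(D.f b v')) • v by rw [neg_smul, sub_eq_add_neg],
      D.cR_add_right, D.cR_smul_right]
    suffices h : D.cR v' v (g.val - 1) = 0 by rw [h, smul_zero, add_zero]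
    exact Matrix.ext_iff_mulVec.2 fun y => by rw [D.cR_mulVec, hgr.fix, map_zero, zero_mulVec]
  rw [hbm g hr]
  by_cases hm0 : m = 0
  · refine ⟨0, ?_⟩
    rw [zero_smul, hm0, ← zero_smul F v, Duo.beta, D.cR_smul_right, zero_smul]
  obtain ⟨z, hz⟩ := (D.symp.nondegenerate m hm0).2
  obtain ⟨m', hm'⟩ : ∃ m', m' = (D.f m z)⁻¹ • (z - D.f z v' • v + D.f z v • v') := ⟨_, rfl⟩
  have hm'v : D.f m' v = 0 := by
    rw [hm', D.f_smul, D.f_add, D.f_sub, D.f_smul, D.f_smul, D.symp.alternating, D.symp.skew v' v, hv]; ring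
  have hm'v' : D.f m' v' = 0 := by
    rw [hm', D.f_smul, D.f_add, D.f_sub, D.f_smul, D.f_smul, D.symp.alternating, hv]; ring
  have hmm : D.f m m' = 1 := by
    rw [hm', D.f_smul', D.f_add', D.f_sub', D.f_smul', D.f_smul', hmv, hmv', mul_zero, mul_zero, sub_zero,
      add_zero, inv_mul_cancel₀ hz]
  obtain ⟨𝒦, h𝒦⟩ : ∃ 𝒦 : AddSubgroup (Matrix (Fin n) (Fin n) F), ∀ K, K ∈ 𝒦 ↔
      D.adjR K = -K ∧ ∃ g ∈ M, D.IsRad v (g.val - 1) ∧ D.beta v' g m = K := by
    refine ⟨{ carrier := {K | D.adjR K = -K ∧ ∃ g ∈ M, D.IsRad v (g.val - 1) ∧ D.beta v' g m = K}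
              zero_mem' := ⟨by rw [D.adjR_zero, neg_zero], 1, M.one_mem,
                Duo.isRad_mk hv (fun y => by simp) (fun y b _ => ⟨0, by simp [pt_zero_left]⟩) (fun w => by simp),
                by simp [Duo.beta, D.cR_zero]⟩
              add_mem' := ?_
              neg_mem' := ?_ }, fun K => Iff.rfl⟩
    · rintro _ _ ⟨h1, g, hg, hgr, rfl⟩ ⟨h2, h, hh, hhr, rfl⟩
      exact ⟨by rw [D.adjR_add, h1, h2, neg_add], g * h, mul_mem hg hh, (Duo.rad_mul hv hgr hhr).1,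
        (Duo.rad_mul hv hgr hhr).2 m hmv⟩
    · rintro _ ⟨h1, g, hg, hgr, rfl⟩
      exact ⟨by rw [D.adjR_neg, h1], g⁻¹, inv_mem hg, (Duo.rad_inv hv hgr).1, (Duo.rad_inv hv hgr).2 m hmv⟩
  -- a rank-one element from any
  have hone : ∀ x, D.f x v = 0 → D.f x v' = 0 → ∀ h ∈ M, D.IsRad v (h.val - 1) → ∃ h' ∈ M,
      D.IsRad v (h'.val - 1) ∧ ∀ b, D.f b v = 0 → D.beta v' h' b = D.f b x • D.beta v' h x := by
    intro x hxv hxv' h hh hhr
    have hτv : (D.tr x (-1)).val *ᵥ v = v := by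
      rw [D.tr_mulVec, D.symp.skew v x, hxv, neg_zero, mul_zero, zero_smul, add_zero]
    obtain ⟨hr1, hb1⟩ := Duo.rad_conj (h := slot (D.tr x (-1))) hv hhr 1 (D.tr x (-1)) rfl (D.tr_iso x (-1)) hτv
    obtain ⟨hr2, hb2⟩ := Duo.rad_mul hv hr1 (Duo.rad_inv hv hhr).1
    refine ⟨_, mul_mem (mul_mem (mul_mem (hM.root x (-1)) hh) (inv_mem (hM.root x (-1)))) (inv_mem hh), hr2,
      fun b hb => ?_⟩
    have hinv : (D.tr x (-1))⁻¹.val *ᵥ b = b + D.f b x • x := mulVec_injective (D.tr x (-1)) (by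
      simp only
      rw [Transvec.mulVec_inv_cancel, mulVec_add, mulVec_smul, D.tr_mulVec, D.tr_mulVec, D.symp.alternating]
      funext i; simp)
    rw [hb2 b hb, hb1 b hb, (Duo.rad_inv hv hhr).2 b hb, hinv, Units.val_one, inv_one, Units.val_one, one_mul, mul_one,
      Duo.beta, Duo.beta, D.cR_add_right, D.cR_smul_right]
    abel
  have hanti : ∀ K ∈ 𝒦, ∀ K' ∈ 𝒦, ∃ c : F, K * K' + K' * K = c • 1 := by
    intro K hK K' hK'
    obtain ⟨hKs, g₁, hg₁, hr₁, rfl⟩ := (h𝒦 K).mp hK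
    obtain ⟨hK's, g₂, hg₂, hr₂, rfl⟩ := (h𝒦 K').mp hK'
    -- move the second to the partner
    have hσm : (D.tr (m' - m) 1).val *ᵥ m = m' := by
      rw [D.tr_mulVec, D.f_sub', hmm, D.symp.alternating]; simp
    have hσv : (D.tr (m' - m) 1).val *ᵥ v = v := by
      rw [D.tr_mulVec, D.symp.skew v, D.f_sub, hm'v, hmv]; simp
    obtain ⟨hr₂', hb₂'⟩ := Duo.rad_conj (h := slot (D.tr (m' - m) 1)) hv hr₂ 1 (D.tr (m' - m) 1) rfl (D.tr_iso _ 1) hσv
    have hm'm : (D.tr (m' - m) 1)⁻¹.val *ᵥ m' = m := by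
      refine mulVec_injective (D.tr (m' - m) 1) ?_
      simp only
      rw [Transvec.mulVec_inv_cancel, hσm]
    obtain ⟨h₁, hh₁, hR₁, hB₁⟩ := hone m hmv hmv' g₁ hg₁ hr₁
    obtain ⟨h₂, hh₂, hR₂, hB₂⟩ := hone m' hm'v hm'v' _
      (mul_mem (mul_mem (hM.root _ 1) hg₂) (inv_mem (hM.root _ 1))) hr₂'
    have hK2 : D.beta v' (slot (D.tr (m' - m) 1) * g₂ * (slot (D.tr (m' - m) 1))⁻¹) m' = D.beta v' g₂ m := by
      refine (hb₂' m' hm'v).trans ?_
      rw [hm'm, inv_one, Units.val_one, one_mul, mul_one]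
    simp only [hK2] at hB₂
    obtain ⟨c, hc⟩ := hpair h₁ hh₁ h₂ hh₂ hR₁ hR₂
    rw [D.cR_sub, Duo.cR_prod hv (hM.iso _ hh₂) hR₂ hR₁ hmv hB₁, Duo.cR_prod hv (hM.iso _ hh₁) hR₁ hR₂ hm'v hB₂,
      hB₁ m' hm'v, hB₂ m hmv, hmm, D.symp.skew m' m, hmm, D.adjR_smul, D.adjR_smul, hKs, hK's] at hc
    refine ⟨-c, ?_⟩
    rw [neg_smul, ← hc]
    simp [Matrix.mul_neg, sub_eq_add_neg]
    abel
  have hinv : ∀ A : GL (Fin n) F, kr A (1 : GL (Fin k) F) ∈ M → ∀ K ∈ 𝒦, A.val * K * A⁻¹.val ∈ 𝒦 := by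
    intro A hA K hK
    obtain ⟨hKs, g₁, hg₁, hr₁, rfl⟩ := (h𝒦 K).mp hK
    have hA' : D.adjR A.val = A⁻¹.val := by
      have e := congrArg (D.cR v' v) (hM.iso _ hA).adjV_eq
      rw [show (kr A (1 : GL (Fin k) F)).val = A.val ⊗ₖ (1 : Matrix (Fin k) (Fin k) F) from rfl, D.cR_adj,
        show (kr A (1 : GL (Fin k) F))⁻¹.val = A⁻¹.val ⊗ₖ ((1 : GL (Fin k) F)⁻¹).val from rfl, inv_one,
        Units.val_one, D.cR_kron, D.cR_kron, one_mulVec, one_mulVec, D.symp.skew v' v, hv, neg_one_smul,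
        D.adjR_neg, neg_neg, one_smul] at e
      exact e
    obtain ⟨hr', hb'⟩ := Duo.rad_conj hv hr₁ A 1 rfl (fun x y => by simp) (by simp)
    refine (h𝒦 _).mpr ⟨?_, _, mul_mem (mul_mem hA hg₁) (inv_mem hA), hr', ?_⟩
    · rw [D.adjR_mul, D.adjR_mul, hKs, ← hA', D.adjR_adjR, hA', Matrix.neg_mul, Matrix.mul_neg, mul_assoc]
    · rw [hb' m hmv, inv_one, Units.val_one, one_mulVec]
  have hk4 : 4 ≤ k := by
    have hli : LinearIndependent F ![v, v', m] := by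
      rw [Fintype.linearIndependent_iff]
      intro g hg i
      simp [Fin.sum_univ_three] at hg
      have e1 := congrArg (fun x => D.f x v') hg
      have e2 := congrArg (fun x => D.f x v) hg
      have e0 : ∀ x, D.f 0 x = 0 := fun x => by have := D.f_smul 0 x x; rwa [zero_smul, zero_mul] at this
      simp only [D.f_add, D.f_smul, hv, hmv, hmv', D.symp.alternating, D.symp.skew v' v, e0, mul_zero, add_zero,
        zero_add, mul_one] at e1 e2
      have g0 : g 0 = 0 := e1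
      have g1 : g 1 = 0 := by simpa using e2
      rw [g0, g1, zero_smul, zero_smul, zero_add, zero_add, smul_eq_zero] at hg
      fin_cases i
      · exact g0
      · exact g1
      · exact hg.resolve_right hm0
    have h3 := hli.fintype_card_le_finrank
    rw [Module.finrank_fin_fun, Fintype.card_fin] at h3
    obtain ⟨j, hj⟩ := SympO.even_dim D.symp
    omega
  have hbot := hnc hk4 𝒦 (fun K hK => ((h𝒦 K).mp hK).1) hinv hanti
  obtain ⟨c, hc⟩ := hsym g hg hr m hmv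
  obtain ⟨d, hd⟩ : ∃ d : F, d = 2⁻¹ * c := ⟨_, rfl⟩
  obtain ⟨q, hqM, hqr, hqb, -⟩ := hq ((-d) • m') (by rw [D.f_smul, hm'v, mul_zero])
  have hβ : D.beta v' (g * q) m = D.beta v' g m - d • 1 := by
    rw [(Duo.rad_mul hv hr hqr).2 m hmv, hqb m hmv, D.f_smul', hmm, mul_one, neg_smul, sub_eq_add_neg]
  have hmem : D.beta v' g m - d • 1 ∈ 𝒦 := (h𝒦 _).mpr ⟨by
    rw [sub_eq_add_neg, D.adjR_add, D.adjR_neg, D.adjR_smul, D.adjR_one,
      show D.adjR (D.beta v' g m) = c • 1 - D.beta v' g m by rw [← hc, add_sub_cancel_left],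
      show c = d + d by rw [hd]; field_simp; ring, add_smul]
    abel, _, mul_mem hg hqM, (Duo.rad_mul hv hr hqr).1, hβ⟩
  rw [hbot, AddSubgroup.mem_bot, sub_eq_zero] at hmem
  exact ⟨d, hmem⟩

end CfsgLib.Classical22.TPow
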