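/-
An element mapping one pure subspace to another: its blocks off the opposite corner.
-/
import Cfsg.Agent.Lib.Classical22.TensorPower.Rad

set_option autoImplicit false
set_option linter.unusedSectionVars false
set_option linter.unusedSimpArgs false

namespace CfsgLib.Classical22.TPow

open Matrix Kronecker CfsgLib.Transvec CfsgLib.Classical22.TensorMax CfsgLib.Classical22.TensorMax.SympO
open CfsgLib.Classical22.TensorMax.SpO (kr kr_apply)
open scoped MatrixGroups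

variable {F : Type*} [Field F] {n k : ℕ} (D : Duo F n k)

lemma Duo.f_right_zero (x : Fin k → F) : D.f x 0 = 0 := by
  have := D.f_smul' 0 x 0
  rwa [zero_smul, zero_mul] at this

/-- A partner of a non-zero vector. -/
lemma Duo.exists_dual {u : Fin k → F} (hu : u ≠ 0) : ∃ u', D.f u u' = 1 := by
  obtain ⟨z, hz⟩ := (D.symp.nondegenerate u hu).2
  exact ⟨(D.f u z)⁻¹ • z, by rw [D.f_smul', inv_mul_cancel₀ hz]⟩

/-- The torus at a hyperbolic pair, as a product of transvections. -/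
lemma Duo.exists_torus {M : Subgroup (GL (Fin n × Fin k) F)} (hM : D.Side M) {u u' : Fin k → F}
    (hu : D.f u u' = 1) {a : F} (ha : a ≠ 0) : ∃ σ : GL (Fin k) F, slot σ ∈ M ∧
      (∀ x, σ.val *ᵥ x = x + ((a - 1) * D.f x u') • u + ((a⁻¹ - 1) * D.f u x) • u') ∧
      ∀ x y, D.f (σ.val *ᵥ x) (σ.val *ᵥ y) = D.f x y := by
  obtain ⟨w, hwM, hw, hwi⟩ : ∃ w : F → GL (Fin k) F, (∀ c, slot (w c) ∈ M) ∧
      (∀ c, c ≠ 0 → ∀ x, (w c).val *ᵥ x =
        x + (D.f x u * c - D.f x u') • u + (D.f x u + D.f x u' * c⁻¹) • u') ∧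
      ∀ c x y, D.f ((w c).val *ᵥ x) ((w c).val *ᵥ y) = D.f x y := by
    refine ⟨fun c => D.tr u c * (D.tr u' c⁻¹ * D.tr u c), fun c => ?_, fun c hc x => ?_, fun c x y => ?_⟩
    · rw [map_mul, map_mul]
      exact mul_mem (hM.root _ _) (mul_mem (hM.root _ _) (hM.root _ _))
    · simp only [Transvec.mul_mulVec, D.tr_mulVec, D.f_add, D.f_smul, D.symp.alternating, hu, D.symp.skew u' u]
      funext i
      simp only [Pi.add_apply, Pi.smul_apply, smul_eq_mul]
      field_simp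
      ring
    · simp only [Transvec.mul_mulVec, D.tr_iso]
  refine ⟨w a * (w 1)⁻¹, ?_, fun x => ?_, fun x y => ?_⟩
  · rw [map_mul, map_inv]; exact mul_mem (hwM a) (inv_mem (hwM 1))
  · obtain ⟨z, rfl⟩ : ∃ z, (w 1).val *ᵥ z = x := ⟨(w 1)⁻¹.val *ᵥ x, Transvec.mulVec_inv_cancel _ _⟩
    rw [Transvec.mul_mulVec, Transvec.inv_mulVec_cancel, hw a ha, hw 1 one_ne_zero]
    simp only [D.f_add, D.f_smul, D.f_add', D.f_smul', D.symp.alternating, hu, D.symp.skew u' u, D.symp.skew u z]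
    funext i
    simp only [Pi.add_apply, Pi.smul_apply, smul_eq_mul, inv_one]
    field_simp
    ring
  · obtain ⟨x', rfl⟩ : ∃ z, (w 1).val *ᵥ z = x := ⟨(w 1)⁻¹.val *ᵥ x, Transvec.mulVec_inv_cancel _ _⟩
    obtain ⟨y', rfl⟩ : ∃ z, (w 1).val *ᵥ z = y := ⟨(w 1)⁻¹.val *ᵥ y, Transvec.mulVec_inv_cancel _ _⟩
    rw [Transvec.mul_mulVec, Transvec.mul_mulVec, Transvec.inv_mulVec_cancel, Transvec.inv_mulVec_cancel, hwi, hwi]

lemma Duo.BV_ct (y : Fin n → F) (u : Fin k → F) (w : Fin n × Fin k → F) :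
    D.BV w (pt y u) = D.ct u w ⬝ᵥ (D.GR *ᵥ y) := by
  conv_lhs => rw [eq_sum_pt w]
  conv_rhs => rw [eq_sum_pt w]
  rw [Duo.BV, sum_dotProduct, map_sum, sum_dotProduct]
  refine Finset.sum_congr rfl fun j _ => ?_
  rw [← Duo.BV, D.BV_pt, D.ct_pt, smul_dotProduct, smul_eq_mul, mul_comm]

lemma Duo.eq_of_dot {p q : Fin n → F} (h : ∀ y, p ⬝ᵥ (D.GR *ᵥ y) = q ⬝ᵥ (D.GR *ᵥ y)) : p = q := by
  refine funext fun i => ?_
  have := h (D.GR⁻¹ *ᵥ Pi.single i 1)
  rwa [mulVec_mulVec, Matrix.mul_nonsing_inv _ D.unit, one_mulVec, dotProduct_single, mul_one,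
    dotProduct_single, mul_one] at this

variable {D} {u v : Fin k → F} {L : GL (Fin n) F} {gg : GL (Fin n × Fin k) F}
  (hiso : D.Iso gg) (hW : ∀ y, gg.val *ᵥ pt y u = pt (L.val *ᵥ y) v)
include hiso hW

lemma Duo.ct_map (w : Fin n × Fin k → F) (y : Fin n → F) :
    D.ct v (gg.val *ᵥ w) ⬝ᵥ (D.GR *ᵥ (L.val *ᵥ y)) = D.ct u w ⬝ᵥ (D.GR *ᵥ y) := by
  rw [← D.BV_ct, ← D.BV_ct, ← hW, hiso.BV_eq]

lemma Duo.ct_map_zero {w : Fin n × Fin k → F} (hw : D.ct u w = 0) : D.ct v (gg.val *ᵥ w) = 0 :=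
  D.eq_of_dot fun y => by
    have := Duo.ct_map hiso hW w (L⁻¹.val *ᵥ y)
    rw [Transvec.mulVec_inv_cancel, hw, zero_dotProduct] at this
    rw [this, zero_dotProduct]

omit hiso in
lemma Duo.map_inv (y : Fin n → F) : gg⁻¹.val *ᵥ pt y v = pt (L⁻¹.val *ᵥ y) u := mulVec_injective gg (by
  simp only
  rw [Transvec.mulVec_inv_cancel, hW, Transvec.mulVec_inv_cancel])

omit hW in
lemma Duo.iso_inv' : D.Iso gg⁻¹ := by
  have e : (gg.val)ᵀ * D.G * gg.val = D.G := hiso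
  unfold Duo.Iso
  conv_lhs => rw [← e]
  rw [show (gg⁻¹.val)ᵀ * ((gg.val)ᵀ * D.G * gg.val) * gg⁻¹.val =
    ((gg⁻¹.val)ᵀ * (gg.val)ᵀ) * D.G * (gg.val * gg⁻¹.val) by simp only [mul_assoc],
    ← transpose_mul, Units.mul_inv, transpose_one, one_mul, mul_one]

/-- The preimage of the space orthogonal to `v`. -/
lemma Duo.ct_back_zero (y : Fin n → F) {b : Fin k → F} (hb : D.f b v = 0) :
    D.ct u (gg⁻¹.val *ᵥ pt y b) = 0 :=
  Duo.ct_map_zero (Duo.iso_inv' hiso) (Duo.map_inv hW) (by rw [D.ct_pt, hb, zero_smul])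

/-- The blocks of the inverse out of the space orthogonal to `v`. -/
theorem Duo.back_blocks (h2 : (2 : F) ≠ 0) {Mi Mj : Subgroup (GL (Fin n × Fin k) F)} (hi : D.Side Mi)
    (hj : D.Side Mj) (hnc : D.NoCliff Mj) (hconj : ∀ h ∈ Mi, gg * h * gg⁻¹ ∈ Mj) (hu : u ≠ 0) (hv : v ≠ 0)
    (a : Fin k → F) {b : Fin k → F} (hb : D.f b v = 0) : ∃ c : F, D.cR a b gg⁻¹.val = c • L⁻¹.val := by
  obtain ⟨u', hu'⟩ := D.exists_dual hu
  obtain ⟨v', hv'⟩ := D.exists_dual hv
  have hback := fun y => Duo.ct_back_zero hiso hW y hb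
  have fin : ∀ (B : Matrix (Fin n) (Fin n) F) (c : F), L.val * B = c • 1 → B = c • L⁻¹.val := fun B c h => by
    have := congrArg (L⁻¹.val * ·) h
    simpa [← mul_assoc] using this
  -- the component at `u'`
  have h1 : ∃ c : F, D.cR u' b gg⁻¹.val = c • L⁻¹.val := by
    obtain ⟨σ, hσM, hσ, -⟩ := D.exists_torus hi hu' (a := -1) (by simp)
    obtain ⟨τ, hτM, hτ, -⟩ := D.exists_torus hj hv' (a := -1) (by simp)
    obtain ⟨r, hr⟩ : ∃ r, r = gg * slot σ * gg⁻¹ * slot τ := ⟨_, rfl⟩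
    have hrM : r ∈ Mj := hr ▸ mul_mem (hconj _ hσM) hτM
    have hH : ∀ w, D.ct u w = 0 →
        (slot σ).val *ᵥ w = w + (-2 : F) • pt (D.ct u' w) u := fun w hw => by
      rw [slot_val, show σ.val = 1 + (-2 : F) • outer D.f u u' + (2 : F) • outer D.f u' u from
        Matrix.ext_iff_mulVec.2 fun x => by
          rw [hσ, add_mulVec, add_mulVec, one_mulVec, smul_mulVec, smul_mulVec, outer_mulVec D.symp,
            outer_mulVec D.symp, smul_smul, smul_smul, D.symp.skew u x, inv_neg, inv_one]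
          ring_nf]
      rw [kronecker_add, kronecker_add, one_kronecker_one, kronecker_smul, kronecker_smul, add_mulVec, add_mulVec,
        one_mulVec, smul_mulVec, smul_mulVec, D.outer_vec, D.outer_vec, one_mulVec, one_mulVec, hw, pt_zero_left,
        smul_zero, add_zero]
    have hτv : τ.val *ᵥ v = -v := by
      rw [hτ, hv', D.symp.alternating, mul_one, mul_zero, zero_smul, add_zero, sub_smul, one_smul,
        add_sub_cancel, neg_one_smul]
    have hfix : ∀ y, (gg * slot σ * gg⁻¹).val *ᵥ pt y v = -pt y v := fun y => by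
      rw [Transvec.mul_mulVec, Transvec.mul_mulVec, Duo.map_inv hW, slot_pt, hσ, hu', D.symp.alternating, mul_one,
        mul_zero, zero_smul, add_zero, show ((-1 : F) - 1) • u = (-1 : F) • u - u by rw [sub_smul, one_smul],
        add_sub_cancel, pt_smul_right, mulVec_smul, hW, Transvec.mulVec_inv_cancel, neg_one_smul]
    have hvec : ∀ y x, D.f x v = 0 → r.val *ᵥ pt y x = pt y x +
        pt (((-2 : F) • (L.val * D.cR u' x gg⁻¹.val) + (2 * D.f x v') • (1 : Matrix (Fin n) (Fin n) F)) *ᵥ y) v := by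
      intro y x hx
      have hτx : τ.val *ᵥ x = x + (-2 * D.f x v') • v := by
        rw [hτ, D.symp.skew v x, hx]; norm_num
      rw [hr, Transvec.mul_mulVec, slot_pt, hτx, pt_add_right, pt_smul_right, mulVec_add, mulVec_smul, hfix,
        Transvec.mul_mulVec, Transvec.mul_mulVec, hH _ (Duo.ct_back_zero hiso hW y hx), mulVec_add, mulVec_smul,
        Transvec.mulVec_inv_cancel, hW, ← D.cR_mulVec, add_mulVec, smul_mulVec, smul_mulVec, one_mulVec,
        mulVec_mulVec, pt_add_left, pt_smul_left, pt_smul_left, smul_neg, ← neg_smul, add_assoc]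
      congr 2
      ring_nf
    have hrad : D.IsRad v (r.val - 1) := Duo.isRad_mk hv' (fun y => by
        rw [hr, Transvec.mul_mulVec, slot_pt, hτv, show pt y (-v) = -pt y v from funext fun i => by simp [pt],
          mulVec_neg, hfix, neg_neg])
      (fun y x hx => ⟨_, hvec y x hx⟩) fun w => by
        refine D.eq_of_dot fun y => ?_
        have hc : ∀ (s : GL (Fin k) F) (u₀ : Fin k → F), (∀ x, D.f (s.val *ᵥ x) u₀ = D.f x (-u₀)) → ∀ z,
            D.ct u₀ ((slot s).val *ᵥ z) = -D.ct u₀ z := fun s u₀ hs z => by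
          rw [slot_val, D.ct_kron hs, one_mulVec, ← neg_one_smul F u₀, D.ct_smul, neg_one_smul]
        have hs1 : ∀ x, D.f (σ.val *ᵥ x) u = D.f x (-u) := fun x => by
          rw [hσ, D.f_add, D.f_add, D.f_smul, D.f_smul, D.symp.alternating, D.symp.skew u' u, hu', D.symp.skew u x,
            D.f_neg']
          norm_num; ring
        have hs2 : ∀ x, D.f (τ.val *ᵥ x) v = D.f x (-v) := fun x => by
          rw [hτ, D.f_add, D.f_add, D.f_smul, D.f_smul, D.symp.alternating, D.symp.skew v' v, hv', D.symp.skew v x,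
            D.f_neg']
          norm_num; ring
        obtain ⟨y', rfl⟩ : ∃ y', L.val *ᵥ y' = y := ⟨L⁻¹.val *ᵥ y, Transvec.mulVec_inv_cancel _ _⟩
        obtain ⟨z, hz⟩ : ∃ z, gg.val *ᵥ z = (slot τ).val *ᵥ w := ⟨gg⁻¹.val *ᵥ _, Transvec.mulVec_inv_cancel _ _⟩
        rw [hr, Transvec.mul_mulVec, Transvec.mul_mulVec, Transvec.mul_mulVec, ← hz, Transvec.inv_mulVec_cancel,
          Duo.ct_map hiso hW, hc σ u hs1, neg_dotProduct, ← Duo.ct_map hiso hW, hz, hc τ v hs2, neg_dotProduct,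
          neg_neg]
    obtain ⟨c, hc⟩ := D.beta_scalar h2 hj hnc hv' hrM hrad hb
    rw [Duo.beta_of_vec hv' fun y => hvec y b hb] at hc
    refine ⟨(-2 : F)⁻¹ * (c - 2 * D.f b v'), fin _ _ ?_⟩
    rw [mul_smul, sub_smul, ← hc, add_sub_cancel_right, inv_smul_smul₀ (neg_ne_zero.2 h2)]
  -- the middle components
  have h3 : ∀ m, D.f m u = 0 → ∃ c : F, D.cR m b gg⁻¹.val = c • L⁻¹.val := by
    intro m hm
    obtain ⟨σ, hσM, hσ, -⟩ := D.exists_q hi hm
    obtain ⟨r, hr⟩ : ∃ r, r = gg * slot σ * gg⁻¹ := ⟨_, rfl⟩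
    have hrM : r ∈ Mj := hr ▸ hconj _ hσM
    have hσw : ∀ w : Fin n × Fin k → F, D.ct u w = 0 → (slot σ).val *ᵥ w = w + pt (D.ct m w) u := fun w hw => by
      rw [slot_val, show σ.val = 1 + outer D.f u m + outer D.f m u from Matrix.ext_iff_mulVec.2 fun x => by
        rw [hσ, add_mulVec, add_mulVec, one_mulVec, outer_mulVec D.symp, outer_mulVec D.symp]]
      rw [kronecker_add, kronecker_add, one_kronecker_one, add_mulVec, add_mulVec, one_mulVec, D.outer_vec,
        D.outer_vec, one_mulVec, one_mulVec, hw, pt_zero_left, add_zero]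
    have hvec : ∀ y x, D.f x v = 0 → r.val *ᵥ pt y x = pt y x + pt ((L.val * D.cR m x gg⁻¹.val) *ᵥ y) v := by
      intro y x hx
      rw [hr, Transvec.mul_mulVec, Transvec.mul_mulVec, hσw _ (Duo.ct_back_zero hiso hW y hx), mulVec_add,
        Transvec.mulVec_inv_cancel, hW, ← D.cR_mulVec, mulVec_mulVec]
    have hrad : D.IsRad v (r.val - 1) := Duo.isRad_mk hv' (fun y => by
        rw [hr, Transvec.mul_mulVec, Transvec.mul_mulVec, Duo.map_inv hW, slot_pt, hσ, D.symp.alternating,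
          D.symp.skew u m, hm, neg_zero, zero_smul, zero_smul, add_zero, add_zero, hW, Transvec.mulVec_inv_cancel])
      (fun y x hx => ⟨_, hvec y x hx⟩) fun w => by
        refine D.eq_of_dot fun y => ?_
        obtain ⟨y', rfl⟩ : ∃ y', L.val *ᵥ y' = y := ⟨L⁻¹.val *ᵥ y, Transvec.mulVec_inv_cancel _ _⟩
        obtain ⟨z, rfl⟩ : ∃ z, gg.val *ᵥ z = w := ⟨gg⁻¹.val *ᵥ _, Transvec.mulVec_inv_cancel _ _⟩
        rw [hr, Transvec.mul_mulVec, Transvec.mul_mulVec, Transvec.inv_mulVec_cancel, Duo.ct_map hiso hW,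
          Duo.ct_map hiso hW, slot_val, D.ct_kron (a' := u) (fun x => by
            rw [hσ, D.f_add, D.f_add, D.f_smul, D.f_smul, D.symp.alternating, hm]; ring), one_mulVec]
    obtain ⟨c, hc⟩ := D.beta_scalar h2 hj hnc hv' hrM hrad hb
    rw [Duo.beta_of_vec hv' fun y => hvec y b hb] at hc
    exact ⟨c, fin _ _ hc⟩
  -- combine
  obtain ⟨m, hm⟩ : ∃ m, m = a - (-D.f a u) • u' := ⟨_, rfl⟩
  have hmu : D.f m u = 0 := by rw [hm, D.f_sub, D.f_smul, D.symp.skew u' u, hu']; ring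
  obtain ⟨c1, hc1⟩ := h1
  obtain ⟨c3, hc3⟩ := h3 m hmu
  refine ⟨c3 + (-D.f a u) * c1, ?_⟩
  rw [show a = m + (-D.f a u) • u' by rw [hm, sub_add_cancel], D.cR_add_left, D.cR_smul_left, hc3, hc1, smul_smul,
    ← add_smul]
  rw [show m + (-D.f a u) • u' = a by rw [hm, sub_add_cancel]]

end CfsgLib.Classical22.TPow
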