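/-
An element conjugating one group into another and mapping a pure subspace to one is a Kronecker product.
-/
import Cfsg.Agent.Lib.Classical22.TensorPower.Map

set_option autoImplicit false
set_option linter.unusedSectionVars false
set_option linter.unusedSimpArgs false

namespace CfsgLib.Classical22.TPow

open Matrix Kronecker CfsgLib.Transvec CfsgLib.Classical22.TensorMax CfsgLib.Classical22.TensorMax.SympO
open CfsgLib.Classical22.TensorMax.SpO (kr kr_apply isKron_kr)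
open scoped MatrixGroups

variable {F : Type*} [Field F] {n k : ℕ} (D : Duo F n k)

lemma Duo.outer_mul_outer (x y : Fin k → F) :
    outer D.f x x * outer D.f y y = D.f y x • outer D.f x y :=
  Matrix.ext_iff_mulVec.2 fun z => by
    rw [← mulVec_mulVec, outer_mulVec D.symp, outer_mulVec D.symp, smul_mulVec, outer_mulVec D.symp, D.f_smul,
      smul_smul, mul_comm]

/-- The shear at `v` with block `S`. -/
noncomputable def Duo.sh (S : Matrix (Fin n) (Fin n) F) (v : Fin k → F) : GL (Fin n × Fin k) F where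
  val := 1 + S ⊗ₖ outer D.f v v
  inv := 1 - S ⊗ₖ outer D.f v v
  val_inv := by
    rw [mul_sub, mul_one, add_mul, one_mul, ← mul_kronecker_mul, D.outer_mul_outer, D.symp.alternating, zero_smul,
      kronecker_zero, add_zero, add_sub_cancel_right]
  inv_val := by
    rw [mul_add, mul_one, sub_mul, one_mul, ← mul_kronecker_mul, D.outer_mul_outer, D.symp.alternating, zero_smul,
      kronecker_zero, sub_zero, sub_add_cancel]

variable {D}

/-- The main statement on two factors. -/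
theorem Duo.isKron_of_map (h2 : (2 : F) ≠ 0) (hn : 0 < n) {Mi Mj : Subgroup (GL (Fin n × Fin k) F)}
    (hi : D.Side Mi) (hj : D.Side Mj) (hci : D.NoCliff Mi) (hcj : D.NoCliff Mj)
    {gg : GL (Fin n × Fin k) F} (hiso : D.Iso gg) (hconj : ∀ h ∈ Mi, gg * h * gg⁻¹ ∈ Mj)
    (hconj' : ∀ h ∈ Mj, gg⁻¹ * h * gg⁻¹⁻¹ ∈ Mi)
    {u v : Fin k → F} (hu : u ≠ 0) (hv : v ≠ 0) {L : GL (Fin n) F}
    (hW : ∀ y, gg.val *ᵥ pt y u = pt (L.val *ᵥ y) v)
    (hk : 4 ≤ k ∨ ∃ a : F, a ≠ 0 ∧ a * a ≠ 1) : IsKron gg := by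
  classical
  obtain ⟨u', hu'⟩ := D.exists_dual hu
  obtain ⟨v', hv'⟩ := D.exists_dual hv
  -- the image of a root is a scalar shear
  obtain ⟨c₀, hc₀⟩ : ∃ c₀ : F, ∀ z, L.val *ᵥ D.ct u z = c₀ • D.ct v (gg.val *ᵥ z) := by
    obtain ⟨r, hr⟩ : ∃ r, r = gg * slot (D.tr u 1) * gg⁻¹ := ⟨_, rfl⟩
    have hvec : ∀ w, (r.val - 1) *ᵥ w = pt (L.val *ᵥ D.ct u (gg⁻¹.val *ᵥ w)) v := fun w => by
      rw [sub_mulVec, one_mulVec, hr, Transvec.mul_mulVec, Transvec.mul_mulVec, slot_val,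
        show (D.tr u 1).val = 1 + outer D.f u u from Matrix.ext_iff_mulVec.2 fun x => by
          rw [D.tr_mulVec, add_mulVec, one_mulVec, outer_mulVec D.symp, one_mul],
        kronecker_add, one_kronecker_one, add_mulVec, one_mulVec, D.outer_vec, one_mulVec, mulVec_add,
        Transvec.mulVec_inv_cancel, hW, add_sub_cancel_left]
    have hsh : r.val - 1 = (-D.cR v' v' (r.val - 1)) ⊗ₖ outer D.f v v :=
      Duo.eq_shear hv' (fun y b hb => by
        rw [hvec, Duo.ct_back_zero hiso hW y hb, mulVec_zero, pt_zero_left]) fun y => ⟨_, hvec _⟩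
    obtain ⟨c, hc⟩ := hj.scalar r (hr ▸ hconj _ (hi.root u 1)) v hv _ (eq_add_of_sub_eq' hsh)
    refine ⟨c, fun z => ?_⟩
    have e := hvec (gg.val *ᵥ z)
    rw [Transvec.inv_mulVec_cancel, hsh, hc, D.outer_vec, smul_mulVec, one_mulVec] at e
    exact (pt_injective hv e).symm
  have hcu : ∀ x : Fin n → F, ∃ z, D.ct u z = x := fun x =>
    ⟨pt (-x) u', by rw [D.ct_pt, D.symp.skew u' u, hu', neg_one_smul, neg_neg]⟩
  obtain ⟨y₀, y₁, hy⟩ : ∃ y₀ y₁ : Fin n → F, y₀ ⬝ᵥ (D.GR *ᵥ y₁) ≠ 0 := by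
    by_contra hall
    push Not at hall
    have := D.eq_of_dot (p := Pi.single ⟨0, hn⟩ 1) (q := 0) fun y => by rw [hall, zero_dotProduct]
    simpa using congrFun this ⟨0, hn⟩
  have hLL : ∀ x y, (L.val *ᵥ x) ⬝ᵥ (D.GR *ᵥ (L.val *ᵥ y)) = c₀ * (x ⬝ᵥ (D.GR *ᵥ y)) := fun x y => by
    obtain ⟨z, rfl⟩ := hcu x
    rw [hc₀, smul_dotProduct, Duo.ct_map hiso hW, smul_eq_mul]
  have hc0 : c₀ ≠ 0 := fun h0 => by
    have := hLL (L⁻¹.val *ᵥ y₀) (L⁻¹.val *ᵥ y₁)
    rw [Transvec.mulVec_inv_cancel, Transvec.mulVec_inv_cancel, h0, zero_mul] at this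
    exact hy this
  have hadj : D.adjR L⁻¹.val = c₀⁻¹ • L.val := by
    have hT : (L.val)ᵀ * D.GR * L.val = c₀ • D.GR := by
      refine Matrix.ext fun i j => ?_
      have := hLL (Pi.single i 1) (Pi.single j 1)
      rw [dotProduct_mulVec, ← vecMul_transpose, vecMul_vecMul, dotProduct_mulVec, vecMul_vecMul,
        single_one_vecMul, dotProduct_single, mul_one, mulVec_single_one, single_one_dotProduct] at this
      exact this
    have e : D.adjR L.val * L.val = c₀ • 1 := by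
      rw [Duo.adjR, mul_assoc, mul_assoc, ← mul_assoc _ D.GR, hT, Matrix.mul_smul, Matrix.nonsing_inv_mul _ D.unit]
    have e' := congrArg D.adjR (show D.adjR L.val = c₀ • L⁻¹.val by
      have := congrArg (· * L⁻¹.val) e
      simpa [mul_assoc] using this)
    rw [D.adjR_adjR, D.adjR_smul] at e'
    rw [e', inv_smul_smul₀ hc0]
  -- all blocks but one are multiples of `L`
  have hback := Duo.back_blocks hiso hW h2 hi hj hcj hconj hu hv
  have hfor : ∀ a b, D.f b u = 0 → ∃ c : F, D.cR a b gg.val = c • L.val := fun a b hb => by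
    have h := Duo.back_blocks (u := v) (v := u) (L := L⁻¹) (Duo.iso_inv' hiso) (Duo.map_inv hW) h2 hj hi hci hconj'
      hv hu a hb
    rwa [inv_inv, inv_inv] at h
  have hadjV : gg.val = D.adjV gg⁻¹.val := by rw [(Duo.iso_inv' hiso).adjV_eq, inv_inv]
  have hrev : ∀ a b, D.f a v = 0 → ∃ c : F, D.cR a b gg.val = c • L.val := fun a b ha => by
    obtain ⟨c, hc⟩ := hback b ha
    exact ⟨-c * c₀⁻¹, by rw [hadjV, D.cR_adj, hc, D.adjR_smul, hadj, smul_smul, neg_mul, neg_smul]⟩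
  have hcv : ∀ b, D.cR v b gg.val = (c₀⁻¹ * D.f b u) • L.val := fun b => Matrix.ext_iff_mulVec.2 fun y => by
    rw [D.cR_mulVec, smul_mulVec, mul_smul, ← mulVec_smul, ← D.ct_pt, hc₀, inv_smul_smul₀ hc0]
  -- remove the shear
  obtain ⟨S, hS⟩ : ∃ S, S = (-c₀) • (D.cR v' u' gg.val * L⁻¹.val) := ⟨_, rfl⟩
  obtain ⟨g0, hg0⟩ : ∃ g0, g0 = (D.sh S v)⁻¹ * gg := ⟨_, rfl⟩
  have hblk : ∀ a b, D.cR a b g0.val = D.cR a b gg.val - (D.f v a * D.f b u * c₀⁻¹) • (S * L.val) := fun a b => by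
    refine Matrix.ext_iff_mulVec.2 fun y => ?_
    rw [D.cR_mulVec, hg0, Transvec.mul_mulVec, sub_mulVec, D.cR_mulVec, smul_mulVec, ← mulVec_mulVec]
    change D.ct a ((1 - S ⊗ₖ outer D.f v v) *ᵥ (gg.val *ᵥ pt y b)) = _
    rw [sub_mulVec, one_mulVec, map_sub, D.outer_vec, D.ct_pt, ← D.cR_mulVec v, hcv, smul_mulVec, mulVec_smul,
      smul_smul, mul_assoc, mul_comm (D.f b u)]
  have hP : ∀ a b, ∃ c : F, D.cR a b g0.val = c • L.val := by
    intro a b
    obtain ⟨a', ha'⟩ : ∃ a', a' = a - (-D.f a v) • v' := ⟨_, rfl⟩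
    obtain ⟨b', hb'⟩ : ∃ b', b' = b - (-D.f b u) • u' := ⟨_, rfl⟩
    have hav : D.f a' v = 0 := by rw [ha', D.f_sub, D.f_smul, D.symp.skew v' v, hv']; ring
    have hbu : D.f b' u = 0 := by rw [hb', D.f_sub, D.f_smul, D.symp.skew u' u, hu']; ring
    obtain ⟨c1, h1⟩ := hrev a' b' hav
    obtain ⟨c2, h2'⟩ := hrev a' u' hav
    obtain ⟨c3, h3⟩ := hfor v' b' hbu
    have hcorner : D.cR v' u' g0.val = 0 := by
      rw [hblk, hS, hv', D.symp.skew u' u, hu', Matrix.smul_mul, Units.inv_mul_cancel_right, smul_smul,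
        show (1 : F) * (-1 : F) * c₀⁻¹ * -c₀ = c₀⁻¹ * c₀ by ring, inv_mul_cancel₀ hc0, one_smul, sub_self]
    refine ⟨c1 + (-D.f b u) * c2 + (-D.f a v) * c3, ?_⟩
    rw [show a = a' + (-D.f a v) • v' by rw [ha', sub_add_cancel], show b = b' + (-D.f b u) • u' by
      rw [hb', sub_add_cancel]]
    simp only [D.cR_add_left, D.cR_add_right, D.cR_smul_left, D.cR_smul_right]
    rw [hcorner, hblk, hblk, hblk, h1, h2', h3, D.symp.skew v a', hav, hbu,
      show a' + (-D.f a v) • v' = a by rw [ha', sub_add_cancel],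
      show b' + (-D.f b u) • u' = b by rw [hb', sub_add_cancel]]
    simp only [neg_zero, zero_mul, mul_zero, zero_smul, sub_zero, smul_zero, add_zero, smul_smul, ← add_smul]
  obtain ⟨σ, hσ⟩ := D.kron_of_cR hP
  have hdet : IsUnit σ.det := by
    have h := (Matrix.isUnit_iff_isUnit_det g0.val).mp g0.isUnit
    rw [hσ, det_kronecker, IsUnit.mul_iff, Fintype.card_fin n, isUnit_pow_iff hn.ne'] at h
    exact h.2
  obtain ⟨σG, hσG⟩ : ∃ σG : GL (Fin k) F, σG.val = σ :=
    ⟨Matrix.nonsingInvUnit σ hdet, rfl⟩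
  have hg0k : g0 = kr L σG := Units.ext (by rw [hσ, ← hσG]; rfl)
  have hgg : gg = D.sh S v * kr L σG := by rw [← hg0k, hg0, mul_inv_cancel_left]
  have hggv : ∀ y b, gg.val *ᵥ pt y b = pt (L.val *ᵥ y) (σ *ᵥ b) + pt (D.f (σ *ᵥ b) v • (S *ᵥ (L.val *ᵥ y))) v := by
    intro y b
    rw [hgg, Transvec.mul_mulVec, kr_apply, hσG]
    change (1 + S ⊗ₖ outer D.f v v) *ᵥ _ = _
    rw [add_mulVec, one_mulVec, D.outer_pt]
  -- the second factor is a similitude
  have hσv : ∀ b, D.f (σ *ᵥ b) v = c₀⁻¹ * D.f b u := by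
    intro b
    have e := congrArg (fun X => y₀ ⬝ᵥ (D.GR *ᵥ (X *ᵥ (L⁻¹.val *ᵥ y₁)))) (D.cR_kron v b L.val σ)
    simp only [← hσ, hblk, D.symp.alternating, zero_mul, zero_smul, sub_zero, hcv, smul_mulVec,
      Transvec.mulVec_inv_cancel, mulVec_smul, dotProduct_smul, smul_eq_mul] at e
    exact (mul_right_cancel₀ hy e).symm
  have hsim : ∀ b b', D.f (σ *ᵥ b) (σ *ᵥ b') = c₀⁻¹ * D.f b b' := by
    have h0 : ∀ b b', D.f b' u = 0 → D.f (σ *ᵥ b) (σ *ᵥ b') = c₀⁻¹ * D.f b b' := by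
      intro b b' hb'
      have e := Duo.Iso.BV_eq D hiso (pt y₀ b) (pt y₁ b')
      rw [hggv, hggv, hσv b', hb', mul_zero, zero_smul, pt_zero_left, add_zero, Duo.BV, add_dotProduct,
        ← Duo.BV, ← Duo.BV, D.BV_pt, D.BV_pt, D.BV_pt, hLL, D.symp.skew v (σ *ᵥ b'), hσv b', hb', mul_zero,
        neg_zero, mul_zero, add_zero] at e
      have : c₀ * D.f (σ *ᵥ b) (σ *ᵥ b') = D.f b b' :=
        mul_left_cancel₀ hy (by linear_combination e)
      rw [← this, ← mul_assoc, inv_mul_cancel₀ hc0, one_mul]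
    intro b b'
    obtain ⟨p, hp⟩ : ∃ p, p = b - (-D.f b u) • u' := ⟨_, rfl⟩
    obtain ⟨q, hq⟩ : ∃ q, q = b' - (-D.f b' u) • u' := ⟨_, rfl⟩
    have hpu : D.f p u = 0 := by rw [hp, D.f_sub, D.f_smul, D.symp.skew u' u, hu']; ring
    have hqu : D.f q u = 0 := by rw [hq, D.f_sub, D.f_smul, D.symp.skew u' u, hu']; ring
    rw [show b = p + (-D.f b u) • u' by rw [hp, sub_add_cancel],
      show b' = q + (-D.f b' u) • u' by rw [hq, sub_add_cancel]]
    simp only [mulVec_add, mulVec_smul, D.f_add, D.f_add', D.f_smul, D.f_smul', D.symp.alternating]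
    rw [h0 p q hqu, h0 u' q hqu, D.symp.skew (σ *ᵥ p) (σ *ᵥ u'), h0 u' p hpu, D.symp.skew p u']
    ring
  -- the shear normalises the slot
  have hH : ∀ w c, D.sh S v * slot (D.tr w c) * (D.sh S v)⁻¹ ∈ Mj := by
    intro w c
    obtain ⟨x, hx⟩ : ∃ x, x = σG⁻¹.val *ᵥ w := ⟨_, rfl⟩
    have hw : σ *ᵥ x = w := by rw [hx, ← hσG, Transvec.mulVec_inv_cancel]
    have e : kr L σG * slot (D.tr x (c * c₀⁻¹)) = slot (D.tr w c) * kr L σG := Units.ext <| mat_ext_pt fun y b => by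
      rw [Transvec.mul_mulVec, Transvec.mul_mulVec, slot_pt, kr_apply, kr_apply, slot_pt, D.tr_mulVec, D.tr_mulVec,
        hσG, mulVec_add, mulVec_smul, hw]
      congr 2
      rw [show D.f (σ *ᵥ b) w = c₀⁻¹ * D.f b x by rw [← hw, hsim]]
      ring_nf
    have := hconj _ (hi.root x (c * c₀⁻¹))
    rwa [show gg * slot (D.tr x (c * c₀⁻¹)) * gg⁻¹ = D.sh S v * slot (D.tr w c) * (D.sh S v)⁻¹ by
      rw [hgg, mul_assoc (D.sh S v) (kr L σG), e, _root_.mul_inv_rev]; group] at this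
  obtain ⟨Hs, hHs⟩ : ∃ Hs : Subgroup (GL (Fin k) F), ∀ h, h ∈ Hs ↔
      slot h ∈ Mj ∧ D.sh S v * slot h * (D.sh S v)⁻¹ ∈ Mj :=
    ⟨Mj.comap slot ⊓ Mj.comap ((MulAut.conj (D.sh S v)).toMonoidHom.comp slot), fun h => by
      simp [Subgroup.mem_inf]⟩
  have htr : ∀ w c, D.tr w c ∈ Hs := fun w c => (hHs _).mpr ⟨hj.root w c, hH w c⟩
  have hdiff : ∀ h ∈ Hs, (∀ x y, D.f (h.val *ᵥ x) (h.val *ᵥ y) = D.f x y) →
      ∃ p ∈ Mj, p.val = (1 + S ⊗ₖ outer D.f v v) * (1 - S ⊗ₖ outer D.f (h.val *ᵥ v) (h.val *ᵥ v)) := by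
    intro h hh hiso'
    obtain ⟨h1, h2''⟩ := (hHs h).mp hh
    refine ⟨_, mul_mem h2'' (inv_mem h1), ?_⟩
    have e : slot h * (D.sh S v)⁻¹ * (slot h)⁻¹ = (D.sh S (h.val *ᵥ v))⁻¹ := by
      rw [mul_inv_eq_iff_eq_mul, eq_inv_mul_iff_mul_eq, ← mul_assoc, mul_inv_eq_iff_eq_mul]
      refine Units.ext <| mat_ext_pt fun y b => ?_
      change ((1 + S ⊗ₖ outer D.f _ _) * (slot h).val) *ᵥ _ = ((slot h).val * (1 + S ⊗ₖ outer D.f v v)) *ᵥ _
      rw [← mulVec_mulVec, ← mulVec_mulVec, slot_pt, add_mulVec, add_mulVec, one_mulVec, one_mulVec, D.outer_pt,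
        D.outer_pt, mulVec_add, slot_pt, slot_pt, hiso']
    rw [mul_assoc (D.sh S v), mul_assoc (D.sh S v), e]
    rfl
  have hmixed : ∀ x y, D.f y x = 0 → S ⊗ₖ outer D.f x x * (S ⊗ₖ outer D.f y y) = 0 := fun x y h => by
    rw [← mul_kronecker_mul, D.outer_mul_outer, h, zero_smul, kronecker_zero]
  -- the shear is scalar
  obtain ⟨c, hc⟩ : ∃ c : F, S = c • 1 := by
    rcases hk with hk4 | ⟨a, ha, ha1⟩
    · obtain ⟨m, hmv, hmv', hm0⟩ : ∃ m, D.f m v = 0 ∧ D.f m v' = 0 ∧ m ≠ 0 := by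
        obtain ⟨f1, hf1⟩ : ∃ Φ : (Fin k → F) →ₗ[F] F × F, ∀ x, Φ x = (D.f x v, D.f x v') :=
          ⟨{ toFun := fun x => (D.f x v, D.f x v')
             map_add' := fun x y => Prod.ext (D.f_add x y v) (D.f_add x y v')
             map_smul' := fun c x => Prod.ext (D.f_smul c x v) (D.f_smul c x v') }, fun x => rfl⟩
        have e1 := LinearMap.finrank_range_add_finrank_ker f1
        have e2 := Submodule.finrank_le (LinearMap.range f1)
        rw [Module.finrank_prod, Module.finrank_self] at e2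
        rw [Module.finrank_fin_fun] at e1
        obtain ⟨m, hm, hm0⟩ := Submodule.exists_mem_ne_zero_of_ne_bot (p := LinearMap.ker f1) fun h => by
          rw [h, finrank_bot] at e1; omega
        rw [LinearMap.mem_ker, hf1, Prod.mk_eq_zero] at hm
        exact ⟨m, hm.1, hm.2, hm0⟩
      obtain ⟨q, hqM, hq, hqi⟩ : ∃ q : GL (Fin k) F, q ∈ Hs ∧
          (∀ x, q.val *ᵥ x = x + D.f x m • v' + D.f x v' • m) ∧
          ∀ x y, D.f (q.val *ᵥ x) (q.val *ᵥ y) = D.f x y := by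
        refine ⟨D.tr (v' + m) 1 * (D.tr v' (-1) * D.tr m (-1)),
          mul_mem (htr _ _) (mul_mem (htr _ _) (htr _ _)), fun x => ?_, fun x y => ?_⟩
        · rw [Transvec.mul_mulVec, Transvec.mul_mulVec, D.tr_mulVec, D.tr_mulVec, D.tr_mulVec]
          simp only [D.f_add, D.f_add', D.f_smul, D.f_smul', D.symp.alternating, hmv', D.symp.skew v' m, mul_zero,
            neg_zero, add_zero]
          funext i
          simp only [Pi.add_apply, Pi.smul_apply, smul_eq_mul]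
          ring
        · simp only [Transvec.mul_mulVec, D.tr_iso]
      have hqv : q.val *ᵥ v = v + m := by
        rw [hq, D.symp.skew v m, hmv, hv', neg_zero, zero_smul, add_zero, one_smul]
      have hqv' : q⁻¹.val *ᵥ v = v - m := mulVec_injective q (by
        simp only
        rw [Transvec.mulVec_inv_cancel, mulVec_sub, hqv, hq m, D.symp.alternating, hmv']
        simp)
      obtain ⟨p₁, hp₁, e₁⟩ := hdiff q hqM hqi
      obtain ⟨p₂, hp₂, e₂⟩ := hdiff q⁻¹ (inv_mem hqM) fun x y => by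
        rw [← hqi, Transvec.mulVec_inv_cancel, Transvec.mulVec_inv_cancel]
      rw [hqv] at e₁
      rw [hqv'] at e₂
      have hN : outer D.f (v + m) (v + m) + outer D.f (v - m) (v - m) =
          (2 : F) • outer D.f v v + (2 : F) • outer D.f m m := Matrix.ext_iff_mulVec.2 fun x => by
        simp only [add_mulVec, smul_mulVec, outer_mulVec D.symp, D.f_add', D.f_sub']
        funext i
        simp only [Pi.add_apply, Pi.sub_apply, Pi.smul_apply, smul_eq_mul]
        ring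
      have hcomm : ∀ x y : Fin k → F, x ∈ Submodule.span F ({v, m} : Set (Fin k → F)) →
          y ∈ Submodule.span F ({v, m} : Set (Fin k → F)) → D.f y x = 0 := by
        intro x y hx hy
        obtain ⟨a, b, rfl⟩ := Submodule.mem_span_pair.mp hx
        obtain ⟨a', b', rfl⟩ := Submodule.mem_span_pair.mp hy
        simp only [D.f_add, D.f_add', D.f_smul, D.f_smul', D.symp.alternating, hmv, D.symp.skew v m, neg_zero,
          mul_zero, add_zero]
      have hv1 : v ∈ Submodule.span F ({v, m} : Set (Fin k → F)) := Submodule.subset_span (by simp)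
      have hm1 : m ∈ Submodule.span F ({v, m} : Set (Fin k → F)) := Submodule.subset_span (by simp)
      obtain ⟨c, hc⟩ := hj.scalar _ (mul_mem hp₁ hp₂) m hm0 ((-2 : F) • S) (by
        have z1 := hmixed v v (D.symp.alternating v)
        have z2 := hmixed v _ (hcomm v (v + m) hv1 (Submodule.add_mem _ hv1 hm1))
        have z3 := hmixed v _ (hcomm v (v - m) hv1 (Submodule.sub_mem _ hv1 hm1))
        have z4 := hmixed (v + m) v (hcomm _ _ (Submodule.add_mem _ hv1 hm1) hv1)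
        have z5 := hmixed (v + m) (v - m) (hcomm _ _ (Submodule.add_mem _ hv1 hm1) (Submodule.sub_mem _ hv1 hm1))
        have hN' := congrArg (S ⊗ₖ ·) hN
        simp only [kronecker_add, kronecker_smul] at hN'
        rw [Units.val_mul, e₁, e₂, smul_kronecker]
        simp only [add_mul, mul_add, sub_mul, mul_sub, one_mul, mul_one, z1, z2, z3, z4, z5, mul_assoc,
          mul_zero, sub_zero, add_zero]
        linear_combination (norm := module) -hN')
      exact ⟨(-2 : F)⁻¹ * c, by rw [mul_smul, ← hc, inv_smul_smul₀ (neg_ne_zero.2 h2)]⟩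
    · obtain ⟨T, hTM, hT, hTi⟩ : ∃ T : GL (Fin k) F, T ∈ Hs ∧ T.val *ᵥ v = a • v ∧
          ∀ x y, D.f (T.val *ᵥ x) (T.val *ᵥ y) = D.f x y := by
        obtain ⟨σ', hσ'M, hσ', hσ'i⟩ := D.exists_torus (M := Hs.map slot) ⟨fun g hg => by
            obtain ⟨h, hh, rfl⟩ := hg
            exact hj.iso _ ((hHs h).mp hh).1,
          fun w c => ⟨_, htr w c, rfl⟩, fun g hg w hw Z hZ => by
            obtain ⟨h, hh, rfl⟩ := hg
            exact hj.scalar _ ((hHs h).mp hh).1 w hw Z hZ⟩ hv' ha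
        obtain ⟨h, hh, he⟩ := hσ'M
        have hval : h.val = σ'.val := Matrix.ext fun p q => by
          have e := Matrix.ext_iff.mpr (Units.ext_iff.mp he) ((⟨0, hn⟩ : Fin n), p) ((⟨0, hn⟩ : Fin n), q)
          rw [slot_val, slot_val, kroneckerMap_apply, kroneckerMap_apply, one_apply_eq, one_mul, one_mul] at e
          exact e
        refine ⟨h, hh, ?_, fun x y => ?_⟩
        · rw [hval, hσ', hv', D.symp.alternating, mul_one, mul_zero, zero_smul, add_zero, sub_smul, one_smul,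
            add_sub_cancel]
        · rw [hval, hσ'i]
      obtain ⟨p, hp, e⟩ := hdiff T hTM hTi
      rw [hT, show outer D.f (a • v) (a • v) = (a * a) • outer D.f v v from Matrix.ext_iff_mulVec.2 fun x => by
        rw [smul_mulVec, outer_mulVec D.symp, outer_mulVec D.symp, D.f_smul', smul_smul, smul_smul]; ring_nf,
        kronecker_smul] at e
      obtain ⟨c, hc⟩ := hj.scalar p hp v hv ((1 - a * a) • S) (by
        rw [e, mul_sub, mul_one, add_mul, one_mul, Matrix.mul_smul, hmixed v v (D.symp.alternating v), smul_zero, add_zero,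
          smul_kronecker]
        module)
      exact ⟨(1 - a * a)⁻¹ * c, by rw [mul_smul, ← hc, inv_smul_smul₀ (sub_ne_zero.2 (Ne.symm ha1))]⟩
  refine ⟨L, D.tr v c * σG, ?_⟩
  rw [hgg, Units.val_mul, Units.val_mul]
  change (1 + S ⊗ₖ outer D.f v v) * (L.val ⊗ₖ σG.val) = L.val ⊗ₖ ((D.tr v c).val * σG.val)
  rw [hc, show (D.tr v c).val = 1 + c • outer D.f v v from Matrix.ext_iff_mulVec.2 fun x => by
    rw [D.tr_mulVec, add_mulVec, one_mulVec, smul_mulVec, outer_mulVec D.symp, smul_smul], add_mul, one_mul,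
    ← mul_kronecker_mul, add_mul, one_mul, kronecker_add, smul_mul, smul_mul, smul_kronecker, kronecker_smul, one_mul]

end CfsgLib.Classical22.TPow
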