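/-
Tensor powers of a symplectic space, split at one slot.
-/
import Cfsg.Agent.Lib.Classical22.TensorPower.Clean
import Cfsg.Agent.Lib.Classical22.TensorWreathMax.Base

set_option autoImplicit false
set_option linter.unusedSectionVars false
set_option linter.unusedSimpArgs false

namespace CfsgLib.Classical22.TPow

open Matrix Kronecker CfsgLib.Transvec CfsgLib.Classical22.TensorMax CfsgLib.Classical22.TensorMax.SympO
open CfsgLib.Classical22.TWMax (Idx pv tmat tmat_mulVec tmat_mul tmat_one mat_ext_pv flatE slotE slotE_apply emb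
  embL emb_mulVec_pv)
open scoped MatrixGroups

variable {F : Type*} [Field F] {t k : ℕ}

/-- Reindexing a matrix on the tensor power to slot coordinates. -/
noncomputable def slotA (s : Fin (t + 1)) : Matrix (Idx (t + 1) k) (Idx (t + 1) k) F ≃ₐ[F]
    Matrix (Fin (k ^ t) × Fin k) (Fin (k ^ t) × Fin k) F := Matrix.reindexAlgEquiv F F (slotE s)

/-- Reindexing a matrix on the tensor power to flat coordinates. -/
noncomputable def flatA (t k : ℕ) : Matrix (Idx t k) (Idx t k) F ≃ₐ[F] Matrix (Fin (k ^ t)) (Fin (k ^ t)) F :=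
  Matrix.reindexAlgEquiv F F (flatE t k)

theorem slotA_tmat (s : Fin (t + 1)) (gs : Fin (t + 1) → Matrix (Fin k) (Fin k) F) :
    slotA s (tmat gs) = flatA t k (tmat fun j => gs (s.succAbove j)) ⊗ₖ gs s := by
  refine Matrix.ext fun x y => ?_
  obtain ⟨a, rfl⟩ := (slotE s).surjective x
  obtain ⟨b, rfl⟩ := (slotE s).surjective y
  simp only [slotA, flatA, reindexAlgEquiv_apply, reindex_apply, submatrix_apply, Equiv.symm_apply_apply,
    slotE_apply, kroneckerMap_apply, tmat]
  rw [← slotE_apply, Equiv.symm_apply_apply, ← slotE_apply, Equiv.symm_apply_apply, Fin.prod_univ_succAbove _ s, mul_comm]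

theorem emb_eq_tmat (i : Fin t) (X : Matrix (Fin k) (Fin k) F) :
    emb i X = tmat (Function.update (fun _ => (1 : Matrix (Fin k) (Fin k) F)) i X) :=
  mat_ext_pv fun xs => by
    rw [emb_mulVec_pv, tmat_mulVec]
    congr 1
    funext j
    by_cases hj : j = i
    · subst hj; simp
    · simp [hj]

theorem slotA_emb_same (s : Fin (t + 1)) (X : Matrix (Fin k) (Fin k) F) :
    slotA s (emb s X) = (1 : Matrix (Fin (k ^ t)) (Fin (k ^ t)) F) ⊗ₖ X := by
  rw [emb_eq_tmat, slotA_tmat, Function.update_self, show (fun j => Function.update (fun _ =>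
    (1 : Matrix (Fin k) (Fin k) F)) s X (s.succAbove j)) = fun _ => 1 from funext fun j => by
      simp [Fin.succAbove_ne], tmat_one, map_one]

theorem slotA_emb_other (s : Fin (t + 1)) (j : Fin t) (X : Matrix (Fin k) (Fin k) F) :
    slotA s (emb (s.succAbove j) X) = flatA t k (emb j X) ⊗ₖ (1 : Matrix (Fin k) (Fin k) F) := by
  rw [emb_eq_tmat, slotA_tmat, Function.update_of_ne (Fin.ne_succAbove s j), emb_eq_tmat]
  congr 3
  funext l
  by_cases hl : l = j
  · subst hl; simp
  · simp [hl, Fin.succAbove_right_injective.ne hl]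

lemma tmat_transpose (gs : Fin t → Matrix (Fin k) (Fin k) F) : (tmat gs)ᵀ = tmat fun i => (gs i)ᵀ := rfl

lemma tmat_smul (cs : Fin t → F) (gs : Fin t → Matrix (Fin k) (Fin k) F) :
    tmat (fun i => cs i • gs i) = (∏ i, cs i) • tmat gs := by
  ext x y
  simp [tmat, Finset.prod_mul_distrib]

variable {f : (Fin k → F) → (Fin k → F) → F} (hf : Cfsg.Geo.IsSymplecticForm f)
include hf

lemma gram_transpose : (gram f)ᵀ = -gram f := by
  ext i j
  have e := hf.skew (Pi.single j 1) (Pi.single i 1)
  rw [form_eq_dot hf, form_eq_dot hf] at e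
  simpa [mulVec_single_one, dotProduct_single] using e

omit hf in
/-- The Gram matrix of the tensor power. -/
noncomputable def pG (t : ℕ) (f : (Fin k → F) → (Fin k → F) → F) : Matrix (Idx t k) (Idx t k) F :=
  tmat fun _ => gram f

lemma pG_unit : IsUnit (pG t f).det := by
  refine Matrix.isUnit_det_of_left_inverse (B := tmat fun _ => (gram f)⁻¹) ?_
  rw [pG, tmat_mul]
  simp only [Matrix.nonsing_inv_mul _ ((Matrix.isUnit_iff_isUnit_det _).mp (isUnit_gram hf)), tmat_one]

lemma pG_inv : (pG t f)⁻¹ = tmat fun _ => (gram f)⁻¹ := by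
  refine Matrix.inv_eq_left_inv ?_
  rw [pG, tmat_mul]
  simp only [Matrix.nonsing_inv_mul _ ((Matrix.isUnit_iff_isUnit_det _).mp (isUnit_gram hf)), tmat_one]

lemma pG_transpose : (pG t f)ᵀ = (-1 : F) ^ t • pG t f := by
  rw [pG, tmat_transpose, gram_transpose hf, show (fun _ : Fin t => -gram f) = fun i => ((-1 : F)) • gram f from
    funext fun _ => (neg_one_smul F (gram f)).symm, tmat_smul, Finset.prod_const, Finset.card_univ, Fintype.card_fin]

/-- One slot against the others. -/
noncomputable def pDuo (t : ℕ) : Duo F (k ^ t) k where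
  GR := flatA t k (pG t f)
  f := f
  ε := (-1 : F) ^ t
  symp := hf
  symm := by
    rw [flatA, reindexAlgEquiv_apply, transpose_reindex, pG_transpose hf, ← reindexAlgEquiv_apply F F, map_smul,
      reindexAlgEquiv_apply]
  unit := by rw [flatA, det_reindexAlgEquiv]; exact pG_unit hf
  sq := by rw [← pow_add, ← two_mul, pow_mul, neg_one_sq, one_pow]

omit hf in
/-- The adjoint on the tensor power. -/
noncomputable def pAdj (f : (Fin k → F) → (Fin k → F) → F) (X : Matrix (Idx t k) (Idx t k) F) :
    Matrix (Idx t k) (Idx t k) F := (pG t f)⁻¹ * Xᵀ * pG t f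

lemma pDuo_adjR (X : Matrix (Idx t k) (Idx t k) F) :
    (pDuo hf t).adjR (flatA t k X) = flatA t k (pAdj f X) := by
  rw [Duo.adjR, pAdj, map_mul, map_mul, show (pDuo hf t).GR = flatA t k (pG t f) from rfl]
  congr 1
  congr 1
  refine Matrix.inv_eq_left_inv ?_
  rw [← map_mul, Matrix.nonsing_inv_mul _ (pG_unit hf), map_one]

lemma pAdj_tmat (gs : Fin t → Matrix (Fin k) (Fin k) F) : pAdj f (tmat gs) = tmat fun i => adj f (gs i) := by
  rw [pAdj, pG_inv hf, pG, tmat_transpose, tmat_mul, tmat_mul]
  rfl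

lemma slotA_pG (s : Fin (t + 1)) : slotA s (pG (t + 1) f) = (pDuo hf t).G := slotA_tmat s fun _ => gram f

end CfsgLib.Classical22.TPow
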