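/-
A group of matrices on a tensor power closed under sandwiches by slot nilpotents contains a pure element.
-/
import Cfsg.Agent.Lib.Classical22.TensorPower.Power
import Cfsg.Agent.Lib.Classical22.SympTensorStatement
import Cfsg.Agent.Lib.Classical22.TensorWreathMax.RootLike

set_option autoImplicit false
set_option linter.unusedSectionVars false
set_option linter.unusedSimpArgs false

namespace CfsgLib.Classical22.TPow

open Matrix Kronecker CfsgLib.Transvec CfsgLib.Classical22.TensorMax CfsgLib.Classical22.TensorMax.SympO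
open CfsgLib.Classical22.TWMax (Idx pv tmat tmat_mulVec tmat_mul tmat_one mat_ext_pv flatE slotE emb
  embL emb_add emb_mul emb_smul emb_one emb_mulVec_pv pv_ne_zero)
open scoped MatrixGroups

variable {F : Type*} [Field F] {n t k : ℕ}

/-- The sandwich of `X` by the nilpotents at `a` and `b` in slot `l`. -/
noncomputable def sand (f : (Fin k → F) → (Fin k → F) → F) (l : Fin t) (a b : Fin k → F)
    (X : Matrix (Idx t k) (Idx t k) F) : Matrix (Idx t k) (Idx t k) F :=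
  emb l (outer f a a) * X * emb l (outer f b b) + emb l (outer f b b) * X * emb l (outer f a a)

/-- Closure under the sandwiches of orthogonal pairs. -/
def Sand (f : (Fin k → F) → (Fin k → F) → F) (𝒦 : AddSubgroup (Matrix (Idx t k) (Idx t k) F)) : Prop :=
  ∀ (l : Fin t) (a b : Fin k → F), f a b = 0 → ∀ K ∈ 𝒦, sand f l a b K ∈ 𝒦

/-- The nilpotent type. -/
def IsN (f : (Fin k → F) → (Fin k → F) → F) (G : Matrix (Fin k) (Fin k) F) : Prop :=
  ∃ u, u ≠ 0 ∧ G = outer f u u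

/-- The self-adjoint rank-two type. -/
def IsP (f : (Fin k → F) → (Fin k → F) → F) (G : Matrix (Fin k) (Fin k) F) : Prop :=
  ∃ a b, f a b = 0 ∧ LinearIndependent F ![a, b] ∧ G = outer f a b - outer f b a

/-- The three types of factor. -/
def Pat (f : (Fin k → F) → (Fin k → F) → F) (G : Matrix (Fin k) (Fin k) F) : Prop :=
  G = 1 ∨ IsN f G ∨ IsP f G

theorem Duo.outer_sand (D : Duo F n k) (a b : Fin k → F) (X : Matrix (Fin n × Fin k) (Fin n × Fin k) F) :
    ((1 : Matrix (Fin n) (Fin n) F) ⊗ₖ outer D.f a a) * X * ((1 : Matrix (Fin n) (Fin n) F) ⊗ₖ outer D.f b b) =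
      D.cR a b X ⊗ₖ outer D.f a b :=
  mat_ext_pt fun y x => by
    rw [← mulVec_mulVec, ← mulVec_mulVec, D.outer_pt, one_mulVec, pt_smul_left, mulVec_smul, mulVec_smul,
      D.outer_vec, one_mulVec, ← D.cR_mulVec, D.outer_pt, pt_smul_left]

/-- Blocks vanishing on orthogonal pairs are scalar. -/
theorem Duo.kron_one_of_orth (D : Duo F n k) {X : Matrix (Fin n × Fin k) (Fin n × Fin k) F}
    (h : ∀ a b, D.f a b = 0 → D.cR a b X = 0) : ∃ K : Matrix (Fin n) (Fin n) F, X = K ⊗ₖ (1 : Matrix (Fin k) (Fin k) F) := by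
  classical
  rcases Nat.eq_zero_or_pos k with hk | hk
  · subst hk
    exact ⟨0, Matrix.ext fun x => x.2.elim0⟩
  obtain ⟨e, he⟩ : ∃ e : Fin k → F, e ≠ 0 := ⟨Pi.single ⟨0, hk⟩ 1, by simp⟩
  obtain ⟨e', he'⟩ := D.exists_dual he
  -- linear in the second and in the first argument
  have h1 : ∀ a b z, D.f z a • D.cR a b X = D.f b a • D.cR a z X := fun a b z => by
    have := h a (D.f z a • b + (-D.f b a) • z) (by
      rw [D.f_add', D.f_smul', D.f_smul', D.symp.skew a b, D.symp.skew a z]; ring)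
    rw [D.cR_add_right, D.cR_smul_right, D.cR_smul_right, neg_smul, add_neg_eq_zero] at this
    exact this
  have h2 : ∀ a b z, D.f b z • D.cR a b X = D.f b a • D.cR z b X := fun a b z => by
    have := h (D.f b z • a + (-D.f b a) • z) b (by
      rw [D.f_add, D.f_smul, D.f_smul, D.symp.skew a b, D.symp.skew z b]; ring)
    rw [D.cR_add_left, D.cR_smul_left, D.cR_smul_left, neg_smul, add_neg_eq_zero] at this
    exact this
  refine ⟨D.cR e' e X, D.eq_of_cR fun a b => ?_⟩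
  rw [D.cR_kron, one_mulVec]
  by_cases hab : D.f b a = 0
  · rw [hab, zero_smul, h a b (by rw [D.symp.skew, hab, neg_zero])]
  obtain ⟨z, hz1, hz2⟩ : ∃ z, D.f z a ≠ 0 ∧ D.f z e' ≠ 0 := by
    obtain ⟨z, -, hz⟩ := exists_ne_ne (P := fun _ => True) (fun _ _ _ _ => trivial)
      (φ := fun z => D.f z a) (ψ := fun z => D.f z e') (fun u v => D.f_add u v a) (fun u v => D.f_add u v e')
      ⟨b, trivial, hab⟩ ⟨e, trivial, by rw [he']; exact one_ne_zero⟩
    exact ⟨z, hz⟩
  refine smul_right_injective _ hz1 (smul_right_injective _ hz2 ?_)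
  simp only
  have e1 := h1 a b z
  have e2 := h2 a z e'
  have e3 := h1 e' e z
  rw [he', one_smul] at e3
  rw [e1, smul_comm, e2, ← e3, smul_smul, smul_smul, smul_smul, smul_smul]
  congr 1
  ring

lemma kron_sub_right {m l : ℕ} (A : Matrix (Fin m) (Fin m) F) (G G' : Matrix (Fin l) (Fin l) F) :
    A ⊗ₖ (G - G') = A ⊗ₖ G - A ⊗ₖ G' := by
  ext x y; simp [mul_sub]

lemma tmat_ne_zero {G : Fin t → Matrix (Fin k) (Fin k) F} (h : ∀ i, ∃ x, G i *ᵥ x ≠ 0) : tmat G ≠ 0 := fun h0 => by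
  choose x hx using h
  have := congrArg (· *ᵥ pv x) h0
  simp only [tmat_mulVec, zero_mulVec] at this
  exact pv_ne_zero hx this

variable {f : (Fin k → F) → (Fin k → F) → F} (hf : Cfsg.Geo.IsSymplecticForm f)
include hf

/-- A factor at a given slot. -/
theorem exists_factor (h2 : (2 : F) ≠ 0) {𝒦 : AddSubgroup (Matrix (Idx (t + 1) k) (Idx (t + 1) k) F)} (hS : Sand f 𝒦)
    (l : Fin (t + 1)) {K : Matrix (Idx (t + 1) k) (Idx (t + 1) k) F} (hK : K ∈ 𝒦) (hK0 : K ≠ 0) :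
    ∃ (G0 : Matrix (Fin k) (Fin k) F) (A : Matrix (Fin (k ^ t)) (Fin (k ^ t)) F), A ≠ 0 ∧
      (slotA l).symm (A ⊗ₖ G0) ∈ 𝒦 ∧ (G0 = 1 ∧ slotA l K = A ⊗ₖ (1 : Matrix (Fin k) (Fin k) F) ∨ IsN f G0 ∨ IsP f G0) := by
  classical
  obtain ⟨D, hD⟩ : ∃ D, D = pDuo hf t := ⟨_, rfl⟩
  have hDf : D.f = f := by rw [hD]; rfl
  obtain ⟨X, hX⟩ : ∃ X, X = slotA l K := ⟨_, rfl⟩
  have hsand : ∀ a b, f a b = 0 →
      (slotA l).symm (D.cR a b X ⊗ₖ outer f a b + D.cR b a X ⊗ₖ outer f b a) ∈ 𝒦 := by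
    intro a b hab
    have h := hS l a b hab K hK
    rw [sand] at h
    have e1 := D.outer_sand a b X
    have e2 := D.outer_sand b a X
    rw [hDf] at e1 e2
    rw [← e1, ← e2, ← slotA_emb_same l, ← slotA_emb_same l, hX, ← map_mul,
      ← map_mul, ← map_mul, ← map_mul, ← map_add, AlgEquiv.symm_apply_apply]
    exact h
  by_cases hu : ∃ u, D.cR u u X ≠ 0
  · obtain ⟨u, hu⟩ := hu
    have hu0 : u ≠ 0 := fun h => hu (by
      rw [show u = (0 : F) • u by rw [zero_smul, h], D.cR_smul_left, zero_smul])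
    refine ⟨outer f u u, _, smul_ne_zero h2 hu, ?_, Or.inr (Or.inl ⟨u, hu0, rfl⟩)⟩
    have := hsand u u (hf.alternating u)
    rwa [← add_kronecker, ← two_smul F] at this
  push Not at hu
  by_cases hab : ∃ a b, f a b = 0 ∧ D.cR a b X ≠ 0
  · obtain ⟨a, b, hab, hne⟩ := hab
    have hanti : D.cR b a X = -D.cR a b X := by
      have := hu (a + b)
      rw [D.cR_add_left, D.cR_add_right, D.cR_add_right, hu a, hu b, zero_add, add_zero] at this
      exact eq_neg_of_add_eq_zero_right this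
    refine ⟨outer f a b - outer f b a, _, hne, ?_, Or.inr (Or.inr ⟨a, b, hab, ?_, rfl⟩)⟩
    · have := hsand a b hab
      rw [hanti] at this
      rw [kron_sub_right]
      convert this using 2
      rw [← neg_one_smul F (D.cR a b X), smul_kronecker, neg_one_smul, sub_eq_add_neg]
    · refine LinearIndependent.pair_iff.mpr fun s r hsr => ?_
      have hr : r = 0 := by
        by_contra hr
        have hb : b = (-(r⁻¹ * s)) • a := by
          have := congrArg (r⁻¹ • ·) hsr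
          simp only [smul_add, smul_smul, inv_mul_cancel₀ hr, one_smul, smul_zero] at this
          rw [neg_smul]
          exact eq_neg_of_add_eq_zero_right this
        exact hne (by rw [hb, D.cR_smul_right, hu, smul_zero])
      refine ⟨?_, hr⟩
      rw [hr, zero_smul, add_zero] at hsr
      refine (smul_eq_zero.mp hsr).resolve_right fun ha => hne ?_
      rw [show a = (0 : F) • a by rw [zero_smul, ha], D.cR_smul_left, zero_smul]
  push Not at hab
  obtain ⟨A, hA⟩ := D.kron_one_of_orth fun a b h => hab a b (hDf ▸ h)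
  refine ⟨1, A, fun h0 => hK0 ?_, ?_, Or.inl ⟨rfl, hX ▸ hA⟩⟩
  · apply (slotA l).injective
    rw [map_zero, ← hX, hA, h0, zero_kronecker]
  · rw [← hA, hX, AlgEquiv.symm_apply_apply]
    exact hK

/-- The group at the other slots. -/
lemma exists_sub {𝒦 : AddSubgroup (Matrix (Idx (t + 1) k) (Idx (t + 1) k) F)} (hS : Sand f 𝒦) (l : Fin (t + 1))
    (G0 : Matrix (Fin k) (Fin k) F) :
    ∃ 𝒦' : AddSubgroup (Matrix (Idx t k) (Idx t k) F), Sand f 𝒦' ∧ ∀ B, B ∈ 𝒦' ↔
      (slotA l).symm (flatA t k B ⊗ₖ G0) ∈ 𝒦 := by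
  obtain ⟨𝒦', h𝒦'⟩ : ∃ 𝒦' : AddSubgroup (Matrix (Idx t k) (Idx t k) F), ∀ B, B ∈ 𝒦' ↔
      (slotA l).symm (flatA t k B ⊗ₖ G0) ∈ 𝒦 :=
    ⟨𝒦.comap ((slotA l).symm.toLinearMap.toAddMonoidHom.comp
      (AddMonoidHom.mk' (fun B => flatA t k B ⊗ₖ G0) fun B B' => by rw [map_add, add_kronecker])),
      fun B => Iff.rfl⟩
  refine ⟨𝒦', ?_, h𝒦'⟩
  intro i a b hab B hB
  rw [h𝒦'] at hB ⊢
  have h := hS (l.succAbove i) a b hab _ hB
  rw [sand] at h
  apply (congrArg (· ∈ 𝒦) ?_).mp h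
  apply (slotA l).injective
  rw [AlgEquiv.apply_symm_apply, map_add, map_mul, map_mul, map_mul, map_mul, slotA_emb_other, slotA_emb_other,
    AlgEquiv.apply_symm_apply, ← mul_kronecker_mul, ← mul_kronecker_mul, ← mul_kronecker_mul,
    ← mul_kronecker_mul, one_mul, mul_one, ← add_kronecker, sand, map_add, map_mul, map_mul, map_mul, map_mul]

/-- Descent to a pure element. -/
theorem exists_pure (h2 : (2 : F) ≠ 0) : ∀ (t : ℕ) (𝒦 : AddSubgroup (Matrix (Idx t k) (Idx t k) F)), Sand f 𝒦 →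
    ∀ K ∈ 𝒦, K ≠ 0 → ∃ (c : F) (G : Fin t → Matrix (Fin k) (Fin k) F), c ≠ 0 ∧ (∀ i, Pat f (G i)) ∧
      c • tmat G ∈ 𝒦 := by
  classical
  intro t
  induction t with
  | zero =>
    intro 𝒦 _ K hK hK0
    have e : K = K default default • tmat (fun i : Fin 0 => (1 : Matrix (Fin k) (Fin k) F)) := by
      ext x y
      rw [Subsingleton.elim x default, Subsingleton.elim y default]
      simp [tmat]
    exact ⟨K default default, fun _ => 1, fun h => hK0 (by rw [e, h, zero_smul]), fun i => i.elim0, e ▸ hK⟩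
  | succ t ih =>
    intro 𝒦 hS K hK hK0
    obtain ⟨G0, A, hA0, hA, hG0⟩ := exists_factor hf h2 hS 0 hK hK0
    obtain ⟨𝒦', hS', h𝒦'⟩ := exists_sub hf hS 0 G0
    obtain ⟨B, rfl⟩ := (flatA t k).surjective A
    obtain ⟨c, G, hc, hG, hmem⟩ := ih 𝒦' hS' B ((h𝒦' B).mpr hA) fun h => hA0 (by rw [h, map_zero])
    refine ⟨c, Fin.cons G0 G, hc, Fin.cases (by rw [Fin.cons_zero]; exact hG0.imp_left And.left) fun i => by simpa using hG i, ?_⟩
    rw [h𝒦', map_smul, smul_kronecker, show flatA t k (tmat G) ⊗ₖ G0 = slotA (0 : Fin (t + 1)) (tmat (Fin.cons G0 G)) by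
      rw [slotA_tmat]; simp, ← map_smul, AlgEquiv.symm_apply_apply] at hmem
    exact hmem

/-- A pure element with a given factor. -/
theorem exists_pure_at (h2 : (2 : F) ≠ 0) {𝒦 : AddSubgroup (Matrix (Idx (t + 1) k) (Idx (t + 1) k) F)} (hS : Sand f 𝒦)
    (l : Fin (t + 1)) {G0 : Matrix (Fin k) (Fin k) F} (hG0 : Pat f G0)
    {A : Matrix (Fin (k ^ t)) (Fin (k ^ t)) F} (hA0 : A ≠ 0) (hA : (slotA l).symm (A ⊗ₖ G0) ∈ 𝒦) :
    ∃ (c : F) (G : Fin (t + 1) → Matrix (Fin k) (Fin k) F), c ≠ 0 ∧ (∀ i, Pat f (G i)) ∧ G l = G0 ∧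
      c • tmat G ∈ 𝒦 := by
  obtain ⟨𝒦', hS', h𝒦'⟩ := exists_sub hf hS l G0
  obtain ⟨B, rfl⟩ := (flatA t k).surjective A
  obtain ⟨c, G, hc, hG, hmem⟩ := exists_pure hf h2 t 𝒦' hS' B ((h𝒦' B).mpr hA) fun h => hA0 (by rw [h, map_zero])
  refine ⟨c, Fin.insertNth l G0 G, hc, l.succAboveCases (by simpa using hG0) (fun i => by simpa using hG i), by simp, ?_⟩
  rw [h𝒦', map_smul, smul_kronecker, show flatA t k (tmat G) ⊗ₖ G0 = slotA l (tmat (Fin.insertNth l G0 G : Fin (t + 1) → Matrix (Fin k) (Fin k) F)) by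
    rw [slotA_tmat]; simp, ← map_smul, AlgEquiv.symm_apply_apply] at hmem
  exact hmem

end CfsgLib.Classical22.TPow
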