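/-
No non-zero invariant group of skew matrices on a tensor power has scalar anticommutators.
-/
import Cfsg.Agent.Lib.Classical22.TensorPower.Descend

set_option autoImplicit false
set_option linter.unusedSectionVars false
set_option linter.unusedSimpArgs false

namespace CfsgLib.Classical22.TPow

open Matrix Kronecker CfsgLib.Transvec CfsgLib.Classical22.TensorMax CfsgLib.Classical22.TensorMax.SympO
open CfsgLib.Classical22.TWMax (Idx pv tmat tmat_mulVec tmat_mul tmat_one mat_ext_pv flatE slotE emb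
  embL emb_add emb_mul emb_smul emb_one emb_mulVec_pv pv_ne_zero)
open scoped MatrixGroups

variable {F : Type*} [Field F] {t k : ℕ}

/-- Halving inside an additive group. -/
theorem half_mem [Finite F] (h2 : (2 : F) ≠ 0) {V : Type*} [AddCommGroup V] [Module F V] {A : AddSubgroup V}
    {x : V} (hx : (2 : F) • x ∈ A) : x ∈ A := by
  obtain ⟨p, hp⟩ := CharP.exists F
  have hp2 : p ≠ 2 := by
    rintro rfl
    exact h2 (by simpa using CharP.cast_eq_zero F 2)
  have hp0 : p ≠ 0 := CharP.char_ne_zero_of_finite F p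
  obtain ⟨j, hj⟩ := (CharP.char_is_prime F p).odd_of_ne_two hp2
  have e : (j + 1) • ((2 : F) • x) = x := by
    rw [← Nat.cast_smul_eq_nsmul F, smul_smul]
    have h0 : ((p : ℕ) : F) = 0 := CharP.cast_eq_zero F p
    rw [show ((j + 1 : ℕ) : F) * 2 = 1 by
      rw [hj] at h0
      push_cast at h0 ⊢
      linear_combination h0, one_smul]
  exact e ▸ A.nsmul_mem hx _

/-- Stability under conjugation by the slot roots. -/
def RootStable (f : (Fin k → F) → (Fin k → F) → F) (𝒦 : AddSubgroup (Matrix (Idx t k) (Idx t k) F)) : Prop :=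
  ∀ (l : Fin t) (u : Fin k → F) (c : F), ∀ K ∈ 𝒦,
    (1 + c • emb l (outer f u u)) * K * (1 - c • emb l (outer f u u)) ∈ 𝒦

lemma emb_tmat_emb (l : Fin t) (A B : Matrix (Fin k) (Fin k) F) (P : Fin t → Matrix (Fin k) (Fin k) F) :
    emb l A * tmat P * emb l B = tmat (Function.update P l (A * P l * B)) := by
  rw [emb_eq_tmat, emb_eq_tmat, tmat_mul, tmat_mul]
  congr 1
  funext j
  by_cases hj : j = l
  · subst hj; simp
  · simp [hj]

lemma tmat_update_add (l : Fin t) (X Y : Matrix (Fin k) (Fin k) F) (P : Fin t → Matrix (Fin k) (Fin k) F) :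
    tmat (Function.update P l (X + Y)) = tmat (Function.update P l X) + tmat (Function.update P l Y) := by
  ext x y
  simp only [tmat, Matrix.add_apply]
  rw [← Finset.mul_prod_erase _ _ (Finset.mem_univ l), ← Finset.mul_prod_erase _ _ (Finset.mem_univ l),
    ← Finset.mul_prod_erase _ _ (Finset.mem_univ l), Function.update_self, Function.update_self, Function.update_self,
    Matrix.add_apply, add_mul]
  congr 2 <;> exact Finset.prod_congr rfl fun j hj => by simp [Finset.ne_of_mem_erase hj]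

lemma tmat_update_smul (l : Fin t) (r : F) (X : Matrix (Fin k) (Fin k) F) (P : Fin t → Matrix (Fin k) (Fin k) F) :
    tmat (Function.update P l (r • X)) = r • tmat (Function.update P l X) := by
  ext x y
  simp only [tmat, Matrix.smul_apply, smul_eq_mul]
  rw [← Finset.mul_prod_erase _ _ (Finset.mem_univ l), ← Finset.mul_prod_erase _ _ (Finset.mem_univ l),
    Function.update_self, Function.update_self, Matrix.smul_apply, smul_eq_mul, mul_assoc]
  congr 2
  exact Finset.prod_congr rfl fun j hj => by simp [Finset.ne_of_mem_erase hj]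

variable {f : (Fin k → F) → (Fin k → F) → F} (hf : Cfsg.Geo.IsSymplecticForm f)
include hf

lemma outer_sq (x y : Fin k → F) : outer f x x * outer f y y = f y x • outer f x y :=
  Matrix.ext_iff_mulVec.2 fun z => by
    rw [← mulVec_mulVec, outer_mulVec hf, outer_mulVec hf, smul_mulVec, outer_mulVec hf, hf.bilinear.smul_left,
      smul_smul, mul_comm]

theorem sand_of_rootStable [Finite F] (h2 : (2 : F) ≠ 0) {𝒦 : AddSubgroup (Matrix (Idx t k) (Idx t k) F)}
    (hR : RootStable f 𝒦) : Sand f 𝒦 := by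
  intro l a b hab K hK
  obtain ⟨Na, hNa⟩ : ∃ Na, Na = emb l (outer f a a) := ⟨_, rfl⟩
  obtain ⟨Nb, hNb⟩ : ∃ Nb, Nb = emb l (outer f b b) := ⟨_, rfl⟩
  have hz : ∀ x y, f y x = 0 → emb l (outer f x x) * emb l (outer f y y) = 0 := fun x y h => by
    rw [← emb_mul, outer_sq hf, h, zero_smul]
    exact (embL l).map_zero
  have hab' : Na * Nb = 0 := hNa ▸ hNb ▸ hz a b (by rw [hf.skew, hab, neg_zero])
  have hba : Nb * Na = 0 := hNa ▸ hNb ▸ hz b a hab
  have hsq : ∀ u, (2 : F) • (emb l (outer f u u) * K * emb l (outer f u u)) ∈ 𝒦 := fun u => by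
    have h := 𝒦.sub_mem (𝒦.add_mem hK hK) (𝒦.add_mem (hR l u 1 K hK) (hR l u (-1) K hK))
    convert h using 1
    rw [one_smul, neg_one_smul, two_smul]
    noncomm_ring
  have hsum : (2 : F) • ((Na + Nb) * K * (Na + Nb)) ∈ 𝒦 := by
    have h1 := hR l a 1 _ (hR l b 1 K hK)
    have h2' := hR l a (-1) _ (hR l b (-1) K hK)
    rw [← hNa, ← hNb, one_smul, one_smul] at h1
    rw [← hNa, ← hNb, neg_one_smul, neg_one_smul] at h2'
    have h := 𝒦.sub_mem (𝒦.add_mem hK hK) (𝒦.add_mem h1 h2')
    convert h using 1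
    rw [two_smul]
    simp only [add_mul, mul_add, sub_mul, mul_sub, one_mul, mul_one, neg_mul, mul_neg, neg_neg, sub_neg_eq_add,
      mul_assoc, hba, hab', mul_zero, neg_zero, add_zero, sub_zero]
    simp only [← mul_assoc, hab', hba, zero_mul, neg_zero, add_zero, sub_zero]
    noncomm_ring
  refine half_mem h2 ?_
  have h := 𝒦.sub_mem hsum (𝒦.add_mem (hsq a) (hsq b))
  convert h using 1
  rw [sand, hNa, hNb]
  simp only [add_mul, mul_add, smul_add]
  abel

/-- The partner of a pure factor. -/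
theorem exists_partner (h2 : (2 : F) ≠ 0) {G : Matrix (Fin k) (Fin k) F} (hG : Pat f G) (hk : 4 ≤ k) :
    ∃ G', (G' = G ∨ ∃ a b r, f a b = 0 ∧ r ≠ 0 ∧
        outer f a a * G * outer f b b + outer f b b * G * outer f a a = (r : F) • G') ∧
      (∃ x, G' *ᵥ (G *ᵥ x) ≠ 0) ∧
      (IsN f G → (∃ x, G' *ᵥ x = 0 ∧ G' *ᵥ (G *ᵥ x) ≠ 0) ∧ ∃ y, y ≠ 0 ∧ G *ᵥ y = 0 ∧ G' *ᵥ y = 0) := by
  have hdual : ∀ u : Fin k → F, u ≠ 0 → ∃ w, f u w = 1 := fun u hu => by
    obtain ⟨z, hz⟩ := (hf.nondegenerate u hu).2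
    exact ⟨(f u z)⁻¹ • z, by rw [hf.bilinear.smul_right, inv_mul_cancel₀ hz]⟩
  by_cases hN : IsN f G
  · obtain ⟨u, hu, rfl⟩ := hN
    obtain ⟨w, hw⟩ := hdual u hu
    have hw0 : w ≠ 0 := fun h => by
      rw [h, form_eq_dot hf, mulVec_zero, zero_dotProduct] at hw
      exact zero_ne_one hw
    have hx : outer f w w *ᵥ w = 0 ∧ outer f w w *ᵥ (outer f u u *ᵥ w) ≠ 0 := by
      refine ⟨by rw [outer_mulVec hf, hf.alternating, zero_smul], ?_⟩
      rw [outer_mulVec hf u u, mulVec_smul, outer_mulVec hf, hw, one_smul, hf.skew w u, hw, neg_one_smul]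
      simpa using hw0
    refine ⟨outer f w w, Or.inr ⟨w, w, -2, hf.alternating w, by simpa using h2, ?_⟩, ⟨w, hx.2⟩, fun _ => ⟨⟨w, hx⟩, ?_⟩⟩
    · refine Matrix.ext_iff_mulVec.2 fun x => ?_
      rw [add_mulVec, ← mulVec_mulVec, ← mulVec_mulVec, outer_mulVec hf w w x, mulVec_smul, mulVec_smul,
        outer_mulVec hf u u w, mulVec_smul, outer_mulVec hf w w u, hw, hf.skew w u, hw, smul_mulVec,
        outer_mulVec hf]
      module
    · obtain ⟨Φ, hΦ⟩ : ∃ Φ : (Fin k → F) →ₗ[F] F × F, ∀ x, Φ x = (f x u, f x w) :=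
        ⟨{ toFun := fun x => (f x u, f x w)
           map_add' := fun x y => Prod.ext (hf.bilinear.add_left x y u) (hf.bilinear.add_left x y w)
           map_smul' := fun c x => Prod.ext (hf.bilinear.smul_left c x u) (hf.bilinear.smul_left c x w) },
          fun x => rfl⟩
      have e1 := LinearMap.finrank_range_add_finrank_ker Φ
      have e2 := Submodule.finrank_le (LinearMap.range Φ)
      rw [Module.finrank_prod, Module.finrank_self] at e2
      rw [Module.finrank_fin_fun] at e1
      obtain ⟨y, hy, hy0⟩ := Submodule.exists_mem_ne_zero_of_ne_bot (p := LinearMap.ker Φ) fun h => by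
        rw [h, finrank_bot] at e1; omega
      rw [LinearMap.mem_ker, hΦ, Prod.mk_eq_zero] at hy
      exact ⟨y, hy0, by rw [outer_mulVec hf, hy.1, zero_smul], by rw [outer_mulVec hf, hy.2, zero_smul]⟩
  rcases hG with rfl | h | h
  · exact ⟨1, Or.inl rfl, ⟨Pi.single ⟨0, by omega⟩ 1, by rw [one_mulVec, one_mulVec]; simp⟩,
      fun h => absurd h hN⟩
  · exact absurd h hN
  · obtain ⟨a, b, hab, hli, rfl⟩ := h
    have hna : a ∉ Submodule.span F ({b} : Set (Fin k → F)) := fun h => by
      obtain ⟨c, hc⟩ := Submodule.mem_span_singleton.mp h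
      exact one_ne_zero (α := F) (LinearIndependent.pair_iff.mp hli 1 (-c) (by rw [one_smul, ← hc, neg_smul, add_neg_cancel])).1
    have hnb : b ∉ Submodule.span F ({a} : Set (Fin k → F)) := fun h => by
      obtain ⟨c, hc⟩ := Submodule.mem_span_singleton.mp h
      exact one_ne_zero (α := F) (LinearIndependent.pair_iff.mp hli (-c) 1 (by rw [one_smul, ← hc, neg_smul, neg_add_cancel])).2
    obtain ⟨za, hza, hza1⟩ := exists_dual hf hna
    obtain ⟨zb, hzb, hzb1⟩ := exists_dual hf hnb
    obtain ⟨a', b', h1, h2', h3, h4, h5⟩ : ∃ a' b', f a a' = 1 ∧ f b b' = 1 ∧ f b a' = 0 ∧ f a b' = 0 ∧ f a' b' = 0 := by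
      refine ⟨-za, -zb + f za zb • a, ?_, ?_, ?_, ?_, ?_⟩ <;>
        simp only [hf.bilinear.add_right, hf.bilinear.add_left, ← neg_one_smul F za, ← neg_one_smul F zb,
          hf.bilinear.smul_right, hf.bilinear.smul_left, hf.alternating, hf.skew a za, hf.skew b zb, hf.skew b za,
          hf.skew a zb, hf.skew b a, hab, hza1, hzb1, hza b (Submodule.mem_span_singleton_self b),
          hzb a (Submodule.mem_span_singleton_self a)] <;> ring
    have hPb : (outer f a b - outer f b a) *ᵥ b' = -a := by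
      rw [sub_mulVec, outer_mulVec hf, outer_mulVec hf, hf.skew b' b, h2', hf.skew b' a, h4]
      simp
    have hPa : (outer f a b - outer f b a) *ᵥ a' = b := by
      rw [sub_mulVec, outer_mulVec hf, outer_mulVec hf, hf.skew a' b, h3, hf.skew a' a, h1]
      simp
    refine ⟨outer f a' b' - outer f b' a', Or.inr ⟨a', b', -1, h5, by simp, ?_⟩, ⟨b', ?_⟩, fun h => absurd h hN⟩
    · refine Matrix.ext_iff_mulVec.2 fun x => ?_
      rw [add_mulVec, ← mulVec_mulVec, ← mulVec_mulVec, ← mulVec_mulVec, ← mulVec_mulVec, outer_mulVec hf a' a' x,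
        outer_mulVec hf b' b' x]
      simp only [mulVec_smul, hPa, hPb, mulVec_neg]
      rw [        outer_mulVec hf, outer_mulVec hf, h1, h2', smul_mulVec, sub_mulVec, outer_mulVec hf, outer_mulVec hf]
      module
    · rw [hPb, mulVec_neg, sub_mulVec, outer_mulVec hf, outer_mulVec hf, h4, h1]
      simp only [zero_smul, one_smul, zero_sub, neg_neg]
      intro hb0
      rw [hb0, form_eq_dot hf, mulVec_zero, zero_dotProduct] at h2'
      exact zero_ne_one h2'

lemma adj_pat {G : Matrix (Fin k) (Fin k) F} (hG : Pat f G) (hN : ¬ IsN f G) : adj f G = G := by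
  rcases hG with rfl | h | h
  · simpa using adj_scalar hf (1 : F)
  · exact absurd h hN
  · obtain ⟨a, b, -, -, rfl⟩ := h
    refine adj_eq hf fun x y => ?_
    rw [sub_mulVec, sub_mulVec, outer_mulVec hf, outer_mulVec hf, outer_mulVec hf, outer_mulVec hf,
      sub_eq_add_neg, sub_eq_add_neg, ← neg_smul, ← neg_smul, hf.bilinear.add_left, hf.bilinear.add_right,
      hf.bilinear.smul_left, hf.bilinear.smul_left, hf.bilinear.smul_right, hf.bilinear.smul_right, hf.skew b y,
      hf.skew a y]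
    ring

/-- No skew invariant group with scalar anticommutators. -/
theorem cliff_bot [Finite F] (h2 : (2 : F) ≠ 0) (hk : 4 ≤ k) {𝒦 : AddSubgroup (Matrix (Idx t k) (Idx t k) F)}
    (hskew : ∀ K ∈ 𝒦, pAdj f K = -K) (hR : RootStable f 𝒦)
    (hanti : ∀ K ∈ 𝒦, ∀ K' ∈ 𝒦, ∃ c : F, K * K' + K' * K = c • 1) : 𝒦 = ⊥ := by
  classical
  refine (AddSubgroup.eq_bot_iff_forall 𝒦).mpr fun K hK => by_contra fun hK0 => ?_
  have hS := sand_of_rootStable hf h2 hR
  obtain ⟨c, G, hc, hG, hmem⟩ := exists_pure hf h2 t 𝒦 hS K hK hK0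
  choose G' hG' hev hN using fun l => exists_partner hf h2 (hG l) hk
  have hGne : ∀ l, ∃ x, G l *ᵥ x ≠ 0 := fun l => by
    obtain ⟨x, hx⟩ := hev l
    exact ⟨x, fun h => hx (by rw [h, mulVec_zero])⟩
  obtain ⟨l₀, hl₀⟩ : ∃ l, IsN f (G l) := by
    by_contra hno
    push Not at hno
    have e := hskew _ hmem
    rw [pAdj, transpose_smul, Matrix.mul_smul, Matrix.smul_mul, ← pAdj, pAdj_tmat hf,
      show (fun i => adj f (G i)) = G from funext fun i => adj_pat hf (hG i) (hno i), ← neg_smul,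
      ← sub_eq_zero, ← sub_smul, smul_eq_zero, sub_neg_eq_add, ← two_mul] at e
    exact e.elim (mul_ne_zero h2 hc) (tmat_ne_zero hGne)
  have hpart : ∀ S : Finset (Fin t), ∃ d : F, d ≠ 0 ∧ d • tmat (S.piecewise G' G) ∈ 𝒦 := by
    intro S
    induction S using Finset.induction_on with
    | empty => exact ⟨c, hc, by simpa using hmem⟩
    | insert l S hl ih =>
      obtain ⟨d, hd, hmem'⟩ := ih
      rw [Finset.piecewise_insert]
      rcases hG' l with h | ⟨a, b, r, hab, hr, h⟩
      · refine ⟨d, hd, ?_⟩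
        rwa [h, show Function.update (S.piecewise G' G) l (G l) = S.piecewise G' G from funext fun j => by
          by_cases hj : j = l
          · subst hj; simp [hl]
          · simp [hj]]
      · refine ⟨d * r, mul_ne_zero hd hr, ?_⟩
        have := hS l a b hab _ hmem'
        convert this using 1
        rw [sand, Matrix.mul_smul, Matrix.smul_mul, Matrix.mul_smul, Matrix.smul_mul, ← smul_add, mul_smul,
          emb_tmat_emb, emb_tmat_emb, ← tmat_update_add, Finset.piecewise_eq_of_notMem _ _ _ hl, h,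
          tmat_update_smul]
  obtain ⟨d, hd, hmem'⟩ := hpart Finset.univ
  rw [Finset.piecewise_univ] at hmem'
  obtain ⟨e, he⟩ := hanti _ hmem _ hmem'
  have hX : ∀ xs, (d * c) • pv (fun i => G i *ᵥ (G' i *ᵥ xs i)) + (c * d) • pv (fun i => G' i *ᵥ (G i *ᵥ xs i)) =
      e • pv xs := fun xs => by
    have := congrArg (· *ᵥ pv xs) he
    simpa only [add_mulVec, ← mulVec_mulVec, smul_mulVec, mulVec_smul, tmat_mulVec, one_mulVec, smul_smul] using this
  obtain ⟨⟨x₀, hx₀, hx₀'⟩, y, hy, hy1, hy2⟩ := hN l₀ hl₀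
  have hz : ∀ {zs : Fin t → Fin k → F}, zs l₀ = 0 → pv zs = 0 := fun {zs} h => funext fun i => by
    exact Finset.prod_eq_zero (Finset.mem_univ l₀) (by rw [h]; rfl)
  choose x hx using hev
  have hxne : ∀ l, x l ≠ 0 := fun l h => hx l (by rw [h, mulVec_zero, mulVec_zero])
  have he0 : e = 0 := by
    have := hX (Function.update x l₀ y)
    rw [hz (by simp [hy2, mulVec_zero]), hz (by simp [hy1, mulVec_zero]), smul_zero, smul_zero, add_zero] at this
    refine (smul_eq_zero.mp this.symm).resolve_right (pv_ne_zero fun l => ?_)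
    by_cases hl : l = l₀
    · subst hl; simpa using hy
    · simpa [hl] using hxne l
  have := hX (Function.update x l₀ x₀)
  rw [he0, zero_smul, hz (by simp [hx₀, mulVec_zero]), smul_zero, zero_add, smul_eq_zero] at this
  refine this.elim (mul_ne_zero hc hd) (pv_ne_zero fun l => ?_)
  by_cases hl : l = l₀
  · subst hl; simpa using hx₀'
  · simpa [hl] using hx l

end CfsgLib.Classical22.TPow
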