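/-
Groups of isometries of a tensor power containing the slot roots, without non-scalar slot shears.
-/
import Cfsg.Agent.Lib.Classical22.TensorPower.Cliff
import Cfsg.Agent.Lib.Classical22.TensorWreathMax.Pure

set_option autoImplicit false
set_option linter.unusedSectionVars false
set_option linter.unusedSimpArgs false

namespace CfsgLib.Classical22.TPow

open Matrix Kronecker CfsgLib.Transvec CfsgLib.Classical22.TensorMax CfsgLib.Classical22.TensorMax.SympO
open CfsgLib.Classical22.TensorMax.SpO (kr kr_apply isKron_kr)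
open CfsgLib.Classical22.TWMax
open scoped MatrixGroups

variable {F : Type*} [Field F] {t k : ℕ} {f : (Fin k → F) → (Fin k → F) → F}

/-- The isometries of the tensor power form. -/
def PIso (f : (Fin k → F) → (Fin k → F) → F) (g : GL (Idx t k) F) : Prop := (g.val)ᵀ * pG t f * g.val = pG t f

/-- The slot transvection. -/
noncomputable def ptr (f : (Fin k → F) → (Fin k → F) → F) (u : Fin k → F) (c : F) : GL (Fin k) F :=
  transv u (c • (gram f *ᵥ u))

/-- A group of isometries containing the slot roots. -/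
structure PCtx (f : (Fin k → F) → (Fin k → F) → F) (M : Subgroup (GL (Idx (t + 1) k) F)) : Prop where
  iso : ∀ g ∈ M, PIso f g
  root : ∀ s u c, slotEl s (ptr f u c) ∈ M

/-- A slot shear with non-scalar block. -/
def NSShear (f : (Fin k → F) → (Fin k → F) → F) (M : Subgroup (GL (Idx (t + 1) k) F)) : Prop :=
  ∃ s v, v ≠ 0 ∧ ∃ S : Matrix (Fin (k ^ t)) (Fin (k ^ t)) F, (¬ ∃ c : F, S = c • 1) ∧
    ∃ h ∈ M, (slotG s h).val = 1 + S ⊗ₖ outer f v v

/-- The statement proved by induction on the number of slots. -/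
def PDich (F : Type*) [Field F] {k : ℕ} (f : (Fin k → F) → (Fin k → F) → F) (t : ℕ) : Prop :=
  ∀ M : Subgroup (GL (Idx (t + 1) k) F), PCtx f M → NSShear f M ∨ ∀ g ∈ M, IsTW g

lemma slotG_val (s : Fin (t + 1)) (g : GL (Idx (t + 1) k) F) : (slotG s g).val = slotA s g.val := rfl

lemma flatG_eq (g : GL (Idx t k) F) : (flatG t k g).val = flatA t k g.val := rfl

variable (hf : Cfsg.Geo.IsSymplecticForm f)
include hf

lemma ptr_val (u : Fin k → F) (c : F) : (ptr f u c).val = 1 + c • outer f u u :=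
  Matrix.ext_iff_mulVec.2 fun x => by
    rw [show ptr f u c = (pDuo hf 0).tr u c from rfl, (pDuo hf 0).tr_mulVec, add_mulVec, one_mulVec, smul_mulVec,
      outer_mulVec hf, smul_smul]
    rfl

lemma iso_slotG {s : Fin (t + 1)} {g : GL (Idx (t + 1) k) F} :
    (pDuo hf t).Iso (slotG s g) ↔ PIso f g := by
  rw [Duo.Iso, PIso, slotG_val, ← slotA_pG hf s, show (slotA s g.val)ᵀ = slotA s (g.val)ᵀ from
    (Matrix.transpose_reindex _ _ _), ← map_mul, ← map_mul]
  exact ⟨fun h => (slotA s).injective h, fun h => congrArg (slotA s) h⟩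

lemma slotG_root (s : Fin (t + 1)) (u : Fin k → F) (c : F) :
    slotG s (slotEl s (ptr f u c)) = slot ((pDuo hf t).tr u c) := by
  rw [slotG_slotEl]; rfl

omit hf in
lemma slotG_other (s : Fin (t + 1)) (l : Fin t) (τ : GL (Fin k) F) {A : GL (Fin (k ^ t)) F}
    (hA : A.val = flatA t k (emb l τ.val)) :
    slotG s (slotEl (s.succAbove l) τ) = kr A (1 : GL (Fin k) F) :=
  Units.ext (by rw [slotG_val, slotEl_val, slotA_emb_other, ← hA]; rfl)

/-- The two-factor hypotheses. -/
theorem side_of {M : Subgroup (GL (Idx (t + 1) k) F)} (C : PCtx f M) (hns : ¬ NSShear f M) (s : Fin (t + 1)) :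
    (pDuo hf t).Side (M.map (slotG s).toMonoidHom) where
  iso := by rintro _ ⟨g, hg, rfl⟩; exact (iso_slotG hf).mpr (C.iso g hg)
  root u c := ⟨_, C.root s u c, slotG_root hf s u c⟩
  scalar := by
    rintro _ ⟨g, hg, rfl⟩ v hv S hS
    by_contra h
    exact hns ⟨s, v, hv, S, h, g, hg, hS⟩

theorem noCliff_of [Finite F] (h2 : (2 : F) ≠ 0) {M : Subgroup (GL (Idx (t + 1) k) F)} (C : PCtx f M)
    (s : Fin (t + 1)) : (pDuo hf t).NoCliff (M.map (slotG s).toMonoidHom) := by
  intro hk 𝒦 hskew hinv hanti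
  obtain ⟨𝒦', h𝒦'⟩ : ∃ 𝒦' : AddSubgroup (Matrix (Idx t k) (Idx t k) F), ∀ B, B ∈ 𝒦' ↔ flatA t k B ∈ 𝒦 :=
    ⟨𝒦.comap (flatA t k).toLinearMap.toAddMonoidHom, fun B => Iff.rfl⟩
  have hbot := cliff_bot hf h2 hk (𝒦 := 𝒦') (fun B hB => by
      apply (flatA t k).injective
      rw [← pDuo_adjR hf, hskew _ ((h𝒦' B).mp hB), map_neg])
    (fun l u c B hB => by
      rw [h𝒦'] at hB ⊢
      have hA : (flatG t k (tGL (Function.update (fun _ => 1) l (ptr f u c)))).val =
          flatA t k (emb l (ptr f u c).val) := by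
        rw [flatG_eq, emb_eq_tmat]
        congr 1
        change tmat _ = tmat _
        congr 1
        funext j
        by_cases hj : j = l
        · subst hj; simp
        · simp [hj]
      have hAi : (flatG t k (tGL (Function.update (fun _ => 1) l (ptr f u c))))⁻¹.val =
          flatA t k (1 - c • emb l (outer f u u)) := by
        refine Units.inv_eq_of_mul_eq_one_right ?_
        rw [hA, ← map_mul, ptr_val hf, emb_add, emb_one, emb_smul]
        rw [show (1 + c • emb l (outer f u u)) * (1 - c • emb l (outer f u u)) =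
          1 - (c * c) • (emb l (outer f u u) * emb l (outer f u u)) by
          simp [mul_sub, add_mul, smul_smul]; abel, ← emb_mul, outer_sq hf, hf.alternating, zero_smul,
          show emb l (0 : Matrix (Fin k) (Fin k) F) = 0 from (embL l).map_zero, smul_zero, sub_zero, map_one]
      have := hinv _ ⟨_, C.root (s.succAbove l) u c, slotG_other s l _ hA⟩ _ hB
      rw [hA, hAi, ← map_mul, ← map_mul, ptr_val hf, emb_add, emb_one, emb_smul] at this
      exact this)
    (fun B hB B' hB' => by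
      obtain ⟨c, hc⟩ := hanti _ ((h𝒦' B).mp hB) _ ((h𝒦' B').mp hB')
      exact ⟨c, (flatA t k).injective (by rw [map_add, map_mul, map_mul, hc, map_smul, map_one])⟩)
  refine (AddSubgroup.eq_bot_iff_forall 𝒦).mpr fun K hK => ?_
  obtain ⟨B, rfl⟩ := (flatA t k).surjective K
  have : B ∈ 𝒦' := (h𝒦' B).mpr hK
  rw [hbot, AddSubgroup.mem_bot] at this
  rw [this, map_zero]

omit hf

/-- The matrix read in two slot systems. -/
noncomputable def mixG (i j : Fin (t + 1)) (g : GL (Idx (t + 1) k) F) : GL (Fin (k ^ t) × Fin k) F where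
  val := Matrix.reindex (slotE j) (slotE i) g.val
  inv := Matrix.reindex (slotE i) (slotE j) g⁻¹.val
  val_inv := by simp [Matrix.reindex_apply, Matrix.submatrix_mul_equiv]
  inv_val := by simp [Matrix.reindex_apply, Matrix.submatrix_mul_equiv]

lemma mixG_vec (i j : Fin (t + 1)) (g : GL (Idx (t + 1) k) F) (w : Idx (t + 1) k → F) :
    (mixG i j g).val *ᵥ (w ∘ (slotE i).symm) = (g.val *ᵥ w) ∘ (slotE j).symm := by
  change Matrix.reindex (slotE j) (slotE i) g.val *ᵥ _ = _
  rw [Matrix.reindex_apply, Matrix.submatrix_mulVec_equiv]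
  simp [Function.comp_assoc]

lemma mixG_conj (i j : Fin (t + 1)) (g h : GL (Idx (t + 1) k) F) :
    mixG i j g * slotG i h * (mixG i j g)⁻¹ = slotG j (g * h * g⁻¹) := Units.ext (by
  simp only [Units.val_mul, slotG_val, slotA, reindexAlgEquiv_apply]
  change Matrix.reindex _ _ g.val * _ * Matrix.reindex (slotE i) (slotE j) g⁻¹.val = _
  simp [Matrix.reindex_apply, Matrix.submatrix_mul_equiv])

lemma mixG_inv (i j : Fin (t + 1)) (g : GL (Idx (t + 1) k) F) : (mixG i j g)⁻¹ = mixG j i g⁻¹ :=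
  Units.ext rfl

/-- A relation among three pure vectors. -/
theorem two_diff (h2 : (2 : F) ≠ 0) {xs ys zs : Fin (t + 1) → Fin k → F} (hx : ∀ l, xs l ≠ 0)
    (hy : ∀ l, ys l ≠ 0) (heq : pv zs = (2 : F) • pv ys - pv xs) {i j : Fin (t + 1)} (hij : i ≠ j)
    (hni : ys i ∉ Submodule.span F ({xs i} : Set (Fin k → F)))
    (hnj : ys j ∉ Submodule.span F ({xs j} : Set (Fin k → F))) : False := by
  have hslot := congrArg (fun v : Idx (t + 1) k → F => v ∘ (slotE i).symm) heq
  simp only [slot_vec, Pi.sub_comp] at hslot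
  rw [show ((2 : F) • pv ys) ∘ (slotE i).symm = (2 : F) • (pv ys ∘ (slotE i).symm) from rfl, slot_vec] at hslot
  obtain ⟨φ, hφ, hφy⟩ := exists_functional hni
  have hφx := hφ _ (Submodule.mem_span_singleton_self _)
  have hnx : xs i ∉ Submodule.span F ({ys i} : Set (Fin k → F)) := fun h => by
    obtain ⟨l, hl⟩ := Submodule.mem_span_singleton.mp h
    have hl0 : l ≠ 0 := fun h0 => hx i (by rw [← hl, h0, zero_smul])
    exact hni (Submodule.mem_span_singleton.mpr ⟨l⁻¹, by rw [← hl, inv_smul_smul₀ hl0]⟩)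
  obtain ⟨ψ, hψ, hψx⟩ := exists_functional hnx
  have hψy := hψ _ (Submodule.mem_span_singleton_self _)
  have e1 := congrArg (sl φ) hslot
  have e2 := congrArg (sl ψ) hslot
  rw [map_sub, map_smul, sl_pt, sl_pt, sl_pt, hφy, hφx, one_smul, zero_smul, sub_zero] at e1
  rw [map_sub, map_smul, sl_pt, sl_pt, sl_pt, hψy, hψx, one_smul, zero_smul, smul_zero, zero_sub] at e2
  obtain ⟨j', hj'⟩ := Fin.exists_succAbove_eq hij.symm
  refine hnj (hj' ▸ mem_span_of_pv_eq (fun k => hx (i.succAbove k)) (fun k => hy (i.succAbove k))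
    (l := -((φ ⬝ᵥ zs i) / ((2 : F) * (ψ ⬝ᵥ zs i)))) ?_ j')
  have hψz : ψ ⬝ᵥ zs i ≠ 0 := fun h0 => by
    rw [h0, zero_smul, eq_comm, neg_eq_zero] at e2
    exact pv_ne_zero (fun k => hx (i.succAbove k))
      ((flatE t k).symm.surjective.injective_comp_right (a₂ := 0) e2)
  refine (flatE t k).symm.surjective.injective_comp_right ?_
  simp only
  change fv (fun l => ys (i.succAbove l)) =
    (-((φ ⬝ᵥ zs i) / ((2 : F) * (ψ ⬝ᵥ zs i)))) • fv (fun l => xs (i.succAbove l))
  calc fv (fun l => ys (i.succAbove l)) = (2 : F)⁻¹ • ((φ ⬝ᵥ zs i) • fv fun l => zs (i.succAbove l)) := by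
        rw [e1, inv_smul_smul₀ h2]
    _ = _ := by
        rw [← neg_neg (fv fun l => xs (i.succAbove l)), ← e2, smul_neg, smul_smul, smul_smul, ← neg_smul]
        congr 1
        field_simp

/-- An element of the tensor wreath group with square-zero part of small rank moves a pure subspace. -/
theorem pure_of_sq (h2 : (2 : F) ≠ 0) (hk : 2 ≤ k) {y : GL (Idx (t + 1) k) F}
    (htw : IsTW y) (hne : y ≠ 1) (hsq : (y.val - 1) * (y.val - 1) = 0)
    (hd : Module.finrank F (mv y) ≤ k ^ t) : ∃ s u, u ≠ 0 ∧ mv y = slotW s u := by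
  classical
  obtain ⟨σ, gs, hy⟩ := htw
  have hrel : ∀ xs, pv (fun l => (gs l).val *ᵥ ((gs (σ l)).val *ᵥ xs (σ (σ l)))) =
      (2 : F) • pv (fun l => (gs l).val *ᵥ xs (σ l)) - pv xs := fun xs => by
    have := congrArg (· *ᵥ pv xs) hsq
    simp only [← mulVec_mulVec, sub_mulVec, one_mulVec, zero_mulVec, mulVec_sub] at this
    rw [← hy (fun l => (gs l).val *ᵥ xs (σ l)), ← hy xs, two_smul]
    linear_combination (norm := abel) this
  obtain ⟨e, he⟩ : ∃ e : Fin k → F, e ≠ 0 := ⟨Pi.single ⟨0, by omega⟩ 1, by simp⟩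
  have hout : ∀ p q : Fin k → F, p ≠ 0 → q ≠ 0 → ∃ y, y ∉ Submodule.span F ({p} : Set (Fin k → F)) ∧
      y ∉ Submodule.span F ({q} : Set (Fin k → F)) := by
    intro p q hp hq
    by_cases hpq : q ∈ Submodule.span F ({p} : Set (Fin k → F))
    · obtain ⟨y, hy⟩ := exists_notMem_span (show 1 < k by omega) ![p]
      simp only [Matrix.range_cons, Matrix.range_empty, Set.union_empty] at hy
      exact ⟨y, hy, fun h => hy ((Submodule.span_singleton_le_iff_mem _ _).mpr hpq h)⟩
    · refine ⟨p + q, fun h => hpq ?_, fun h => ?_⟩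
      · simpa using Submodule.sub_mem _ h (Submodule.mem_span_singleton_self p)
      · obtain ⟨c, hc⟩ := Submodule.mem_span_singleton.mp
          (by simpa using Submodule.sub_mem _ h (Submodule.mem_span_singleton_self q) :
            p ∈ Submodule.span F ({q} : Set (Fin k → F)))
        have hc0 : c ≠ 0 := fun h0 => hp (by rw [← hc, h0, zero_smul])
        exact hpq (Submodule.mem_span_singleton.mpr ⟨c⁻¹, by rw [← hc, inv_smul_smul₀ hc0]⟩)
  have hσ : σ = 1 := by
    by_contra hσ
    obtain ⟨i, hi⟩ : ∃ i, σ i ≠ i := by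
      by_contra h
      push Not at h
      exact hσ (Equiv.ext h)
    obtain ⟨z, hz1, hz2⟩ := hout _ _ (mulVec_ne_zero (gs (σ i)) he) (mulVec_ne_zero (gs i)⁻¹ he)
    have hz0 : z ≠ 0 := fun h0 => hz1 (h0 ▸ Submodule.zero_mem _)
    obtain ⟨xs, hxs⟩ : ∃ xs : Fin (t + 1) → Fin k → F, xs = Function.update (fun _ => e) (σ i) z := ⟨_, rfl⟩
    have hx : ∀ l, xs l ≠ 0 := fun l => by
      rw [hxs]
      by_cases hl : l = σ i
      · subst hl; simpa using hz0
      · simpa [hl] using he
    refine two_diff h2 hx (fun l => mulVec_ne_zero _ (hx (σ l))) (hrel xs) (Ne.symm hi) ?_ ?_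
    · rw [hxs]
      simp only [Function.update_self, Function.update_of_ne (Ne.symm hi)]
      intro h
      obtain ⟨l, hl⟩ := Submodule.mem_span_singleton.mp h
      exact hz2 (Submodule.mem_span_singleton.mpr ⟨l, by rw [← mulVec_smul, hl, Transvec.inv_mulVec_cancel]⟩)
    · have : σ (σ i) ≠ σ i := fun h => hi (σ.injective h)
      rw [hxs]
      simp only [Function.update_of_ne this, Function.update_self]
      intro h
      obtain ⟨l, hl⟩ := Submodule.mem_span_singleton.mp h
      have hl0 : l ≠ 0 := fun h0 => mulVec_ne_zero (gs (σ i)) he (by rw [← hl, h0, zero_smul])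
      exact hz1 (Submodule.mem_span_singleton.mpr ⟨l⁻¹, by rw [← hl, inv_smul_smul₀ hl0]⟩)
  subst hσ
  have hsc : ∀ i j, i ≠ j → (∃ c : F, ∀ x, (gs i).val *ᵥ x = c • x) ∨ ∃ c : F, ∀ x, (gs j).val *ᵥ x = c • x := by
    intro i j hij
    by_contra h
    push Not at h
    have hmk : ∀ l, (∀ c : F, ∃ x, (gs l).val *ᵥ x ≠ c • x) → ∃ x, x ≠ 0 ∧
        (gs l).val *ᵥ x ∉ Submodule.span F ({x} : Set (Fin k → F)) := fun l hl => by
      by_contra hall
      push Not at hall
      obtain ⟨c, hc⟩ := exists_scalar_of_eig (A := (gs l).val) (by omega) fun x => by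
        by_cases hx : x = 0
        · exact ⟨0, by rw [hx, mulVec_zero, smul_zero]⟩
        obtain ⟨c, hc⟩ := Submodule.mem_span_singleton.mp (hall x hx)
        exact ⟨c, hc.symm⟩
      obtain ⟨x, hx⟩ := hl c
      exact hx (hc x)
    obtain ⟨a, ha0, ha⟩ := hmk i h.1
    obtain ⟨b, hb0, hb⟩ := hmk j h.2
    obtain ⟨xs, hxs⟩ : ∃ xs : Fin (t + 1) → Fin k → F,
        xs = Function.update (Function.update (fun _ => e) i a) j b := ⟨_, rfl⟩
    have hx : ∀ l, xs l ≠ 0 := fun l => by
      rw [hxs]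
      by_cases hl : l = j
      · subst hl; simpa using hb0
      · by_cases hl' : l = i
        · subst hl'; simpa [hl] using ha0
        · simpa [hl, hl'] using he
    exact two_diff h2 hx (fun l => mulVec_ne_zero _ (hx _)) (hrel xs) hij (by simp [hxs, hij]; exact ha)
      (by simp [hxs]; exact hb)
  by_cases hall : ∀ l, ∃ c : F, ∀ x, (gs l).val *ᵥ x = c • x
  · exfalso
    choose c hc using hall
    have hval : y.val = (∏ l, c l) • 1 := mat_ext_pv fun xs => by
      rw [hy, smul_mulVec, one_mulVec]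
      funext a
      simp [pv, hc, Finset.prod_mul_distrib]
    refine hne (Units.ext ?_)
    rw [hval, show (∏ l, c l) • (1 : Matrix (Idx (t + 1) k) (Idx (t + 1) k) F) - 1 =
      ((∏ l, c l) - 1) • 1 by rw [sub_smul, one_smul], smul_mul_smul_comm, mul_one, smul_eq_zero] at hsq
    rcases hsq with h | h
    · rw [hval, Units.val_one, sub_eq_zero.mp (mul_self_eq_zero.mp h), one_smul]
    · haveI : Nonempty (Idx (t + 1) k) := ⟨fun _ => ⟨0, by omega⟩⟩
      exact absurd h one_ne_zero
  push Not at hall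
  obtain ⟨s, hs⟩ := hall
  obtain ⟨A, π, hA, hπ, hk'⟩ := hy.slot (s := s) rfl
  have hπ1 : π = 1 := Equiv.ext fun l => (Fin.succAbove_right_injective (hπ l)).symm
  have hothers : ∀ l, ∃ c : F, ∀ x, (gs (s.succAbove l)).val *ᵥ x = c • x := fun l =>
    (hsc _ _ (Fin.succAbove_ne s l)).resolve_right fun ⟨c, hc⟩ => by
      obtain ⟨x, hx⟩ := hs c; exact hx (hc x)
  choose c hc using hothers
  have hAc : ∀ x, (flatG t k A).val *ᵥ x = (∏ l, c l) • x := by
    have : A.val = (∏ l, c l) • 1 := mat_ext_pv fun xs => by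
      rw [hA, hπ1, smul_mulVec, one_mulVec]
      funext a
      simp [pv, hc, Finset.prod_mul_distrib]
    intro x
    rw [flatG_eq, this, map_smul, map_one, smul_mulVec, one_mulVec]
  obtain ⟨u, hu, hmv⟩ := mv_kr_scalar hAc (gs s) (fun h => hne ((slotG s).injective (by rw [hk', h, map_one])))
    (by rw [← hk', slotG, finrank_mv_glReindex]; exact hd)
  exact ⟨s, u, hu, mv_slotW (by rw [hk', hmv])⟩

end CfsgLib.Classical22.TPow
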