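/-
Elements mapping a pure subspace to a pure subspace lie in the tensor wreath group.
-/
import Cfsg.Agent.Lib.Classical22.TensorPower.Ctx
import Cfsg.Agent.Lib.Classical22.UnitTensor.PGroup

set_option autoImplicit false
set_option linter.unusedSectionVars false
set_option linter.unusedSimpArgs false

namespace CfsgLib.Classical22.TPow

open Matrix Kronecker CfsgLib.Transvec CfsgLib.Classical22.TensorMax CfsgLib.Classical22.TensorMax.SympO
open CfsgLib.Classical22.TensorMax.SpO (kr kr_apply isKron_kr)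
open CfsgLib.Classical22.TWMax
open scoped MatrixGroups

variable {F : Type*} [Field F] [Finite F] {T k : ℕ} {f : (Fin k → F) → (Fin k → F) → F}

/-- The standing hypotheses. -/
structure PHyp (f : (Fin k → F) → (Fin k → F) → F) (M : Subgroup (GL (Idx (T + 2) k) F)) : Prop where
  symp : Cfsg.Geo.IsSymplecticForm f
  two : (2 : F) ≠ 0
  dim : 2 ≤ k
  big : 4 ≤ k ∨ ∃ a : F, a ≠ 0 ∧ a * a ≠ 1
  ctx : PCtx f M
  nns : ¬ NSShear f M
  ih : PDich F f T

/-- The image of the pure subspace at `(s, u)` is pure. -/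
def PureImg (g : GL (Idx (T + 2) k) F) (s : Fin (T + 2)) (u : Fin k → F) : Prop :=
  ∃ s' u', u' ≠ 0 ∧ gim g (slotW s u) = slotW s' u'

lemma tw_inv {g : GL (Idx (T + 2) k) F} (h : IsTW g) : IsTW g⁻¹ := by
  obtain ⟨σ, gs, hg⟩ := h
  exact ⟨_, _, hg.inv⟩

lemma tw_mul {g h : GL (Idx (T + 2) k) F} (hg : IsTW g) (hh : IsTW h) : IsTW (g * h) := by
  obtain ⟨σ, gs, hg⟩ := hg
  obtain ⟨τ, hs, hh⟩ := hh
  exact ⟨_, _, hg.mul hh⟩

lemma sq_conj {ι : Type} [Fintype ι] [DecidableEq ι] (g y : GL ι F) (h : (y.val - 1) * (y.val - 1) = 0) :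
    ((g * y * g⁻¹).val - 1) * ((g * y * g⁻¹).val - 1) = 0 := by
  have e : (g * y * g⁻¹).val - 1 = g.val * (y.val - 1) * g⁻¹.val := by
    rw [mul_sub, sub_mul, mul_one, Units.mul_inv, Units.val_mul, Units.val_mul]
  rw [e]
  calc g.val * (y.val - 1) * g⁻¹.val * (g.val * (y.val - 1) * g⁻¹.val)
      = g.val * ((y.val - 1) * ((g⁻¹.val * g.val) * (y.val - 1))) * g⁻¹.val := by simp only [mul_assoc]
    _ = 0 := by rw [Units.inv_mul, one_mul, h, mul_zero, zero_mul]

variable {M : Subgroup (GL (Idx (T + 2) k) F)} (H : PHyp f M)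
include H

/-- The root at `u`. -/
lemma PHyp.ptr_dot (u : Fin k → F) : ((1 : F) • (gram f *ᵥ u)) ⬝ᵥ u = 0 := by
  rw [one_smul, ← form_eq_dot H.symp, H.symp.alternating]

lemma PHyp.root_mv (s : Fin (T + 2)) {u : Fin k → F} (hu : u ≠ 0) : mv (slotEl s (ptr f u 1)) = slotW s u :=
  mv_rs (H.ptr_dot u) (by rw [one_smul]; exact gram_mulVec_ne_zero H.symp hu)

lemma PHyp.root_sq (s : Fin (T + 2)) (u : Fin k → F) :
    ((slotEl s (ptr f u 1)).val - 1) * ((slotEl s (ptr f u 1)).val - 1) = 0 := rs_sq (H.ptr_dot u)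

lemma PHyp.root_ne (s : Fin (T + 2)) {u : Fin k → F} (hu : u ≠ 0) : slotEl s (ptr f u 1) ≠ 1 := fun h => by
  have e := H.root_mv s hu
  rw [h, show mv (1 : GL (Idx (T + 2) k) F) = ⊥ from (Submodule.eq_bot_iff _).mpr fun v hv => by
    obtain ⟨w, rfl⟩ := mem_mv.mp hv; rw [Units.val_one, one_mulVec, sub_self]] at e
  have := finrank_slotW s hu
  rw [← e, finrank_bot] at this
  exact absurd this.symm (Nat.pow_pos (by have := H.dim; omega)).ne'

/-- A conjugate of a root inside the tensor wreath group gives a pure image. -/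
theorem PHyp.pimg_of_conj {g : GL (Idx (T + 2) k) F} (s : Fin (T + 2)) {u : Fin k → F} (hu : u ≠ 0)
    (h : IsTW (g * slotEl s (ptr f u 1) * g⁻¹)) : PureImg g s u := by
  have hmv : mv (g * slotEl s (ptr f u 1) * g⁻¹) = gim g (slotW s u) := by rw [mv_conj, H.root_mv s hu]
  obtain ⟨s', u', hu', he⟩ := pure_of_sq H.two H.dim h (fun h1 => H.root_ne s hu (by
      have := congrArg (fun x => g⁻¹ * x * g) h1
      simpa [mul_assoc] using this)) (sq_conj g _ (H.root_sq s u))
    (by rw [hmv, finrank_gim, finrank_slotW _ hu])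
  exact ⟨s', u', hu', hmv ▸ he⟩

/-- An element with a pure image of a pure subspace moves the roots of the other slots into the group. -/
theorem PHyp.conj_of_pimg {g : GL (Idx (T + 2) k) F} (hg : g ∈ M) {i : Fin (T + 2)} {u : Fin k → F} (hu : u ≠ 0)
    (hP : PureImg g i u) {r : Fin (T + 2)} (hr : r ≠ i) (w : Fin k → F) :
    IsTW (g * slotEl r (ptr f w 1) * g⁻¹) := by
  classical
  obtain ⟨j, v, hv, hgv⟩ := hP
  obtain ⟨D, hD⟩ : ∃ D, D = pDuo H.symp (T + 1) := ⟨_, rfl⟩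
  obtain ⟨gg, hgg⟩ : ∃ gg, gg = mixG i j g := ⟨_, rfl⟩
  have hn : 0 < k ^ (T + 1) := Nat.pow_pos (by have := H.dim; omega)
  have hvec : ∀ y, ∃ y', gg.val *ᵥ pt y u = pt y' v := by
    intro y
    have hw : pt y u ∘ slotE i ∈ slotW i u := by
      rw [mem_slotW, Function.comp_assoc, Equiv.self_comp_symm, Function.comp_id]
      exact pt_mem_pureW y u
    have h2 : g.val *ᵥ (pt y u ∘ slotE i) ∈ slotW j v := hgv ▸ mem_gim.mpr ⟨_, hw, rfl⟩
    rw [mem_slotW, ← mixG_vec i, Function.comp_assoc, Equiv.self_comp_symm, Function.comp_id, ← hgg] at h2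
    obtain ⟨y', hy'⟩ := h2
    exact ⟨y', hy'.symm⟩
  obtain ⟨v', hv'⟩ := D.exists_dual hv
  obtain ⟨L₀, hL₀⟩ : ∃ L₀ : (Fin (k ^ (T + 1)) → F) →ₗ[F] (Fin (k ^ (T + 1)) → F),
      ∀ y, L₀ y = D.ct v' (gg.val *ᵥ pt y u) :=
    ⟨(D.ct v').comp ((Matrix.mulVecLin gg.val).comp (ptL u)), fun y => rfl⟩
  have hL₀v : ∀ y, gg.val *ᵥ pt y u = pt (L₀ y) v := fun y => by
    obtain ⟨y', hy'⟩ := hvec y
    rw [hL₀, hy', D.ct_pt, hv', one_smul]
  have hinj : Function.Injective L₀ := fun a b h => pt_injective hu (mulVec_injective gg (by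
    simp only [ptL_apply]; rw [hL₀v, hL₀v, h]))
  have hW : ∀ y, gg.val *ᵥ pt y u = pt ((SpO.glOfLin L₀ hinj).val *ᵥ y) v := fun y => by
    rw [SpO.glOfLin_mulVec, hL₀v]
  have hiso : D.Iso gg := by
    have e : (g.val)ᵀ * pG (T + 2) f * g.val = pG (T + 2) f := H.ctx.iso g hg
    rw [hgg, hD, Duo.Iso]
    change (Matrix.reindex (slotE j) (slotE i) g.val)ᵀ * _ * Matrix.reindex (slotE j) (slotE i) g.val = _
    conv_lhs => rw [← slotA_pG H.symp j]
    rw [← slotA_pG H.symp i]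
    simp only [slotA, reindexAlgEquiv_apply, reindex_apply, transpose_submatrix, submatrix_mul_equiv, e]
  have hk := Duo.isKron_of_map (D := D) H.two hn (hD ▸ side_of H.symp H.ctx H.nns i) (hD ▸ side_of H.symp H.ctx H.nns j)
    (hD ▸ noCliff_of H.symp H.two H.ctx i) (hD ▸ noCliff_of H.symp H.two H.ctx j) hiso
    (fun h hh => by
      obtain ⟨x, hx, rfl⟩ := hh
      exact ⟨g * x * g⁻¹, mul_mem (mul_mem hg hx) (inv_mem hg), by rw [hgg]; exact (mixG_conj i j g x).symm⟩)
    (fun h hh => by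
      obtain ⟨x, hx, rfl⟩ := hh
      exact ⟨g⁻¹ * x * g⁻¹⁻¹, mul_mem (mul_mem (inv_mem hg) hx) (inv_mem (inv_mem hg)), by
        rw [hgg, mixG_inv]; exact (mixG_conj j i g⁻¹ x).symm⟩)
    hu hv hW H.big
  obtain ⟨A, B, hAB⟩ := hk
  have hggk : gg = kr A B := Units.ext hAB
  -- the group of the other slots of `j`
  obtain ⟨N, hN⟩ : ∃ N : Subgroup (GL (Idx (T + 1) k) F), ∀ a, a ∈ N ↔
      kr (flatG (T + 1) k a) (1 : GL (Fin k) F) ∈ M.map (slotG j).toMonoidHom :=
    ⟨(M.map (slotG j).toMonoidHom).comap ((MonoidHom.mk' (fun a => kr a (1 : GL (Fin k) F))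
        fun a b => Units.ext (by simp [kr, ← mul_kronecker_mul])).comp (flatG (T + 1) k).toMonoidHom),
      fun a => Iff.rfl⟩
  have hNctx : PCtx f N := by
    refine ⟨fun a ha => ?_, fun l x c => (hN _).mpr ⟨_, H.ctx.root (j.succAbove l) x c, ?_⟩⟩
    · obtain ⟨x, hx, he⟩ := (hN a).mp ha
      have hx' := (iso_slotG (s := j) H.symp).mpr (H.ctx.iso x hx)
      rw [show slotG j x = kr (flatG (T + 1) k a) (1 : GL (Fin k) F) from he] at hx'
      unfold Duo.Iso at hx'
      obtain ⟨v₀, hv₀⟩ : ∃ v₀ : Fin k → F, v₀ ≠ 0 := ⟨v, hv⟩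
      have h1 := congrArg (fun X => (pDuo H.symp (T + 1)).G⁻¹ * X) hx'
      have h2 : (pDuo H.symp (T + 1)).adjR (flatA (T + 1) k a.val) * flatA (T + 1) k a.val = 1 := by
        have e := congrArg ((pDuo H.symp (T + 1)).cR v' v) (show (pDuo H.symp (T + 1)).adjV
          (flatA (T + 1) k a.val ⊗ₖ (1 : Matrix (Fin k) (Fin k) F)) *
          (flatA (T + 1) k a.val ⊗ₖ (1 : Matrix (Fin k) (Fin k) F)) = 1 by
            have h3 := h1
            rw [Matrix.nonsing_inv_mul _ (pDuo H.symp (T + 1)).G_unit] at h3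
            rw [Duo.adjV, mul_assoc, mul_assoc]
            simpa [mul_assoc, kr, flatG_eq] using h3)
        rw [(pDuo H.symp (T + 1)).adjV_kron, ← mul_kronecker_mul, mul_one,
          show adj (pDuo H.symp (T + 1)).f (1 : Matrix (Fin k) (Fin k) F) = 1 from (by simpa using adj_scalar H.symp (1 : F) : adj f (1 : Matrix (Fin k) (Fin k) F) = 1),
          (pDuo H.symp (T + 1)).cR_kron, (pDuo H.symp (T + 1)).cR_one, one_mulVec] at e
        rw [hD] at hv'
        exact smul_right_injective _ (show (pDuo H.symp (T + 1)).f v v' ≠ 0 by rw [hv']; exact one_ne_zero) e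
      rw [pDuo_adjR, ← map_mul, ← map_one (flatA (F := F) (T + 1) k)] at h2
      have h4 := congrArg (fun X => pG (T + 1) f * X) ((flatA (T + 1) k).injective h2)
      simp only [pAdj] at h4
      rw [mul_one, ← mul_assoc, ← mul_assoc, ← mul_assoc, Matrix.mul_nonsing_inv _ (pG_unit H.symp), one_mul] at h4
      exact h4
    · refine slotG_other j l (ptr f x c) ?_
      rw [flatG_eq, slotEl_val]
  have hNtw : ∀ a ∈ N, IsTW a := by
    refine (H.ih N hNctx).resolve_left ?_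
    rintro ⟨l, x, hx, S, hS, e, he, heS⟩
    obtain ⟨E, hE, hEe⟩ := (hN e).mp he
    -- the block commutes with its slot
    obtain ⟨MS, hMS⟩ : ∃ MS, MS = (slotA l).symm (S ⊗ₖ (1 : Matrix (Fin k) (Fin k) F)) := ⟨_, rfl⟩
    have hev : e.val = 1 + MS * emb l (outer f x x) := by
      apply (slotA l).injective
      rw [← slotG_val, heS, map_add, map_one, map_mul, hMS, AlgEquiv.apply_symm_apply, slotA_emb_same,
        ← mul_kronecker_mul, mul_one, one_mul]
    have hMScomm : ∀ Y, MS * emb l Y = emb l Y * MS := fun Y => by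
      apply (slotA l).injective
      rw [map_mul, map_mul, hMS, AlgEquiv.apply_symm_apply, slotA_emb_same, ← mul_kronecker_mul, ← mul_kronecker_mul,
        mul_one, one_mul, mul_one, one_mul]
    obtain ⟨X', hX'⟩ : ∃ X', X' = (slotA j).symm (flatA (T + 1) k MS ⊗ₖ (1 : Matrix (Fin k) (Fin k) F)) := ⟨_, rfl⟩
    have hEv : E.val = 1 + X' * emb (j.succAbove l) (outer f x x) := by
      apply (slotA j).injective
      rw [← slotG_val, show slotG j E = _ from hEe, map_add, map_one, map_mul, hX', AlgEquiv.apply_symm_apply,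
        slotA_emb_other, ← mul_kronecker_mul, mul_one, ← map_mul]
      change flatA (T + 1) k e.val ⊗ₖ (1 : Matrix (Fin k) (Fin k) F) = _
      rw [hev, map_add, map_one, add_kronecker, one_kronecker_one]
    have hXcomm : ∀ Y, X' * emb (j.succAbove l) Y = emb (j.succAbove l) Y * X' := fun Y => by
      apply (slotA j).injective
      rw [map_mul, map_mul, hX', AlgEquiv.apply_symm_apply, slotA_emb_other, ← mul_kronecker_mul,
        ← mul_kronecker_mul, ← map_mul, ← map_mul, hMScomm, mul_one]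
    obtain ⟨S', hS'⟩ : ∃ S', slotA (j.succAbove l) X' = S' ⊗ₖ (1 : Matrix (Fin k) (Fin k) F) := by
      refine (pDuo H.symp (T + 1)).kron_one_of_orth fun a b hab => ?_
      have hcomm : slotA (j.succAbove l) X' * ((1 : Matrix (Fin (k ^ (T + 1))) (Fin (k ^ (T + 1))) F) ⊗ₖ outer f b b) =
          ((1 : Matrix (Fin (k ^ (T + 1))) (Fin (k ^ (T + 1))) F) ⊗ₖ outer f b b) * slotA (j.succAbove l) X' := by
        rw [← slotA_emb_same, ← map_mul, ← map_mul, hXcomm]
      have h0 := (pDuo H.symp (T + 1)).outer_sand a b (slotA (j.succAbove l) X')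
      change _ * _ * ((1 : Matrix (Fin (k ^ (T + 1))) (Fin (k ^ (T + 1))) F) ⊗ₖ outer f b b) = _ at h0
      rw [mul_assoc, hcomm, ← mul_assoc, ← mul_kronecker_mul, show outer (pDuo H.symp (T + 1)).f a a = outer f a a
        from rfl, outer_sq H.symp, show f b a = 0 by rw [H.symp.skew]; exact neg_eq_zero.2 hab, zero_smul, kronecker_zero,
        zero_mul] at h0
      by_cases ha : a = 0
      · rw [show a = (0 : F) • a by rw [zero_smul, ha], Duo.cR_smul_left, zero_smul]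
      by_cases hb : b = 0
      · rw [show b = (0 : F) • b by rw [zero_smul, hb], Duo.cR_smul_right, zero_smul]
      obtain ⟨b', hb'⟩ := (pDuo H.symp (T + 1)).exists_dual hb
      refine Matrix.ext_iff_mulVec.2 fun y => ?_
      have := congrArg (· *ᵥ pt y b') h0
      simp only [zero_mulVec, (pDuo H.symp (T + 1)).outer_pt] at this
      have hfb : (pDuo H.symp (T + 1)).f b' b ≠ 0 := by
        rw [(pDuo H.symp (T + 1)).symp.skew, hb']; exact neg_ne_zero.2 one_ne_zero
      rw [zero_mulVec]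
      exact (smul_eq_zero.mp (pt_eq_zero ha this.symm)).resolve_left hfb
    refine H.nns ⟨j.succAbove l, x, hx, S', fun ⟨c, hc⟩ => hS ⟨c, ?_⟩, E, hE, ?_⟩
    · have hX1 : X' = c • 1 := (slotA (j.succAbove l)).injective (by
        rw [hS', hc, map_smul, map_one, smul_kronecker, one_kronecker_one])
      have hMS1 : MS = c • 1 := by
        have h := congrArg (slotA j) hX1
        rw [hX', AlgEquiv.apply_symm_apply, map_smul, map_one, ← one_kronecker_one, ← smul_kronecker] at h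
        apply (flatA (T + 1) k).injective
        rw [map_smul, map_one]
        refine Matrix.ext fun p q => ?_
        have e := Matrix.ext_iff.mpr h (p, ⟨0, by have := H.dim; omega⟩) (q, ⟨0, by have := H.dim; omega⟩)
        simpa using e
      have h := congrArg (slotA l) hMS1
      rw [hMS, AlgEquiv.apply_symm_apply, map_smul, map_one, ← one_kronecker_one, ← smul_kronecker] at h
      refine Matrix.ext fun p q => ?_
      have e := Matrix.ext_iff.mpr h (p, ⟨0, by have := H.dim; omega⟩) (q, ⟨0, by have := H.dim; omega⟩)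
      simpa using e
    · rw [slotG_val, hEv, map_add, map_one, map_mul, hS', slotA_emb_same, ← mul_kronecker_mul, mul_one, one_mul]
  -- the conjugate
  obtain ⟨r', rfl⟩ := Fin.exists_succAbove_eq hr
  obtain ⟨τ, hτ⟩ : ∃ τ : GL (Idx (T + 1) k) F, τ = slotEl r' (ptr f w 1) := ⟨_, rfl⟩
  have hslot : slotG i (slotEl (i.succAbove r') (ptr f w 1)) = kr (flatG (T + 1) k τ) (1 : GL (Fin k) F) :=
    slotG_other i r' _ (by rw [flatG_eq, hτ, slotEl_val])
  obtain ⟨a, ha⟩ := (flatG (T + 1) k).surjective (A * flatG (T + 1) k τ * A⁻¹)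
  have hconj : slotG j (g * slotEl (i.succAbove r') (ptr f w 1) * g⁻¹) = kr (flatG (T + 1) k a) (1 : GL (Fin k) F) := by
    rw [← mixG_conj i, hslot, ← hgg, hggk, ha]
    exact Units.ext (by simp [kr, ← mul_kronecker_mul])
  obtain ⟨π, as, has⟩ := hNtw a ((hN a).mpr ⟨_, mul_mem (mul_mem hg (H.ctx.root _ w 1)) (inv_mem hg), hconj⟩)
  exact twData_of_kr j has 1 hconj

/-- One pure image puts an element in the tensor wreath group. -/
theorem PHyp.tw_of_pimg {g : GL (Idx (T + 2) k) F} (hg : g ∈ M) {s₀ : Fin (T + 2)} {u₀ : Fin k → F} (hu₀ : u₀ ≠ 0)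
    (h₀ : PureImg g s₀ u₀) : IsTW g := by
  classical
  have hk := H.dim
  have step : ∀ s u, u ≠ 0 → PureImg g s u → ∀ r, r ≠ s → ∀ v, v ≠ 0 → PureImg g r v :=
    fun s u hu hP r hrs v hv => H.pimg_of_conj r hv (H.conj_of_pimg hg hu hP hrs v)
  have hall : ∀ s u, u ≠ 0 → PureImg g s u := by
    intro s u hu
    by_cases hs : s = s₀
    · obtain ⟨r, hr⟩ := exists_ne s₀
      obtain ⟨w, hw⟩ : ∃ w : Fin k → F, w ≠ 0 := ⟨Pi.single ⟨0, by omega⟩ 1, by simp⟩
      exact step r w hw (step s₀ u₀ hu₀ h₀ r hr w hw) s (hs ▸ hr.symm) u hu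
    · exact step s₀ u₀ hu₀ h₀ s hs u hu
  choose S U hU0 hSU using hall
  obtain ⟨w, hw⟩ : ∃ w : Fin k → F, w ≠ 0 := ⟨Pi.single ⟨0, by omega⟩ 1, by simp⟩
  have hinj : ∀ X Y : Submodule F (Idx (T + 2) k → F), gim g X = gim g Y → X = Y := fun X Y h => by
    rw [← gim_inv_gim g X, h, gim_inv_gim]
  have hindep : ∀ s u (hu : u ≠ 0), S s u hu = S s w hw := by
    intro s u hu
    by_contra hne
    have h := slotW_inf_ne_bot hne (hU0 s u hu) (hU0 s w hw)
    rw [← hSU s u hu, ← hSU s w hw, ← gim_inf] at h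
    have h' : slotW s u ⊓ slotW s w ≠ ⊥ := fun e => h (by rw [e]; exact Submodule.map_bot _)
    have he := congrArg (gim g) (slotW_eq_of_inf hu hw h')
    rw [hSU s u hu, hSU s w hw] at he
    exact hne (slot_eq_of_slotW_eq hk (hU0 s u hu) (hU0 s w hw) he)
  obtain ⟨π, hπ⟩ : ∃ π : Fin (T + 2) → Fin (T + 2), ∀ s u (hu : u ≠ 0), S s u hu = π s :=
    ⟨fun s => S s w hw, hindep⟩
  have hπinj : Function.Injective π := fun s r h => by
    by_contra hsr
    refine hsr (slot_eq_of_slotW_eq hk hw hw (hinj _ _ ?_))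
    rw [hSU s w hw, hSU r w hw, hπ, hπ, h]
    refine slotW_eq_of_inf (hU0 s w hw) (hU0 r w hw) fun hb => slotW_inf_ne_bot hsr hw hw ?_
    refine hinj _ _ ?_
    rw [gim_inf, hSU s w hw, hSU r w hw, hπ, hπ, h, hb]
    exact (Submodule.map_bot _).symm
  obtain ⟨P, hP⟩ : ∃ P : Equiv.Perm (Fin (T + 2)), ∀ s, P s = π s :=
    ⟨Equiv.ofBijective π (Finite.injective_iff_bijective.mp hπinj), fun s => rfl⟩
  obtain ⟨q, hqd⟩ : ∃ q : GL (Idx (T + 2) k) F, TWData q P fun _ => 1 :=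
    ⟨permGL P.symm, fun xs => by rw [permGL_apply]; simp⟩
  have hres : IsTW (q * g) := by
    refine isTW_of_pures hk (T + 1) _ fun s u hu => ⟨U s u hu, hU0 s u hu, ?_⟩
    rw [gim_mul, hSU s u hu, hπ, ← hP s]
    have := hqd.gim_slotW s (hU0 s u hu)
    rwa [Units.val_one, one_mulVec] at this
  have := tw_mul (tw_inv ⟨_, _, hqd⟩) hres
  rwa [inv_mul_cancel_left] at this

theorem PHyp.tw_of_map {g : GL (Idx (T + 2) k) F} (hg : g ∈ M) {i j : Fin (T + 2)} {u v : Fin k → F}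
    (hu : u ≠ 0) (hv : v ≠ 0) (h : gim g (slotW i u) = slotW j v) : IsTW g :=
  H.tw_of_pimg hg hu ⟨j, v, hv, h⟩

/-- A conjugate of a root forming a nilpotent pair with a root. -/
theorem PHyp.tw_of_nil {g : GL (Idx (T + 2) k) F} (hg : g ∈ M) {i r : Fin (T + 2)} {u w : Fin k → F}
    (hu : u ≠ 0) (hw : w ≠ 0) {N : ℕ}
    (hN : (((slotEl r (ptr f w 1)).val - 1) * ((g * slotEl i (ptr f u 1) * g⁻¹).val - 1)) ^ N = 0) :
    IsTW g := by
  classical
  obtain ⟨p, hp⟩ := CharP.exists F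
  haveI : NeZero p := ⟨CharP.char_ne_zero_of_finite F p⟩
  haveI : Fact p.Prime := ⟨CharP.char_is_prime F p⟩
  haveI : Nonempty (Idx (T + 2) k) := ⟨fun _ => ⟨0, by have := H.dim; omega⟩⟩
  haveI : Fintype F := Fintype.ofFinite F
  obtain ⟨D, hD⟩ : ∃ D : Subgroup (GL (Idx (T + 2) k) F),
      D = Subgroup.closure {slotEl r (ptr f w 1), g * slotEl i (ptr f u 1) * g⁻¹} := ⟨_, rfl⟩
  have hDM : D ≤ M := by
    rw [hD, Subgroup.closure_le]
    rintro _ (rfl | rfl)
    · exact H.ctx.root r w 1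
    · exact mul_mem (mul_mem hg (H.ctx.root i u 1)) (inv_mem hg)
  have hP : IsPGroup p D := hD ▸ CfsgLib.Classical22.TensorMax.UnitT.isPGroup_closure p (H.root_sq r w)
    (sq_conj g _ (H.root_sq i u)) hN
  haveI : Group.IsNilpotent D := hP.isNilpotent
  obtain ⟨W, hWdef⟩ : ∃ W : Subgroup D, ∀ x, x ∈ W ↔ IsTW x.1 :=
    ⟨(Cfsg.Geo.tensorWreathStandard k (T + 2) F).comap D.subtype, fun x => mem_standard_iff x.1⟩
  have hrW : IsTW (slotEl r (ptr f w 1)) := ⟨_, _, slotEl_data r _⟩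
  have htop : W = ⊤ := by
    by_contra hne
    have hlt := Group.normalizerCondition_of_isNilpotent W (lt_top_iff_ne_top.mpr hne)
    obtain ⟨x, hx, hxW⟩ := Set.exists_of_ssubset hlt
    have hrD : slotEl r (ptr f w 1) ∈ D := hD ▸ Subgroup.subset_closure (by simp)
    have h1 := (Subgroup.mem_normalizer_iff.mp hx ⟨_, hrD⟩).mp ((hWdef _).mpr hrW)
    exact hxW ((hWdef x).mpr (H.tw_of_pimg (hDM x.2) hw (H.pimg_of_conj r hw ((hWdef _).mp h1))))
  have hyD : g * slotEl i (ptr f u 1) * g⁻¹ ∈ D := hD ▸ Subgroup.subset_closure (by simp)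
  exact H.tw_of_pimg hg hu (H.pimg_of_conj i hu ((hWdef ⟨_, hyD⟩).mp (htop ▸ trivial)))

end CfsgLib.Classical22.TPow
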