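/-
A root and a conjugate of a root: the composed operator on the pure subspace and the involution it gives.
-/
import Cfsg.Agent.Lib.Classical22.TensorPower.Fix
import Cfsg.Agent.Lib.Classical22.UnitTensor.Inv

set_option autoImplicit false
set_option linter.unusedSectionVars false
set_option linter.unusedSimpArgs false

namespace CfsgLib.Classical22.TPow

open Matrix Kronecker CfsgLib.Transvec
open CfsgLib.Classical22.TWMax
open scoped MatrixGroups

variable {F : Type*} [Field F] {ι : Type} [Fintype ι] [DecidableEq ι]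

lemma moved_le_pair {W : Submodule F (ι → F)} {x z : GL ι F} (hx : ∀ v, x.val *ᵥ v - v ∈ W)
    (hz : ∀ v, z.val *ᵥ v - v ∈ W) {h : GL ι F} (hh : h ∈ Subgroup.closure ({x, z} : Set (GL ι F))) :
    ∀ v, h.val *ᵥ v - v ∈ W := by
  induction hh using Subgroup.closure_induction with
  | mem g hg =>
    rcases hg with rfl | rfl
    exacts [hx, hz]
  | one => intro v; rw [Units.val_one, one_mulVec, sub_self]; exact W.zero_mem
  | mul g g' _ _ h h' =>
    intro v
    rw [Transvec.mul_mulVec]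
    simpa using W.add_mem (h (g'.val *ᵥ v)) (h' v)
  | inv g _ h =>
    intro v
    have := W.neg_mem (h (g⁻¹.val *ᵥ v))
    rwa [Transvec.mulVec_inv_cancel, neg_sub] at this

lemma fixed_pair {x z : GL ι F} {v : ι → F} (hx : x.val *ᵥ v = v) (hz : z.val *ᵥ v = v) {h : GL ι F}
    (hh : h ∈ Subgroup.closure ({x, z} : Set (GL ι F))) : h.val *ᵥ v = v := by
  induction hh using Subgroup.closure_induction with
  | mem g hg =>
    rcases hg with rfl | rfl
    exacts [hx, hz]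
  | one => simp
  | mul g g' _ _ h h' => rw [Transvec.mul_mulVec, h', h]
  | inv g _ h => conv_lhs => rw [← h, Transvec.inv_mulVec_cancel]

lemma mem_mv_fix {g : GL ι F} (hsq : (g.val - 1) * (g.val - 1) = 0) {v : ι → F} (hv : v ∈ mv g) :
    g.val *ᵥ v = v := by
  obtain ⟨w, rfl⟩ := mem_mv.mp hv
  have := congrArg (· *ᵥ w) hsq
  simp only [← mulVec_mulVec, sub_mulVec, one_mulVec, zero_mulVec] at this
  exact sub_eq_zero.mp this

/-- Nilpotence of the product passes to matrices, or an involution appears. -/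
theorem nil_or_involution [Fintype F] (h2 : (2 : F) ≠ 0) {x z : GL ι F}
    (hx : (x.val - 1) * (x.val - 1) = 0) (hz : (z.val - 1) * (z.val - 1) = 0) :
    (∃ N, ((x.val - 1) * (z.val - 1)) ^ N = 0) ∨
      ∃ α : Module.End F (mv x), α * α = 1 ∧ α ≠ 1 ∧ ∃ h ∈ Subgroup.closure ({x, z} : Set (GL ι F)),
        ∀ p q : mv x, h.val *ᵥ ((z.val - 1) *ᵥ (p : ι → F) + (q : ι → F)) =
          (z.val - 1) *ᵥ ((α p : mv x) : ι → F) + ((α q : mv x) : ι → F) := by
  classical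
  obtain ⟨ZL, hZL⟩ : ∃ ZL : (ι → F) →ₗ[F] (ι → F), ∀ v, ZL v = (z.val - 1) *ᵥ v :=
    ⟨Matrix.mulVecLin (z.val - 1), fun v => rfl⟩
  have hmem : ∀ v, (x.val - 1) *ᵥ v ∈ mv x := fun v => mem_mv.mpr ⟨v, by rw [sub_mulVec, one_mulVec]⟩
  obtain ⟨T, hT⟩ : ∃ T : Module.End F (mv x),
      ∀ p : mv x, (T p : ι → F) = (x.val - 1) *ᵥ ((z.val - 1) *ᵥ (p : ι → F)) :=
    ⟨LinearMap.codRestrict _ (((Matrix.mulVecLin (x.val - 1)).comp ZL).comp (mv x).subtype) fun p => hmem _,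
      fun p => congrArg ((x.val - 1) *ᵥ ·) (hZL _)⟩
  have hpow : ∀ n (p : mv x), ((T ^ n) p : ι → F) = ((x.val - 1) * (z.val - 1)) ^ n *ᵥ (p : ι → F) := fun n => by
    induction n with
    | zero => intro p; simp
    | succ n ih => intro p; rw [pow_succ, Module.End.mul_apply, ih, pow_succ, hT, mulVec_mulVec, mulVec_mulVec, mul_assoc]
  by_cases hnil : IsNilpotent T
  · obtain ⟨N, hN⟩ := hnil
    refine Or.inl ⟨N + 1, Matrix.ext_iff_mulVec.2 fun v => ?_⟩
    rw [pow_succ, ← mulVec_mulVec, ← mulVec_mulVec v, ← hpow N ⟨_, hmem _⟩, hN, zero_mulVec]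
    rfl
  right
  have hxW : ∀ p : mv x, x.val *ᵥ (p : ι → F) = p := fun p => mem_mv_fix hx p.2
  have hzz : ∀ v, z.val *ᵥ ((z.val - 1) *ᵥ v) = (z.val - 1) *ᵥ v := fun v =>
    mem_mv_fix hz (mem_mv.mpr ⟨v, by rw [sub_mulVec, one_mulVec]⟩)
  obtain ⟨θ, hθ⟩ : ∃ θ : (mv x × mv x) →ₗ[F] (ι → F),
      ∀ p q : mv x, θ (p, q) = (z.val - 1) *ᵥ (p : ι → F) + (q : ι → F) :=
    ⟨(ZL.comp (mv x).subtype).comp (LinearMap.fst F _ _) + (mv x).subtype.comp (LinearMap.snd F _ _),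
      fun p q => by simp [hZL]⟩
  obtain ⟨Rep, hRep⟩ : ∃ Rep : Module.End F (mv x × mv x) → Prop, ∀ m, Rep m ↔
      ∃ h ∈ Subgroup.closure ({x, z} : Set (GL ι F)), ∀ w, h.val *ᵥ θ w = θ (m w) := ⟨_, fun m => Iff.rfl⟩
  obtain ⟨α, hα2, hα1, m, hm, hmact⟩ :=
    CfsgLib.Classical22.TensorMax.UnitT.exists_scalar_involution_of_not_nilpotent h2 T hnil (Rep := Rep)
    ((hRep 1).mpr ⟨1, one_mem _, fun w => by rw [Units.val_one, one_mulVec]; rfl⟩)
    (fun m m' h h' => by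
      obtain ⟨g₁, hg₁, e1⟩ := (hRep m).mp h
      obtain ⟨g₂, hg₂, e2⟩ := (hRep m').mp h'
      exact (hRep _).mpr ⟨g₁ * g₂, mul_mem hg₁ hg₂, fun w => by rw [Transvec.mul_mulVec, e2, e1]; rfl⟩)
    (fun m m' hmm _ h => by
      obtain ⟨g₁, hg₁, e1⟩ := (hRep m).mp h
      refine (hRep m').mpr ⟨g₁⁻¹, inv_mem hg₁, fun w => mulVec_injective g₁ ?_⟩
      simp only
      rw [Transvec.mulVec_inv_cancel, e1, ← Module.End.mul_apply, hmm]
      rfl)
    (fun m hm => (hRep m).mpr ⟨z, Subgroup.subset_closure (by simp), fun w => by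
      obtain ⟨p, q⟩ := w
      rw [hm, hθ, hθ, mulVec_add, hzz, Submodule.coe_add, mulVec_add, sub_mulVec z.val 1 (q : ι → F), one_mulVec]
      abel⟩)
    (fun m hm => (hRep m).mpr ⟨x, Subgroup.subset_closure (by simp), fun w => by
      obtain ⟨p, q⟩ := w
      rw [hm, hθ, hθ, mulVec_add, hxW, Submodule.coe_add, hT, sub_mulVec x.val 1, one_mulVec]
      abel⟩)
  obtain ⟨h, hh, hhθ⟩ := (hRep m).mp hm
  refine ⟨α, hα2, hα1, h, hh, fun p q => ?_⟩
  have := hhθ (p, q)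
  rwa [hmact, hθ, hθ] at this

end CfsgLib.Classical22.TPow
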