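/-
Four or more dimensions in each slot: no non-scalar shear puts the group inside the tensor wreath group.
-/
import Cfsg.Agent.Lib.Classical22.TensorPower.Pair

set_option autoImplicit false
set_option linter.unusedSectionVars false
set_option linter.unusedSimpArgs false

namespace CfsgLib.Classical22.TPow

open Matrix Kronecker CfsgLib.Transvec CfsgLib.Classical22.TensorMax CfsgLib.Classical22.TensorMax.SympO
open CfsgLib.Classical22.TensorMax.SpO (kr kr_apply isKron_kr)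
open CfsgLib.Classical22.TWMax
open scoped MatrixGroups

variable {F : Type*} [Field F] [Fintype F] {T k : ℕ} {f : (Fin k → F) → (Fin k → F) → F}
  {M : Subgroup (GL (Idx (T + 2) k) F)}

/-- Every element lies in the tensor wreath group. -/
theorem PHyp.tw_four (H : PHyp f M) (hk4 : 4 ≤ k) {g : GL (Idx (T + 2) k) F} (hg : g ∈ M) : IsTW g := by
  classical
  obtain ⟨D, hD⟩ : ∃ D, D = pDuo H.symp (T + 1) := ⟨_, rfl⟩
  obtain ⟨u, hu⟩ : ∃ u : Fin k → F, u ≠ 0 := ⟨Pi.single ⟨0, by omega⟩ 1, by simp⟩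
  obtain ⟨X, hX⟩ : ∃ X, X = slotEl (0 : Fin (T + 2)) (ptr f u 1) := ⟨_, rfl⟩
  obtain ⟨Y, hY⟩ : ∃ Y, Y = g * X * g⁻¹ := ⟨_, rfl⟩
  have hXsq : (X.val - 1) * (X.val - 1) = 0 := hX ▸ H.root_sq 0 u
  have hYsq : (Y.val - 1) * (Y.val - 1) = 0 := hY ▸ sq_conj g _ hXsq
  have hXM : X ∈ M := hX ▸ H.ctx.root 0 u 1
  have hYM : Y ∈ M := hY ▸ mul_mem (mul_mem hg hXM) (inv_mem hg)
  have hW : mv X = slotW 0 u := hX ▸ H.root_mv 0 hu
  rcases nil_or_involution H.two hXsq hYsq with ⟨N, hN⟩ | ⟨α, hα2, hα1, h, hh, hhθ⟩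
  · exact H.tw_of_nil hg hu hu (hX ▸ hY ▸ hN)
  have hhM : h ∈ M := (Subgroup.closure_le M).mpr (by rintro _ (rfl | rfl); exacts [hXM, hYM]) hh
  -- `h` on the pure subspace
  have hhW : ∀ q : mv X, h.val *ᵥ (q : Idx (T + 2) k → F) = (α q : mv X) := fun q => by
    simpa using hhθ 0 q
  have hgimW : gim h (slotW 0 u) = slotW 0 u := by
    rw [← hW]
    refine Submodule.eq_of_le_of_finrank_eq ?_ (finrank_gim _ _)
    intro v hv
    obtain ⟨q, hq, rfl⟩ := mem_gim.mp hv
    rw [hhW ⟨q, hq⟩]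
    exact (α ⟨q, hq⟩).2
  obtain ⟨σ, gs, hgs⟩ := H.tw_of_map hhM hu hu hgimW
  have hs0 : σ 0 = 0 := by
    obtain ⟨i, hi⟩ := σ.surjective 0
    have e := hgs.gim_slotW i hu
    rw [hi, hgimW] at e
    have := slot_eq_of_slotW_eq H.dim hu (mulVec_ne_zero _ hu) e
    rw [← this] at hi
    exact hi
  obtain ⟨A, π, -, -, hkr⟩ := hgs.slot hs0
  obtain ⟨A', hA'⟩ : ∃ A', A' = flatG (T + 1) k A := ⟨_, rfl⟩
  rw [← hA'] at hkr
  have hiso : D.Iso (slotG 0 h) := hD ▸ (iso_slotG H.symp).mpr (H.ctx.iso h hhM)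
  have hsub : ∀ w, (X.val - 1) *ᵥ w = pt (D.ct u (w ∘ (slotE 0).symm)) u ∘ slotE 0 := fun w => by
    refine (slotE (0 : Fin (T + 2))).symm.surjective.injective_comp_right ?_
    simp only
    rw [sub_mulVec, one_mulVec, Pi.sub_comp, hX, show slotEl (0 : Fin (T + 2)) (ptr f u 1) = rs 0 u ((1 : F) • (gram f *ᵥ u)) from rfl,
      rs_mulVec (H.ptr_dot u), add_sub_cancel_left, Function.comp_assoc, Equiv.self_comp_symm, Function.comp_id,
      one_smul, hD]
    rfl
  obtain ⟨Q, hQ⟩ : ∃ Q : Submodule F (Idx (T + 2) k → F), Q = mv X ⊔ mv Y := ⟨_, rfl⟩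
  have hQX : ∀ v, X.val *ᵥ v - v ∈ Q := fun v => hQ ▸ Submodule.mem_sup_left (sub_mem_mv _ _)
  have hQY : ∀ v, Y.val *ᵥ v - v ∈ Q := fun v => hQ ▸ Submodule.mem_sup_right (sub_mem_mv _ _)
  have hK : ∀ z ∈ mv Y, (X.val - 1) *ᵥ z = 0 → h.val *ᵥ z = z := fun z hz hz0 =>
    fixed_pair (by rwa [sub_mulVec, one_mulVec, sub_eq_zero] at hz0) (mem_mv_fix hYsq hz) hh
  -- the pth power is trivial on the middle
  obtain ⟨p, hp⟩ := CharP.exists F
  haveI : Fact p.Prime := ⟨CharP.char_is_prime F p⟩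
  have hp2 : p ≠ 2 := by
    rintro rfl
    exact H.two (by simpa using CharP.cast_eq_zero F 2)
  have hαp : α ^ p = α := by
    obtain ⟨j, hj⟩ := (Fact.out : p.Prime).odd_of_ne_two hp2
    rw [hj, pow_succ, pow_mul, pow_two, hα2, one_pow, one_mul]
  have hpowW : ∀ (n : ℕ) (q : mv X), (h ^ n).val *ᵥ (q : Idx (T + 2) k → F) = ((α ^ n) q : mv X) := fun n => by
    induction n with
    | zero => intro q; simp
    | succ n ih => intro q; rw [pow_succ, Transvec.mul_mulVec, hhW, ih, pow_succ]; rfl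
  obtain ⟨u', hu'⟩ := D.exists_dual hu
  obtain ⟨y₀, y₁, hy⟩ : ∃ y₀ y₁ : Fin (k ^ (T + 1)) → F, y₀ ⬝ᵥ (D.GR *ᵥ y₁) ≠ 0 := by
    by_contra hall
    push Not at hall
    have hn : 0 < k ^ (T + 1) := Nat.pow_pos (by omega)
    have := D.eq_of_dot (p := Pi.single ⟨0, hn⟩ 1) (q := 0) fun y => by rw [hall, zero_dotProduct]
    simpa using congrFun this ⟨0, hn⟩
  have hmid : ∀ y m, D.f m u = 0 → (h ^ p).val *ᵥ (pt y m ∘ slotE 0) - pt y m ∘ slotE 0 ∈ mv X := by
    intro y m hm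
    obtain ⟨x, hx⟩ : ∃ x : Idx (T + 2) k → F, x = pt y m ∘ slotE 0 := ⟨_, rfl⟩
    rw [← hx]
    have hxk : (X.val - 1) *ᵥ x = 0 := by
      rw [hsub, hx, Function.comp_assoc, Equiv.self_comp_symm, Function.comp_id, D.ct_pt, hm, zero_smul,
        pt_zero_left]
      rfl
    have hhx : (X.val - 1) *ᵥ (h.val *ᵥ x) = 0 := by
      have hu0 : (gs 0).val *ᵥ u ∈ Submodule.span F ({u} : Set (Fin k → F)) := by
        have e := hgs.gim_slotW 0 hu
        rw [hs0, hgimW] at e
        by_contra hnot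
        obtain ⟨φ, hφ, hφu⟩ := exists_functional hnot
        have hmem := pv_mem_slotW (0 : Fin (T + 2)) (fun _ => (gs 0).val *ᵥ u)
        rw [← e, mem_slotW, slot_vec] at hmem
        obtain ⟨z, hz⟩ := hmem
        have := congrArg (sl φ) hz
        rw [ptL_apply, sl_pt, sl_pt, hφ u (Submodule.mem_span_singleton_self u), hφu, zero_smul, one_smul] at this
        refine pv_ne_zero (fun _ => mulVec_ne_zero (gs 0) hu) ((flatE (T + 1) k).symm.surjective.injective_comp_right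
          (a₂ := 0) ?_)
        exact this.symm
      obtain ⟨b, hb⟩ := Submodule.mem_span_singleton.mp hu0
      have hb0 : b ≠ 0 := fun h0 => mulVec_ne_zero (gs 0) hu (by rw [← hb, h0, zero_smul])
      have hBu : D.f ((gs 0).val *ᵥ m) u = 0 := by
        have e := Duo.Iso.BV_eq D hiso (pt y₀ m) (pt y₁ u)
        have e' := Duo.Iso.BV_eq D hiso (pt y₀ u') (pt y₁ u)
        rw [hkr, kr_apply, kr_apply, D.BV_pt, D.BV_pt, ← hb, D.f_smul', hm, mul_zero] at e
        rw [hkr, kr_apply, kr_apply, D.BV_pt, D.BV_pt, D.symp.skew u' u, hu'] at e'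
        rcases mul_eq_zero.mp e with h0 | h0
        · rw [h0, zero_mul, eq_comm, mul_eq_zero] at e'
          exact absurd e' (by simp [hy])
        · exact (mul_eq_zero.mp h0).resolve_left hb0
      rw [hsub, ← glReindex_mulVec, ← slotG, hkr, hx, Function.comp_assoc, Equiv.self_comp_symm, Function.comp_id,
        kr_apply, D.ct_pt, hBu, zero_smul, pt_zero_left]
      rfl
    obtain ⟨w, hw, z, hz, hwz⟩ := Submodule.mem_sup.mp (hQ ▸ moved_le_pair hQX hQY hh x)
    have hzk : (X.val - 1) *ᵥ z = 0 := by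
      have e : (X.val - 1) *ᵥ (w + z) = (X.val - 1) *ᵥ (h.val *ᵥ x - x) := by rw [hwz]
      rw [mulVec_add, mulVec_sub, hxk, hhx, sub_zero, sub_mulVec _ _ w, one_mulVec, mem_mv_fix hXsq hw, sub_self,
        zero_add] at e
      exact e
    have hzf := hK z hz hzk
    have hiter : ∀ n : ℕ, (h ^ n).val *ᵥ x - x - (n : F) • z ∈ mv X := fun n => by
      induction n with
      | zero => simp
      | succ n ih =>
        have h1 : h.val *ᵥ ((h ^ n).val *ᵥ x - x - (n : F) • z) ∈ mv X := by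
          rw [hhW ⟨_, ih⟩]; exact (α _).2
        have h2 : h.val *ᵥ x - x - z ∈ mv X := by
          rw [← hwz, add_sub_cancel_right]; exact hw
        have := add_mem h1 h2
        rw [mulVec_sub, mulVec_sub, mulVec_smul, hzf, ← Transvec.mul_mulVec, ← pow_succ'] at this
        convert this using 1
        push_cast
        rw [add_smul, one_smul]
        abel
    simpa [CharP.cast_eq_zero] using hiter p
  -- the pth power is a slot element
  obtain ⟨h', hh'⟩ : ∃ h', h' = h ^ p := ⟨_, rfl⟩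
  have hh'M : h' ∈ M := hh' ▸ pow_mem hhM p
  obtain ⟨A₂, B₂, hk2⟩ : ∃ A₂ B₂, slotG (0 : Fin (T + 2)) h' = kr A₂ B₂ :=
    ⟨A' ^ p, gs 0 ^ p, by
      rw [hh', map_pow, hkr]
      have hmul : ∀ n : ℕ, kr A' (gs 0) ^ n = kr (A' ^ n) (gs 0 ^ n) := fun n => by
        induction n with
        | zero => exact Units.ext (by simp [kr])
        | succ n ih =>
          rw [pow_succ (kr A' (gs 0)) n, ih]
          exact Units.ext (by simp [kr, pow_succ, ← mul_kronecker_mul])
      exact hmul p⟩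
  have hvec : ∀ y b, h'.val *ᵥ (pt y b ∘ slotE 0) = pt (A₂.val *ᵥ y) (B₂.val *ᵥ b) ∘ slotE 0 := fun y b => by
    refine (slotE (0 : Fin (T + 2))).symm.surjective.injective_comp_right ?_
    simp only
    rw [← glReindex_mulVec, ← slotG, hk2, Function.comp_assoc, Function.comp_assoc, Equiv.self_comp_symm,
      Function.comp_id, Function.comp_id, kr_apply]
  have hmemW : ∀ w, w ∈ mv X ↔ w ∘ (slotE 0).symm ∈ pureW (k ^ (T + 1)) u := fun w => by rw [hW, mem_slotW]
  obtain ⟨m, hmu, hmW⟩ : ∃ m, D.f m u = 0 ∧ m ∉ Submodule.span F ({u} : Set (Fin k → F)) := by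
    have hf5 : ∀ w, ∃ m, D.f m w = 0 ∧ m ∉ Submodule.span F ({w} : Set (Fin k → F)) := fun w => by
      by_contra hall
      push Not at hall
      obtain ⟨Φ, hΦ⟩ : ∃ Φ : (Fin k → F) →ₗ[F] F, ∀ x, Φ x = D.f x w :=
        ⟨{ toFun := fun x => D.f x w, map_add' := fun x y => D.f_add x y w,
           map_smul' := fun c x => D.f_smul c x w }, fun x => rfl⟩
      have e1 := LinearMap.finrank_range_add_finrank_ker Φ
      have e2 := Submodule.finrank_le (LinearMap.range Φ)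
      rw [Module.finrank_self] at e2
      rw [Module.finrank_fin_fun] at e1
      have e3 := (Submodule.finrank_mono (fun x hx => hall x (hΦ x ▸ LinearMap.mem_ker.mp hx) :
        LinearMap.ker Φ ≤ _)).trans ((finrank_span_le_card ({w} : Set (Fin k → F))).trans (le_of_eq (by simp : _ = 1)))
      omega
    exact hf5 u
  obtain ⟨φ, hφ, hφm⟩ := exists_functional hmW
  have hφu : φ ⬝ᵥ u = 0 := hφ u (Submodule.mem_span_singleton_self u)
  have hA1 : ∀ y, (φ ⬝ᵥ (B₂.val *ᵥ m)) • (A₂.val *ᵥ y) = y := fun y => by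
    have := hmid y m hmu
    rw [← hh', hvec, hmemW, Pi.sub_comp, Function.comp_assoc, Function.comp_assoc, Equiv.self_comp_symm,
      Function.comp_id, Function.comp_id] at this
    obtain ⟨z, hz⟩ := this
    have e := congrArg (sl φ) hz
    rw [ptL_apply, map_sub, sl_pt, sl_pt, sl_pt, hφu, hφm, zero_smul, one_smul] at e
    exact sub_eq_zero.mp e.symm
  obtain ⟨c, hc⟩ : ∃ c, c = φ ⬝ᵥ (B₂.val *ᵥ m) := ⟨_, rfl⟩
  simp only [← hc] at hA1
  have hn : 0 < k ^ (T + 1) := Nat.pow_pos (by omega)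
  have hc0 : c ≠ 0 := fun h0 => by
    have := hA1 (Pi.single ⟨0, hn⟩ 1)
    rw [h0, zero_smul] at this
    simpa using congrFun this ⟨0, hn⟩
  obtain ⟨B, hB⟩ : ∃ B : Matrix (Fin k) (Fin k) F, B = c⁻¹ • B₂.val := ⟨_, rfl⟩
  have hvec' : ∀ y b, h'.val *ᵥ (pt y b ∘ slotE 0) = pt y (B *ᵥ b) ∘ slotE 0 := fun y b => by
    rw [hvec]
    congr 1
    rw [hB, smul_mulVec, pt_smul_right, ← pt_smul_left]
    conv_rhs => arg 1; rw [← hA1 y, smul_smul, inv_mul_cancel₀ hc0, one_smul]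
  have hhWp : ∀ q : mv X, h'.val *ᵥ (q : Idx (T + 2) k → F) = (α q : mv X) := fun q => by
    rw [hh', hpowW, hαp]
  obtain ⟨b0, hb0⟩ : ∃ b0 : F, B *ᵥ u = b0 • u := by
    obtain ⟨q, hq⟩ : ∃ q : mv X, (q : Idx (T + 2) k → F) = pt (Pi.single ⟨0, hn⟩ 1) u ∘ slotE 0 :=
      ⟨⟨pt (Pi.single ⟨0, hn⟩ 1) u ∘ slotE 0, (hmemW _).mpr (by
        rw [Function.comp_assoc, Equiv.self_comp_symm, Function.comp_id]; exact pt_mem_pureW _ _)⟩, rfl⟩
    have e := (α q).2
    rw [← hhWp, hq, hvec', hmemW, Function.comp_assoc, Equiv.self_comp_symm, Function.comp_id] at e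
    obtain ⟨z, hz⟩ := e
    refine ⟨z ⟨0, hn⟩, funext fun j => ?_⟩
    have := congrFun hz (⟨0, hn⟩, j)
    simpa [ptL_apply, pt] using this.symm
  have hαsc : ∀ q : mv X, α q = b0 • q := fun q => by
    obtain ⟨z, hz⟩ := (hmemW _).mp q.2
    have hq : (q : Idx (T + 2) k → F) = pt z u ∘ slotE 0 := by
      rw [← ptL_apply, hz, Function.comp_assoc, Equiv.symm_comp_self, Function.comp_id]
    refine Subtype.ext ?_
    rw [← hhWp, Submodule.coe_smul, hq, hvec', hb0, pt_smul_right]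
    rfl
  have hb : b0 = -1 := by
    obtain ⟨q, hq⟩ : ∃ q : mv X, α q ≠ q := by
      by_contra hall
      push Not at hall
      exact hα1 (LinearMap.ext hall)
    have hq0 : q ≠ 0 := fun h0 => hq (by rw [h0, map_zero])
    have e : α (α q) = q := by rw [← Module.End.mul_apply, hα2]; rfl
    rw [hαsc q, map_smul, hαsc q, smul_smul] at e
    have hsq : (b0 * b0 - 1) • q = 0 :=
      (sub_smul (b0 * b0) (1 : F) q).trans (by rw [one_smul, e, sub_self])
    rcases mul_self_eq_one_iff.mp (sub_eq_zero.mp ((smul_eq_zero.mp hsq).resolve_right hq0)) with h1 | h1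
    · exact absurd (by rw [hαsc, h1, one_smul]) hq
    · exact h1
  -- the conjugate root moves into a pure plane
  have hneg : ∀ q : mv X, h'.val *ᵥ ((Y.val - 1) *ᵥ (q : Idx (T + 2) k → F)) = -((Y.val - 1) *ᵥ (q : Idx (T + 2) k → F)) := by
    intro q
    have e1 : ∀ n : ℕ, ∀ q : mv X, (h ^ n).val *ᵥ ((Y.val - 1) *ᵥ (q : Idx (T + 2) k → F)) =
        (Y.val - 1) *ᵥ (((α ^ n) q : mv X) : Idx (T + 2) k → F) := fun n => by
      induction n with
      | zero => intro q; simp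
      | succ n ih =>
        intro q
        have := hhθ q 0
        simp only [ZeroMemClass.coe_zero, add_zero, map_zero] at this
        rw [pow_succ, Transvec.mul_mulVec, this, ih, pow_succ]
        rfl
    rw [hh', e1, hαp, hαsc, hb, Submodule.coe_smul, neg_one_smul, mulVec_neg]
  have hinjY : ∀ q : mv X, (Y.val - 1) *ᵥ (q : Idx (T + 2) k → F) = 0 → q = 0 := fun q hq0 => by
    have hf : h'.val *ᵥ (q : Idx (T + 2) k → F) = q := hh' ▸ fixed_pair (mem_mv_fix hXsq q.2)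
      (by rwa [sub_mulVec, one_mulVec, sub_eq_zero] at hq0) (pow_mem hh p)
    rw [hhWp, hαsc, hb, Submodule.coe_smul, neg_one_smul] at hf
    refine Subtype.ext ?_
    have : (2 : F) • (q : Idx (T + 2) k → F) = 0 := by
      rw [two_smul]; nth_rewrite 1 [← hf]; exact neg_add_cancel _
    exact (smul_eq_zero.mp this).resolve_left H.two
  have hYW : ∀ z ∈ mv Y, h'.val *ᵥ z = -z := by
    obtain ⟨L, hL⟩ : ∃ L : mv X →ₗ[F] mv Y, ∀ q : mv X, (L q : Idx (T + 2) k → F) = (Y.val - 1) *ᵥ (q : Idx (T + 2) k → F) :=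
      ⟨LinearMap.codRestrict _ ((Matrix.mulVecLin (Y.val - 1)).comp (mv X).subtype) fun q =>
        mem_mv.mpr ⟨q, by simp [sub_mulVec]⟩, fun q => rfl⟩
    have hL1 : Function.Injective L := (injective_iff_map_eq_zero L).mpr fun q hq => hinjY q (by
      rw [← hL, hq]; rfl)
    have hdim : Module.finrank F (mv X) = Module.finrank F (mv Y) := by
      rw [hY, mv_conj, finrank_gim]
    have hL2 : Function.Surjective L :=
      (LinearMap.injective_iff_surjective_of_finrank_eq_finrank hdim).mp hL1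
    intro z hz
    obtain ⟨q, hq⟩ := hL2 ⟨z, hz⟩
    have := congrArg Subtype.val hq
    rw [hL] at this
    rw [← (show (Y.val - 1) *ᵥ (q : Idx (T + 2) k → F) = z from this), hneg]
  obtain ⟨d, hd⟩ : ∃ d, d = (B - 1) *ᵥ u' := ⟨_, rfl⟩
  have himg : ∀ x, (B - 1) *ᵥ x ∈ Submodule.span F ({u, d} : Set (Fin k → F)) := by
    intro x
    obtain ⟨x₁, hx₁⟩ : ∃ x₁, x₁ = x - (-D.f x u) • u' := ⟨_, rfl⟩
    have hx₁u : D.f x₁ u = 0 := by rw [hx₁, D.f_sub, D.f_smul, D.symp.skew u' u, hu']; ring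
    have hmid' : (B - 1) *ᵥ x₁ ∈ Submodule.span F ({u} : Set (Fin k → F)) := by
      have := hmid (Pi.single ⟨0, hn⟩ 1) x₁ hx₁u
      rw [← hh', hvec', hmemW, Pi.sub_comp, Function.comp_assoc, Function.comp_assoc, Equiv.self_comp_symm,
        Function.comp_id, Function.comp_id, ← pt_sub_right] at this
      obtain ⟨z, hz⟩ := this
      refine Submodule.mem_span_singleton.mpr ⟨z ⟨0, hn⟩, funext fun j => ?_⟩
      have e := congrFun hz (⟨0, hn⟩, j)
      simpa [ptL_apply, pt, sub_mulVec] using e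
    rw [show x = x₁ + (-D.f x u) • u' by rw [hx₁, sub_add_cancel], mulVec_add, mulVec_smul, ← hd]
    exact Submodule.add_mem _ (Submodule.span_mono (by simp) hmid')
      (Submodule.smul_mem _ _ (Submodule.subset_span (by simp)))
  obtain ⟨v, hvu, hvd, hv0⟩ : ∃ v, D.f u v = 0 ∧ D.f d v = 0 ∧ v ≠ 0 := by
    obtain ⟨Φ, hΦ⟩ : ∃ Φ : (Fin k → F) →ₗ[F] F × F, ∀ x, Φ x = (D.f u x, D.f d x) :=
      ⟨{ toFun := fun x => (D.f u x, D.f d x)
         map_add' := fun x y => Prod.ext (D.f_add' u x y) (D.f_add' d x y)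
         map_smul' := fun c x => Prod.ext (D.f_smul' c u x) (D.f_smul' c d x) }, fun x => rfl⟩
    have e1 := LinearMap.finrank_range_add_finrank_ker Φ
    have e2 := Submodule.finrank_le (LinearMap.range Φ)
    rw [Module.finrank_prod, Module.finrank_self] at e2
    rw [Module.finrank_fin_fun] at e1
    obtain ⟨v, hv, hv0⟩ := Submodule.exists_mem_ne_zero_of_ne_bot (p := LinearMap.ker Φ) fun h => by
      rw [h, finrank_bot] at e1; omega
    rw [LinearMap.mem_ker, hΦ, Prod.mk_eq_zero] at hv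
    exact ⟨v, hv.1, hv.2, hv0⟩
  have hperp : ∀ x, D.f ((B - 1) *ᵥ x) v = 0 := fun x => by
    obtain ⟨a, b, hab⟩ := Submodule.mem_span_pair.mp (himg x)
    rw [← hab, D.f_add, D.f_smul, D.f_smul, hvu, hvd]; ring
  have hzero : ∀ z ∈ mv Y, ((slotEl (0 : Fin (T + 2)) (ptr f v 1)).val - 1) *ᵥ z = 0 := by
    intro z hz
    have hct : D.ct v (z ∘ (slotE 0).symm) = 0 := by
      obtain ⟨w, hw⟩ : ∃ w, w = z ∘ (slotE (0 : Fin (T + 2))).symm := ⟨_, rfl⟩
      have e : (h'.val *ᵥ z) ∘ (slotE 0).symm - w =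
          ((1 : Matrix (Fin (k ^ (T + 1))) (Fin (k ^ (T + 1))) F) ⊗ₖ (B - 1)) *ᵥ w := by
        have hz' : z = w ∘ slotE 0 := by rw [hw, Function.comp_assoc, Equiv.symm_comp_self, Function.comp_id]
        have hlin : ∀ v, (h'.val *ᵥ v) ∘ (slotE 0).symm = (slotG 0 h').val *ᵥ (v ∘ (slotE 0).symm) := fun v =>
          (glReindex_mulVec _ _ _).symm
        rw [hlin, ← hw]
        conv_lhs => rw [eq_sum_pt w, mulVec_sum, ← Finset.sum_sub_distrib]
        conv_rhs => rw [eq_sum_pt w, mulVec_sum]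
        refine Finset.sum_congr rfl fun j _ => ?_
        have := hlin (pt (fun i => w (i, j)) (Pi.single j 1) ∘ slotE 0)
        rw [hvec', Function.comp_assoc, Function.comp_assoc, Equiv.self_comp_symm, Function.comp_id,
          Function.comp_id] at this
        rw [← this, kron_pt, one_mulVec, sub_mulVec, one_mulVec, pt_sub_right]
      rw [hYW z hz, show (-z) ∘ (slotE (0 : Fin (T + 2))).symm = -w by rw [hw]; rfl] at e
      rw [← hw]
      have e2 := congrArg (D.ct v) e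
      rw [D.ct_kron (a' := 0) (fun x => by rw [hperp, D.f_right_zero]), one_mulVec,
        show D.ct (0 : Fin k → F) w = 0 by rw [← zero_smul F u, D.ct_smul, zero_smul],
        map_sub, map_neg, ← neg_add', neg_eq_zero, ← two_smul F, smul_eq_zero] at e2
      exact e2.resolve_left H.two
    refine (slotE (0 : Fin (T + 2))).symm.surjective.injective_comp_right ?_
    simp only
    rw [sub_mulVec, one_mulVec, Pi.sub_comp,
      show slotEl (0 : Fin (T + 2)) (ptr f v 1) = rs 0 v ((1 : F) • (gram f *ᵥ v)) from rfl,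
      rs_mulVec (H.ptr_dot v), add_sub_cancel_left, one_smul]
    rw [hD] at hct
    change pt ((pDuo H.symp (T + 1)).ct v (z ∘ (slotE 0).symm)) v = _
    rw [hct, pt_zero_left]
    rfl
  refine H.tw_of_nil hg hu hv0 (r := 0) (i := 0) (N := 1) ?_
  rw [pow_one, ← hX, ← hY]
  refine Matrix.ext_iff_mulVec.2 fun w => ?_
  rw [← mulVec_mulVec, zero_mulVec, hzero _ (mem_mv.mpr ⟨w, by rw [sub_mulVec, one_mulVec]⟩)]

end CfsgLib.Classical22.TPow
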