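/-
A pattern factor and a conjugate of it by a root: the products needed for commutators.
-/
import Cfsg.Agent.Lib.Classical22.TensorPower.Ctx

set_option autoImplicit false
set_option linter.unusedSectionVars false
set_option linter.unusedSimpArgs false

namespace CfsgLib.Classical22.TPow

open Matrix Kronecker CfsgLib.Transvec CfsgLib.Classical22.TensorMax CfsgLib.Classical22.TensorMax.SympO
open CfsgLib.Classical22.TWMax (Idx pv tmat tmat_mulVec tmat_mul tmat_one mat_ext_pv)
open scoped MatrixGroups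

variable {F : Type*} [Field F] {k : ℕ} {f : (Fin k → F) → (Fin k → F) → F}
  (hf : Cfsg.Geo.IsSymplecticForm f)
include hf

lemma ptr_mulVec (z x : Fin k → F) (c : F) : (ptr f z c).val *ᵥ x = x + (c * f x z) • z := by
  rw [ptr_val hf, add_mulVec, one_mulVec, smul_mulVec, outer_mulVec hf, smul_smul]

lemma ptr_form (z x y : Fin k → F) (c : F) : f ((ptr f z c).val *ᵥ x) ((ptr f z c).val *ᵥ y) = f x y := by
  rw [ptr_mulVec hf, ptr_mulVec hf]
  simp only [hf.bilinear.add_left, hf.bilinear.add_right, hf.bilinear.smul_left, hf.bilinear.smul_right,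
    hf.alternating, hf.skew z y]
  ring

lemma conj_outer_gen {τ : GL (Fin k) F} (hτ : ∀ x y, f (τ.val *ᵥ x) (τ.val *ᵥ y) = f x y) (a b : Fin k → F) :
    τ.val * outer f a b * τ⁻¹.val = outer f (τ.val *ᵥ a) (τ.val *ᵥ b) :=
  Matrix.ext_iff_mulVec.2 fun x => by
    rw [← mulVec_mulVec, ← mulVec_mulVec, outer_mulVec hf, mulVec_smul, outer_mulVec hf]
    congr 1
    conv_rhs => rw [← Transvec.mulVec_inv_cancel τ x, hτ]

lemma not_one_of_isN {G : Matrix (Fin k) (Fin k) F} (h : IsN f G) : G ≠ 1 := fun e => by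
  obtain ⟨u, hu, rfl⟩ := h
  have := congrArg (· *ᵥ u) e
  simp only [outer_mulVec hf, hf.alternating, zero_smul, one_mulVec] at this
  exact hu this.symm

lemma not_one_of_isP {G : Matrix (Fin k) (Fin k) F} (h : IsP f G) : G ≠ 1 := fun e => by
  obtain ⟨a, b, hab, hli, rfl⟩ := h
  have := congrArg (· *ᵥ a) e
  simp only [sub_mulVec, outer_mulVec hf, hf.alternating, hab, zero_smul, sub_self, one_mulVec] at this
  exact hli.ne_zero 0 this.symm

/-- Twins: a conjugate with non-vanishing product. -/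
theorem exists_twin {G : Matrix (Fin k) (Fin k) F} (h : IsN f G ∨ IsP f G) :
    ∃ z G', G' = (ptr f z 1).val * G * (ptr f z 1)⁻¹.val ∧
      (∃ x, f ((G * G') *ᵥ x) x ≠ 0 ∧ f ((G' * G) *ᵥ x) x = -f ((G * G') *ᵥ x) x) ∧
      (IsP f G → G * G' * G = 0 ∧ G' * G * G' = 0 ∧
        ∃ v, v ≠ 0 ∧ G * G' = outer f v v ∧ G' * G = (-1 : F) • outer f v v) := by
  rcases h with ⟨u, hu, rfl⟩ | ⟨a, b, hab, hli, rfl⟩
  · obtain ⟨z₀, hz₀⟩ := (hf.nondegenerate u hu).2
    obtain ⟨z, hz⟩ : ∃ z, f u z = 1 :=
      ⟨(f u z₀)⁻¹ • z₀, by rw [hf.bilinear.smul_right, inv_mul_cancel₀ hz₀]⟩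
    refine ⟨z, _, rfl, ⟨z, ?_, ?_⟩, fun hP => ?_⟩
    · rw [conj_outer_gen hf (fun x y => ptr_form hf z x y 1), ptr_mulVec hf, hz, one_mul, one_smul,
        ← mulVec_mulVec, outer_mulVec hf, outer_mulVec hf]
      simp [hf.bilinear.add_left, Transvec.neg_left' hf, hf.bilinear.add_right, hf.bilinear.smul_left, hf.skew z u, hz, hf.alternating]
    · rw [conj_outer_gen hf (fun x y => ptr_form hf z x y 1), ptr_mulVec hf, hz, one_mul, one_smul,
        ← mulVec_mulVec, ← mulVec_mulVec, outer_mulVec hf, outer_mulVec hf]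
      simp [mulVec_smul, outer_mulVec hf, Transvec.neg_left' hf, hf.bilinear.add_left, hf.bilinear.add_right, hf.bilinear.smul_left,
        hf.skew z u, hz, hf.alternating]
    · obtain ⟨a, b, hab, hli, he⟩ := hP
      -- the kernel of the rank-two type contains two independent vectors of its image
      have ha := congrArg (· *ᵥ a) he
      have hb := congrArg (· *ᵥ b) he
      simp only [outer_mulVec hf, sub_mulVec, hf.alternating, hab, hf.skew b a, neg_zero, zero_smul, sub_self,
        smul_eq_zero, hu, or_false] at ha hb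
      exfalso
      have hx : ∀ x, f x b • a - f x a • b = f x u • u := fun x => by
        have := congrArg (· *ᵥ x) he
        simp only [outer_mulVec hf, sub_mulVec] at this
        exact this.symm
      have hna : a ∉ Submodule.span F ({b} : Set (Fin k → F)) := fun h => by
        obtain ⟨c, hc⟩ := Submodule.mem_span_singleton.mp h
        exact one_ne_zero (α := F) (LinearIndependent.pair_iff.mp hli 1 (-c)
          (by rw [one_smul, ← hc, neg_smul, add_neg_cancel])).1
      have hnb : b ∉ Submodule.span F ({a} : Set (Fin k → F)) := fun h => by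
        obtain ⟨c, hc⟩ := Submodule.mem_span_singleton.mp h
        exact one_ne_zero (α := F) (LinearIndependent.pair_iff.mp hli (-c) 1
          (by rw [one_smul, ← hc, neg_smul, neg_add_cancel])).2
      obtain ⟨za, hza, hza1⟩ := exists_dual hf hna
      obtain ⟨zb, hzb, hzb1⟩ := exists_dual hf hnb
      have h1 := hx za
      have h2 := hx zb
      rw [hza b (Submodule.mem_span_singleton_self b), hza1, zero_smul, one_smul, zero_sub] at h1
      rw [hzb a (Submodule.mem_span_singleton_self a), hzb1, zero_smul, one_smul, sub_zero] at h2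
      have hbu : b ∈ Submodule.span F ({u} : Set (Fin k → F)) :=
        Submodule.mem_span_singleton.mpr ⟨-f za u, by rw [neg_smul, ← h1, neg_neg]⟩
      obtain ⟨c, hc⟩ := Submodule.mem_span_singleton.mp hbu
      refine hna (Submodule.mem_span_singleton.mpr ⟨f zb u * c⁻¹, ?_⟩)
      have hc0 : c ≠ 0 := fun h0 => hli.ne_zero 1 (show b = 0 by rw [← hc, h0, zero_smul])
      rw [h2, ← hc, smul_smul, mul_assoc, inv_mul_cancel₀ hc0, mul_one]
  · obtain ⟨za, hza, hza1⟩ := exists_dual hf (w := a) (U := Submodule.span F {b}) fun h => by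
      obtain ⟨c, hc⟩ := Submodule.mem_span_singleton.mp h
      exact one_ne_zero (α := F) (LinearIndependent.pair_iff.mp hli 1 (-c)
        (by rw [one_smul, ← hc, neg_smul, add_neg_cancel])).1
    obtain ⟨z, haz, hbz⟩ : ∃ z, f a z = 1 ∧ f b z = 0 :=
      ⟨-za, by rw [← neg_one_smul F za, hf.bilinear.smul_right, hf.skew a za, hza1]; ring,
        by rw [← neg_one_smul F za, hf.bilinear.smul_right, hf.skew b za,
          hza b (Submodule.mem_span_singleton_self b)]; ring⟩
    obtain ⟨P, hP⟩ : ∃ P, P = outer f a b - outer f b a := ⟨_, rfl⟩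
    obtain ⟨Q, hQ⟩ : ∃ Q, Q = (ptr f z 1).val * P * (ptr f z 1)⁻¹.val := ⟨_, rfl⟩
    have hQe : Q = outer f (a + z) b - outer f b (a + z) := by
      rw [hQ, hP, mul_sub, sub_mul, conj_outer_gen hf (fun x y => ptr_form hf z x y 1),
        conj_outer_gen hf (fun x y => ptr_form hf z x y 1), ptr_mulVec hf, ptr_mulVec hf, haz, hbz, one_mul,
        one_smul, mul_zero, zero_smul, add_zero]
    have hPv : ∀ x, P *ᵥ x = f x b • a - f x a • b := fun x => by
      rw [hP, sub_mulVec, outer_mulVec hf, outer_mulVec hf]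
    have hQv : ∀ x, Q *ᵥ x = f x b • (a + z) - f x (a + z) • b := fun x => by
      rw [hQe, sub_mulVec, outer_mulVec hf, outer_mulVec hf]
    have hPb : P *ᵥ b = 0 := by rw [hPv, hf.alternating, hf.skew b a, hab]; simp
    have hQb : Q *ᵥ b = 0 := by
      rw [hQv, hf.alternating, hf.bilinear.add_right, hf.skew b a, hab, hbz]; simp
    have hPaz : P *ᵥ (a + z) = b := by
      rw [hPv, hf.bilinear.add_left, hf.bilinear.add_left, hf.alternating, hab, hf.skew z a, haz, hf.skew z b, hbz]
      simp
    have hQa : Q *ᵥ a = -b := by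
      rw [hQv, hab, hf.bilinear.add_right, hf.alternating, haz]; simp
    have hPQ : P * Q = outer f b b := Matrix.ext_iff_mulVec.2 fun x => by
      rw [← mulVec_mulVec, hQv, mulVec_sub, mulVec_smul, mulVec_smul, hPaz, hPb, smul_zero, sub_zero,
        outer_mulVec hf]
    have hQP : Q * P = (-1 : F) • outer f b b := Matrix.ext_iff_mulVec.2 fun x => by
      rw [← mulVec_mulVec, hPv, mulVec_sub, mulVec_smul, mulVec_smul, hQa, hQb, smul_zero, sub_zero,
        smul_mulVec, outer_mulVec hf, smul_neg, neg_one_smul]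
    have hb0 : b ≠ 0 := hli.ne_zero 1
    obtain ⟨x, hx⟩ := (hf.nondegenerate b hb0).1
    rw [← hP]
    refine ⟨z, Q, hQ, ⟨x, ?_, ?_⟩, fun _ => ⟨?_, ?_, b, hb0, hPQ, hQP⟩⟩
    · rw [hPQ, outer_mulVec hf, hf.bilinear.smul_left, hf.skew b x]
      exact mul_ne_zero hx (neg_ne_zero.mpr hx)
    · rw [hPQ, hQP, smul_mulVec, hf.bilinear.smul_left, neg_one_mul]
    · rw [hPQ]
      refine Matrix.ext_iff_mulVec.2 fun x => ?_
      rw [← mulVec_mulVec, hPv, mulVec_sub, mulVec_smul, mulVec_smul, outer_mulVec hf, outer_mulVec hf, hab,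
        hf.alternating]
      simp
    · rw [hQP]
      refine Matrix.ext_iff_mulVec.2 fun x => ?_
      rw [← mulVec_mulVec, hQv, mulVec_sub, mulVec_smul, mulVec_smul, smul_mulVec, smul_mulVec, outer_mulVec hf,
        outer_mulVec hf, hf.alternating, hf.bilinear.add_left, hab, hf.skew z b, hbz]
      simp

end CfsgLib.Classical22.TPow
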