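/-
Elements one plus a pure product, their conjugates, commutators and sandwiches.
-/
import Cfsg.Agent.Lib.Classical22.TensorPower.Twin

set_option autoImplicit false
set_option linter.unusedSectionVars false
set_option linter.unusedSimpArgs false

namespace CfsgLib.Classical22.TPow

open Matrix Kronecker CfsgLib.Transvec CfsgLib.Classical22.TensorMax CfsgLib.Classical22.TensorMax.SympO
open CfsgLib.Classical22.TWMax
open scoped MatrixGroups

variable {F : Type*} [Field F] {t k : ℕ} {f : (Fin k → F) → (Fin k → F) → F}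

/-- `M` has an element `1 + c • ⊗ G` with `c ≠ 0`. -/
def HasEl (M : Subgroup (GL (Idx t k) F)) (G : Fin t → Matrix (Fin k) (Fin k) F) : Prop :=
  ∃ c : F, c ≠ 0 ∧ ∃ h ∈ M, h.val = 1 + c • tmat G

lemma tmat_eq_zero {G : Fin t → Matrix (Fin k) (Fin k) F} (l : Fin t) (h : G l = 0) : tmat G = 0 :=
  Matrix.ext fun x y => Finset.prod_eq_zero (Finset.mem_univ l) (by rw [h]; rfl)

lemma tGL_mem {M : Subgroup (GL (Idx (t + 1) k) F)} {gs : Fin (t + 1) → GL (Fin k) F}
    (h : ∀ l, slotEl l (gs l) ∈ M) : tGL gs ∈ M := by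
  classical
  suffices ∀ S : Finset (Fin (t + 1)), tGL (S.piecewise gs fun _ => 1) ∈ M by
    simpa using this Finset.univ
  intro S
  induction S using Finset.induction_on with
  | empty =>
    convert M.one_mem
    exact ext_pv fun xs => by simp [tGL_apply]
  | insert l S hl ih =>
    convert mul_mem (h l) ih
    refine ext_pv fun xs => ?_
    rw [Transvec.mul_mulVec, tGL_apply, tGL_apply, slotEl_apply]
    congr 1
    funext j
    by_cases hj : j = l
    · subst hj; simp [hl]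
    · simp [hj, Finset.piecewise]

lemma HasEl.conj {M : Subgroup (GL (Idx t k) F)} {G : Fin t → Matrix (Fin k) (Fin k) F} (hG : HasEl M G)
    {gs : Fin t → GL (Fin k) F} (hgs : tGL gs ∈ M) :
    HasEl M fun l => (gs l).val * G l * (gs l)⁻¹.val := by
  obtain ⟨c, hc, h, hh, he⟩ := hG
  refine ⟨c, hc, tGL gs * h * (tGL gs)⁻¹, mul_mem (mul_mem hgs hh) (inv_mem hgs), ?_⟩
  rw [Units.val_mul, Units.val_mul, he, mul_add, mul_one, add_mul, Units.mul_inv, Matrix.mul_smul, Matrix.smul_mul,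
    show (tGL gs)⁻¹.val = tmat fun l => (gs l)⁻¹.val from rfl, show (tGL gs).val = tmat fun l => (gs l).val from rfl,
    tmat_mul, tmat_mul]

lemma HasEl.perm {M : Subgroup (GL (Idx t k) F)} {G : Fin t → Matrix (Fin k) (Fin k) F} (hG : HasEl M G)
    {σ : Equiv.Perm (Fin t)} (hσ : permGL σ ∈ M) : HasEl M fun l => G (σ.symm l) := by
  obtain ⟨c, hc, h, hh, he⟩ := hG
  refine ⟨c, hc, permGL σ * h * (permGL σ)⁻¹, mul_mem (mul_mem hσ hh) (inv_mem hσ), mat_ext_pv fun xs => ?_⟩
  rw [Transvec.mul_mulVec, Transvec.mul_mulVec, he,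
    show (permGL (F := F) (m := k) σ)⁻¹.val = permMat σ.symm from rfl, permMat_mulVec, add_mulVec, one_mulVec,
    smul_mulVec, tmat_mulVec, mulVec_add, mulVec_smul, permGL_apply, permGL_apply, add_mulVec, one_mulVec,
    smul_mulVec, tmat_mulVec]
  simp

/-- Commutators of square-zero elements with vanishing triple products. -/
lemma comm_val {ι : Type} [Fintype ι] [DecidableEq ι] {h h' : GL ι F} {A B : Matrix ι ι F} (hh : h.val = 1 + A)
    (hh' : h'.val = 1 + B) (hA : A * A = 0) (hB : B * B = 0) (h1 : A * B * A = 0) (h2 : B * A * B = 0) :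
    (h * h' * h⁻¹ * h'⁻¹).val = 1 + (A * B - B * A) := by
  have hi : h⁻¹.val = 1 - A := Units.inv_eq_of_mul_eq_one_right (by
    rw [hh, mul_sub, mul_one, add_mul, one_mul, hA]; abel)
  have hi' : h'⁻¹.val = 1 - B := Units.inv_eq_of_mul_eq_one_right (by
    rw [hh', mul_sub, mul_one, add_mul, one_mul, hB]; abel)
  rw [Units.val_mul, Units.val_mul, Units.val_mul, hh, hh', hi, hi']
  simp only [mul_add, add_mul, mul_sub, sub_mul, mul_one, one_mul, hA, hB, h1, h2, zero_mul, mul_zero]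
  try simp only [← mul_assoc, hA, hB, h1, h2, zero_mul, mul_zero]
  try simp only [mul_assoc, hA, hB, mul_zero]
  abel

/-- The shears at slot `i` along `v`. -/
noncomputable def shG (hf : Cfsg.Geo.IsSymplecticForm f) (M : Subgroup (GL (Idx (t + 1) k) F)) (i : Fin (t + 1))
    (v : Fin k → F) : AddSubgroup (Matrix (Idx (t + 1) k) (Idx (t + 1) k) F) where
  carrier := {X | (∃ A : Matrix (Fin (k ^ t)) (Fin (k ^ t)) F, slotA i X = A ⊗ₖ outer f v v) ∧ ∃ h ∈ M, h.val = 1 + X}
  zero_mem' := ⟨⟨0, by rw [map_zero, zero_kronecker]⟩, 1, M.one_mem, by rw [Units.val_one, add_zero]⟩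
  add_mem' := fun {X Y} ⟨⟨A, hA⟩, g, hg, hgX⟩ ⟨⟨B, hB⟩, g', hg', hgY⟩ =>
    ⟨⟨A + B, by rw [map_add, hA, hB, add_kronecker]⟩, g * g', mul_mem hg hg', by
      have h0 : X * Y = 0 := (slotA i).injective (by
        rw [map_mul, map_zero, hA, hB, ← mul_kronecker_mul, outer_sq hf, hf.alternating, zero_smul, kronecker_zero])
      rw [Units.val_mul, hgX, hgY]; simp only [mul_add, add_mul, mul_one, one_mul, h0]; abel⟩
  neg_mem' := fun {X} ⟨⟨A, hA⟩, g, hg, hgX⟩ =>
    ⟨⟨-A, by rw [map_neg, hA, ← neg_one_smul F A, smul_kronecker, neg_one_smul]⟩, g⁻¹, inv_mem hg,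
      Units.inv_eq_of_mul_eq_one_right (by
        have h0 : X * X = 0 := (slotA i).injective (by
          rw [map_mul, map_zero, hA, ← mul_kronecker_mul, outer_sq hf, hf.alternating, zero_smul, kronecker_zero])
        rw [hgX]; simp only [mul_add, add_mul, mul_one, one_mul, mul_neg, h0]; abel)⟩

variable (hf : Cfsg.Geo.IsSymplecticForm f) {M : Subgroup (GL (Idx (t + 1) k) F)} (C : PCtx f M)
include hf

lemma mem_shG {i : Fin (t + 1)} {v : Fin k → F} {X : Matrix (Idx (t + 1) k) (Idx (t + 1) k) F} :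
    X ∈ shG hf M i v ↔ (∃ A : Matrix (Fin (k ^ t)) (Fin (k ^ t)) F, slotA i X = A ⊗ₖ outer f v v) ∧ ∃ h ∈ M, h.val = 1 + X := Iff.rfl

lemma outer_sandwich (Z : Matrix (Fin k) (Fin k) F) (x : Fin k → F) :
    outer f x x * Z * outer f x x = f (Z *ᵥ x) x • outer f x x :=
  Matrix.ext_iff_mulVec.2 fun w => by
    rw [← mulVec_mulVec, ← mulVec_mulVec, smul_mulVec, outer_mulVec hf x x w, mulVec_smul, mulVec_smul,
      outer_mulVec hf, smul_comm]

include C

/-- Conjugation by a root of another slot. -/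
lemma shG_conj {i l : Fin (t + 1)} (hl : l ≠ i) {v : Fin k → F} (z : Fin k → F) (c : F)
    {X : Matrix (Idx (t + 1) k) (Idx (t + 1) k) F} (hX : X ∈ shG hf M i v) :
    (1 + c • emb l (outer f z z)) * X * (1 - c • emb l (outer f z z)) ∈ shG hf M i v := by
  obtain ⟨⟨A, hA⟩, h, hh, he⟩ := hX
  obtain ⟨τ, hτ⟩ : ∃ τ, τ = slotEl l (ptr f z c) := ⟨_, rfl⟩
  have hv : τ.val = 1 + c • emb l (outer f z z) := by
    rw [hτ, slotEl_val, ptr_val hf, emb_add, emb_one, emb_smul]
  have hvi : τ⁻¹.val = 1 - c • emb l (outer f z z) := Units.inv_eq_of_mul_eq_one_right (by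
    rw [hv, mul_sub, mul_one, add_mul, one_mul, Matrix.smul_mul, Matrix.mul_smul, ← emb_mul, outer_sq hf,
      hf.alternating, zero_smul, show emb l (0 : Matrix (Fin k) (Fin k) F) = 0 from (embL l).map_zero, smul_zero,
      smul_zero]
    abel)
  refine ⟨?_, τ * h * τ⁻¹, mul_mem (mul_mem (hτ ▸ C.root l z c) hh) (inv_mem (hτ ▸ C.root l z c)), ?_⟩
  · obtain ⟨j, rfl⟩ := Fin.exists_succAbove_eq hl
    refine ⟨flatA t k (1 + c • emb j (outer f z z)) * A * flatA t k (1 - c • emb j (outer f z z)), ?_⟩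
    rw [map_mul, map_mul, hA, map_add, map_sub, map_one, map_smul, slotA_emb_other, ← smul_kronecker,
      ← one_kronecker_one, ← add_kronecker, map_add, map_sub, map_one, map_smul]
    rw [show (1 : Matrix (Fin (k ^ t)) (Fin (k ^ t)) F) ⊗ₖ (1 : Matrix (Fin k) (Fin k) F) -
        (c • flatA t k (emb j (outer f z z))) ⊗ₖ (1 : Matrix (Fin k) (Fin k) F) =
        (1 - c • flatA t k (emb j (outer f z z))) ⊗ₖ (1 : Matrix (Fin k) (Fin k) F) from
      eq_sub_of_add_eq (by rw [← add_kronecker, sub_add_cancel]) |>.symm, ← mul_kronecker_mul, ← mul_kronecker_mul,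
      one_mul, mul_one]
  · rw [Units.val_mul, Units.val_mul, he, hv, hvi, mul_add, mul_one, add_mul, ← hv, ← hvi, Units.mul_inv]

/-- Sandwich by a nilpotent of another slot. -/
lemma shG_sand [Finite F] (h2 : (2 : F) ≠ 0) {i l : Fin (t + 1)} (hl : l ≠ i) {v : Fin k → F} (z : Fin k → F)
    {X : Matrix (Idx (t + 1) k) (Idx (t + 1) k) F} (hX : X ∈ shG hf M i v) :
    emb l (outer f z z) * X * emb l (outer f z z) ∈ shG hf M i v := by
  refine half_mem h2 ?_
  have h := sub_mem (add_mem hX hX) (add_mem (shG_conj hf C hl z 1 hX) (shG_conj hf C hl z (-1) hX))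
  convert h using 1
  rw [one_smul, neg_one_smul, two_smul]
  noncomm_ring

/-- The commutator sandwiched at some of the slots. -/
theorem comm_sand [Finite F] (h2 : (2 : F) ≠ 0) {G G' : Fin (t + 1) → Matrix (Fin k) (Fin k) F}
    (hG : HasEl M G) (hG' : HasEl M G') (hsq : ∃ l, G l * G l = 0) (hsq' : ∃ l, G' l * G' l = 0)
    (ht1 : ∃ l, G l * G' l * G l = 0) (ht2 : ∃ l, G' l * G l * G' l = 0)
    {i : Fin (t + 1)} {v : Fin k → F} {δ : F} (hi : G i * G' i = outer f v v)
    (hi' : G' i * G i = δ • outer f v v) {O : Finset (Fin (t + 1))} (hiO : i ∉ O) (x : Fin (t + 1) → Fin k → F)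
    (hO : ∀ l ∈ O, f ((G l * G' l) *ᵥ x l) (x l) ≠ 0 ∧
      f ((G' l * G l) *ᵥ x l) (x l) = -f ((G l * G' l) *ᵥ x l) (x l)) :
    ∃ e : F, e ≠ 0 ∧ e • (tmat (O.piecewise (fun l => outer f (x l) (x l)) fun l => G l * G' l) -
      (δ * (-1) ^ O.card) • tmat (O.piecewise (fun l => outer f (x l) (x l))
        (Function.update (fun l => G' l * G l) i (outer f v v)))) ∈ shG hf M i v := by
  classical
  obtain ⟨c, hc, h, hh, he⟩ := hG
  obtain ⟨d, hd, h', hh', he'⟩ := hG'
  obtain ⟨X, hX⟩ : ∃ X : Fin (t + 1) → Matrix (Fin k) (Fin k) F, X = fun l => G l * G' l := ⟨_, rfl⟩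
  obtain ⟨Y, hY⟩ : ∃ Y : Fin (t + 1) → Matrix (Fin k) (Fin k) F,
      Y = Function.update (fun l => G' l * G l) i (outer f v v) := ⟨_, rfl⟩
  obtain ⟨R, hR⟩ : ∃ R : Fin (t + 1) → Matrix (Fin k) (Fin k) F, R = fun l => outer f (x l) (x l) := ⟨_, rfl⟩
  have hz : ∀ P Q : Fin (t + 1) → Matrix (Fin k) (Fin k) F, (∃ l, P l * Q l = 0) → tmat P * tmat Q = 0 :=
    fun P Q ⟨l, hl⟩ => by rw [tmat_mul]; exact tmat_eq_zero l hl
  have hz3 : ∀ P Q : Fin (t + 1) → Matrix (Fin k) (Fin k) F, (∃ l, P l * Q l * P l = 0) →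
      tmat P * tmat Q * tmat P = 0 := fun P Q ⟨l, hl⟩ => by rw [tmat_mul, tmat_mul]; exact tmat_eq_zero l hl
  have hval := comm_val he he' (by rw [Matrix.smul_mul, Matrix.mul_smul, hz G G hsq, smul_zero, smul_zero])
    (by rw [Matrix.smul_mul, Matrix.mul_smul, hz G' G' hsq', smul_zero, smul_zero])
    (by simp only [Matrix.smul_mul, Matrix.mul_smul, hz3 G G' ht1, smul_zero])
    (by simp only [Matrix.smul_mul, Matrix.mul_smul, hz3 G' G ht2, smul_zero])
  have hY' : tmat (fun l => G' l * G l) = δ • tmat Y := by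
    rw [hY, ← tmat_update_smul, ← hi']
    simp
  have hform : ∀ P : Fin (t + 1) → Matrix (Fin k) (Fin k) F, P i = outer f v v →
      slotA i (tmat P) = flatA t k (tmat fun j => P (i.succAbove j)) ⊗ₖ outer f v v := fun P hP => by
    rw [slotA_tmat, hP]
  have hstep : ∀ S ⊆ O, ∃ e : F, e ≠ 0 ∧
      e • (tmat (S.piecewise R X) - (δ * (-1) ^ S.card) • tmat (S.piecewise R Y)) ∈ shG hf M i v := by
    intro S
    induction S using Finset.induction_on with
    | empty =>
      intro _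
      refine ⟨c * d, mul_ne_zero hc hd, ?_⟩
      rw [Finset.piecewise_empty, Finset.piecewise_empty, Finset.card_empty, pow_zero, mul_one, ← hY', hX]
      refine (mem_shG hf).mpr ⟨?_, _, mul_mem (mul_mem (mul_mem hh hh') (inv_mem hh)) (inv_mem hh'), ?_⟩
      · refine ⟨(c * d) • (flatA t k (tmat fun j => G (i.succAbove j) * G' (i.succAbove j)) -
          δ • flatA t k (tmat fun j => Y (i.succAbove j))), ?_⟩
        rw [map_smul, map_sub, hform _ hi, hY', map_smul, hform Y (by rw [hY, Function.update_self]),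
          smul_kronecker]
        congr 1
        rw [← smul_kronecker]
        exact eq_comm.mp (eq_sub_of_add_eq (by rw [← add_kronecker, sub_add_cancel]))
      · rw [hval, Matrix.smul_mul, Matrix.mul_smul, Matrix.smul_mul, Matrix.mul_smul, tmat_mul, tmat_mul, smul_smul,
          smul_smul, mul_comm d c, smul_sub]
    | insert l S hl ih =>
      intro hlS
      obtain ⟨e, he0, hmem⟩ := ih fun a ha => hlS (Finset.mem_insert_of_mem ha)
      have hlO := hlS (Finset.mem_insert_self l S)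
      have hli : l ≠ i := fun h => hiO (h ▸ hlO)
      obtain ⟨hne, hneg⟩ := hO l hlO
      have h := shG_sand hf C h2 hli (x l) hmem
      refine ⟨e * f ((G l * G' l) *ᵥ x l) (x l), mul_ne_zero he0 hne, ?_⟩
      convert h using 1
      rw [Matrix.mul_smul, Matrix.smul_mul, mul_sub, sub_mul, Matrix.mul_smul, Matrix.smul_mul, emb_tmat_emb,
        emb_tmat_emb, outer_sandwich hf, outer_sandwich hf, Finset.piecewise_eq_of_notMem _ _ _ hl,
        Finset.piecewise_eq_of_notMem _ _ _ hl, tmat_update_smul, tmat_update_smul, Finset.card_insert_of_notMem hl,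
        Finset.piecewise_insert, Finset.piecewise_insert, hR, hX, hY, Function.update_of_ne hli, hneg, pow_succ]
      module
  have := hstep O subset_rfl
  rwa [hR, hX, hY] at this

/-- The commutator followed by sandwiches. -/
theorem hasEl_comm [Finite F] (h2 : (2 : F) ≠ 0) {G G' : Fin (t + 1) → Matrix (Fin k) (Fin k) F}
    (hG : HasEl M G) (hG' : HasEl M G') (hsq : ∃ l, G l * G l = 0) (hsq' : ∃ l, G' l * G' l = 0)
    (ht1 : ∃ l, G l * G' l * G l = 0) (ht2 : ∃ l, G' l * G l * G' l = 0)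
    {i : Fin (t + 1)} {v : Fin k → F} {δ : F} (hi : G i * G' i = outer f v v)
    (hi' : G' i * G i = δ • outer f v v) {O : Finset (Fin (t + 1))} (hiO : i ∉ O) (x : Fin (t + 1) → Fin k → F)
    (hO : ∀ l ∈ O, f ((G l * G' l) *ᵥ x l) (x l) ≠ 0 ∧
      f ((G' l * G l) *ᵥ x l) (x l) = -f ((G l * G' l) *ᵥ x l) (x l))
    (hrest : ∀ l ∉ O, l ≠ i → G' l * G l = G l * G' l) (hpar : δ * (-1) ^ O.card = -1) :
    HasEl M (O.piecewise (fun l => outer f (x l) (x l)) fun l => G l * G' l) := by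
  classical
  obtain ⟨e, he0, hmem⟩ := comm_sand hf C h2 hG hG' hsq hsq' ht1 ht2 hi hi' hiO x hO
  have hXY : O.piecewise (fun l => outer f (x l) (x l)) (Function.update (fun l => G' l * G l) i (outer f v v)) =
      O.piecewise (fun l => outer f (x l) (x l)) fun l => G l * G' l := funext fun l => by
    by_cases hlO : l ∈ O
    · simp [hlO]
    · by_cases hli : l = i
      · subst hli; simp [hlO, hi]
      · simp [hlO, hli, hrest l hlO hli]
  rw [hpar, hXY, neg_one_smul, sub_neg_eq_add, ← two_smul F, smul_smul] at hmem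
  obtain ⟨-, g, hg, hge⟩ := (mem_shG hf).mp hmem
  exact ⟨e * 2, mul_ne_zero he0 h2, g, hg, hge⟩

end CfsgLib.Classical22.TPow
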