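/-
From a non-scalar shear to all pure products of nilpotents.
-/
import Cfsg.Agent.Lib.Classical22.TensorPower.Shear

set_option autoImplicit false
set_option linter.unusedSectionVars false
set_option linter.unusedSimpArgs false

namespace CfsgLib.Classical22.TPow

open Matrix Kronecker CfsgLib.Transvec CfsgLib.Classical22.TensorMax CfsgLib.Classical22.TensorMax.SympO
open CfsgLib.Classical22.TWMax
open scoped MatrixGroups

variable {F : Type*} [Field F] {t k : ℕ} {f : (Fin k → F) → (Fin k → F) → F}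

/-- Nilpotent factors exactly on `S`. -/
def NSet (f : (Fin k → F) → (Fin k → F) → F) (G : Fin t → Matrix (Fin k) (Fin k) F) (S : Finset (Fin t)) : Prop :=
  (∀ l ∈ S, IsN f (G l)) ∧ ∀ l ∉ S, G l = 1

/-- A matrix scalar at every slot is scalar. -/
lemma scalar_of_slots {K : Matrix (Idx (t + 1) k) (Idx (t + 1) k) F}
    (h : ∀ l : Fin (t + 1), ∃ A, slotA l K = A ⊗ₖ (1 : Matrix (Fin k) (Fin k) F)) : ∃ c : F, K = c • 1 := by
  classical
  rcases isEmpty_or_nonempty (Idx (t + 1) k) with hE | ⟨⟨x₀⟩⟩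
  · exact ⟨0, Matrix.ext fun x => isEmptyElim x⟩
  have hent : ∀ (l : Fin (t + 1)) (x y : Idx (t + 1) k), (x l ≠ y l → K x y = 0) ∧
      ∀ v, x l = y l → K (Function.update x l v) (Function.update y l v) = K x y := by
    intro l x y
    obtain ⟨A, hA⟩ := h l
    have e : ∀ x y : Idx (t + 1) k, K x y = A (flatE t k fun j => x (l.succAbove j)) (flatE t k fun j => y (l.succAbove j)) *
        (1 : Matrix (Fin k) (Fin k) F) (x l) (y l) := fun x y => by
      have := congrFun (congrFun hA (slotE l x)) (slotE l y)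
      rw [slotA, reindexAlgEquiv_apply, reindex_apply, submatrix_apply, Equiv.symm_apply_apply,
        Equiv.symm_apply_apply, slotE_apply, slotE_apply] at this
      exact this
    refine ⟨fun hne => by rw [e, Matrix.one_apply_ne hne, mul_zero], fun v hv => ?_⟩
    rw [e, e x y, hv]
    simp [Fin.succAbove_ne, Function.update_self, Matrix.one_apply]
  refine ⟨K x₀ x₀, Matrix.ext fun x y => ?_⟩
  by_cases hxy : x = y
  · subst hxy
    have : ∀ S : Finset (Fin (t + 1)), K (S.piecewise x x₀) (S.piecewise x x₀) = K x₀ x₀ := fun S => by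
      induction S using Finset.induction_on with
      | empty => simp
      | insert l S hl ih => rw [Finset.piecewise_insert, (hent l _ _).2 _ rfl, ih]
    simpa using this Finset.univ
  · obtain ⟨l, hl⟩ := Function.ne_iff.mp hxy
    simp [(hent l x y).1 hl, hxy]

variable (hf : Cfsg.Geo.IsSymplecticForm f)
include hf

lemma sq_zero_of_pat {G : Matrix (Fin k) (Fin k) F} (h : IsN f G ∨ IsP f G) : G * G = 0 := by
  rcases h with ⟨u, -, rfl⟩ | ⟨a, b, hab, -, rfl⟩
  · rw [outer_sq hf, hf.alternating, zero_smul]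
  · refine Matrix.ext_iff_mulVec.2 fun x => ?_
    simp [← mulVec_mulVec, sub_mulVec, outer_mulVec hf, mulVec_sub, mulVec_smul, hab, hf.alternating, hf.skew b a]

lemma isN_conj {G : Matrix (Fin k) (Fin k) F} (h : IsN f G) {τ : GL (Fin k) F}
    (hτ : ∀ x y, f (τ.val *ᵥ x) (τ.val *ᵥ y) = f x y) : IsN f (τ.val * G * τ⁻¹.val) := by
  obtain ⟨u, hu, rfl⟩ := h
  exact ⟨_, Transvec.mulVec_ne_zero τ hu, conj_outer_gen hf hτ u u⟩

variable {M : Subgroup (GL (Idx (t + 1) k) F)} (C : PCtx f M)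
include C

lemma slotEl_one_mem (l : Fin (t + 1)) : slotEl l (1 : GL (Fin k) F) ∈ M := by
  convert M.one_mem
  exact ext_pv fun xs => by simp [slotEl_apply]

/-- Twins for all factors. -/
theorem exists_twins {G : Fin (t + 1) → Matrix (Fin k) (Fin k) F} (hG : HasEl M G) (hpat : ∀ l, Pat f (G l)) :
    ∃ G', HasEl M G' ∧ (∀ l, G l = 1 → G' l = 1) ∧ (∀ l, G l ≠ 1 → G' l * G' l = 0) ∧ (∀ l, IsN f (G l) → IsN f (G' l)) ∧
      (∀ l, G l ≠ 1 → ∃ x, f ((G l * G' l) *ᵥ x) x ≠ 0 ∧ f ((G' l * G l) *ᵥ x) x = -f ((G l * G' l) *ᵥ x) x) ∧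
      ∀ l, IsP f (G l) → G l * G' l * G l = 0 ∧ G' l * G l * G' l = 0 ∧
        ∃ v, v ≠ 0 ∧ G l * G' l = outer f v v ∧ G' l * G l = (-1 : F) • outer f v v := by
  classical
  have hp : ∀ l, G l ≠ 1 → IsN f (G l) ∨ IsP f (G l) := fun l h => (hpat l).resolve_left h
  choose z G₁ hz hx hP using fun (l : Fin (t + 1)) (h : G l ≠ 1) => exists_twin hf (hp l h)
  obtain ⟨gs, hgs⟩ : ∃ gs : Fin (t + 1) → GL (Fin k) F,
      ∀ l, gs l = if h : G l = 1 then 1 else ptr f (z l h) 1 := ⟨_, fun l => rfl⟩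
  have hmem : tGL gs ∈ M := tGL_mem fun l => by
    rw [hgs]; split
    · exact slotEl_one_mem hf C l
    · exact C.root l _ 1
  refine ⟨_, hG.conj hmem, fun l h => by simp [hgs, h], fun l h => ?_, fun l h => ?_, fun l h => ?_, fun l h => ?_⟩
  · rw [hgs, dif_neg h]
    have e := sq_zero_of_pat hf (hp l h)
    calc _ = (ptr f (z l h) 1).val * (G l * ((ptr f (z l h) 1)⁻¹.val * (ptr f (z l h) 1).val) * G l) *
          (ptr f (z l h) 1)⁻¹.val := by simp only [mul_assoc]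
      _ = 0 := by rw [Units.inv_mul, mul_one, e, mul_zero, zero_mul]
  · have h' := not_one_of_isN hf h
    rw [hgs, dif_neg h']
    exact isN_conj hf h fun x y => ptr_form hf _ x y 1
  · rw [hgs, dif_neg h, ← hz l h]; exact hx l h
  · have h' := not_one_of_isP hf h
    rw [hgs, dif_neg h', ← hz l h']; exact hP l h' h

/-- A rank-two factor in an odd support. -/
theorem step_self [Finite F] (h2 : (2 : F) ≠ 0) {G : Fin (t + 1) → Matrix (Fin k) (Fin k) F} (hG : HasEl M G)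
    (hpat : ∀ l, Pat f (G l)) {S : Finset (Fin (t + 1))} (hS : ∀ l, l ∈ S ↔ G l ≠ 1) (hodd : Odd S.card)
    {i : Fin (t + 1)} (hi : IsP f (G i)) : ∃ G', HasEl M G' ∧ NSet f G' S := by
  classical
  obtain ⟨G', hG', h1, hsq, -, hx, hP⟩ := exists_twins hf C hG hpat
  have hi1 := not_one_of_isP hf hi
  obtain ⟨htr, htr', v, hv, hv1, hv2⟩ := hP i hi
  choose x hxa hxb using fun l => (show ∃ x, G l ≠ 1 → f ((G l * G' l) *ᵥ x) x ≠ 0 ∧
      f ((G' l * G l) *ᵥ x) x = -f ((G l * G' l) *ᵥ x) x by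
    by_cases h : G l = 1
    · exact ⟨0, fun h' => absurd h h'⟩
    · obtain ⟨x, hx⟩ := hx l h; exact ⟨x, fun _ => hx⟩).imp (fun x hx => (⟨fun h => (hx h).1, fun h => (hx h).2⟩ :
        (G l ≠ 1 → f ((G l * G' l) *ᵥ x) x ≠ 0) ∧ (G l ≠ 1 → f ((G' l * G l) *ᵥ x) x = -f ((G l * G' l) *ᵥ x) x)))
  have hiS : i ∈ S := (hS i).mpr hi1
  have hrest : ∀ l ∉ S, G' l * G l = G l * G' l := fun l hl => by
    have e : G l = 1 := not_not.mp fun h => hl ((hS l).mpr h)
    rw [e, h1 l e]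
  have hC := hasEl_comm hf C h2 hG hG' ⟨i, sq_zero_of_pat hf (Or.inr hi)⟩ ⟨i, hsq i hi1⟩ ⟨i, htr⟩ ⟨i, htr'⟩ hv1 hv2
    (O := S.erase i) (by simp) x
    (fun l hl => ⟨hxa l ((hS l).mp (Finset.mem_of_mem_erase hl)), hxb l ((hS l).mp (Finset.mem_of_mem_erase hl))⟩)
    (fun l hl hli => hrest l fun h => hl (Finset.mem_erase.mpr ⟨hli, h⟩)) (by
      rw [Finset.card_erase_of_mem hiS]
      obtain ⟨j, hj⟩ := hodd
      rw [hj, Nat.add_sub_cancel, pow_mul, neg_one_sq, one_pow, mul_one])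
  refine ⟨_, hC, fun l hl => ?_, fun l hl => ?_⟩
  · by_cases hli : l = i
    · subst hli
      rw [Finset.piecewise_eq_of_notMem _ _ _ (by simp), hv1]
      exact ⟨v, hv, rfl⟩
    · rw [Finset.piecewise_eq_of_mem _ _ _ (Finset.mem_erase.mpr ⟨hli, hl⟩)]
      refine ⟨x l, fun h0 => hxa l ((hS l).mp hl) ?_, rfl⟩
      rw [h0, mulVec_zero, hf.alternating]
  · have e : G l = 1 := not_not.mp fun h => hl ((hS l).mpr h)
    rw [Finset.piecewise_eq_of_notMem _ _ _ fun h => hl (Finset.mem_of_mem_erase h), e, h1 l e, one_mul]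

variable (hperm : ∀ σ : Equiv.Perm (Fin (t + 1)), permGL σ ∈ M)
include hperm

/-- Moving nilpotent factors out of an odd overlap. -/
theorem step_shift [Finite F] (h2 : (2 : F) ≠ 0) {G : Fin (t + 1) → Matrix (Fin k) (Fin k) F} (hG : HasEl M G)
    (hpat : ∀ l, Pat f (G l)) {S A : Finset (Fin (t + 1))} (hS : ∀ l, l ∈ S ↔ G l ≠ 1) (hA : A ⊆ S) (hA0 : A.Nonempty)
    (hAN : ∀ l ∈ A, IsN f (G l)) {σ : Equiv.Perm (Fin (t + 1))} (hinv : ∀ l, σ (σ l) = l)
    (hout : ∀ l ∈ A, σ l ∉ S) (hfix : ∀ l, l ∉ A → σ l ∉ A → σ l = l) (hodd : Odd (S \ A).card) :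
    ∃ G' S', HasEl M G' ∧ NSet f G' S' ∧ S'.card = S.card + A.card := by
  classical
  obtain ⟨G', hG', h1, hsq, hN, hx, -⟩ := exists_twins hf C hG hpat
  have hG'' := hG'.perm (hperm σ)
  have hsymm : ∀ l, σ.symm l = σ l := fun l => by rw [Equiv.symm_apply_eq, hinv]
  simp only [hsymm] at hG''
  obtain ⟨i, hi⟩ := hA0
  obtain ⟨v, hv, hGi⟩ := hAN i hi
  have hone : ∀ l ∉ S, G l = 1 := fun l hl => not_not.mp fun h => hl ((hS l).mpr h)
  have hGσ : ∀ l ∈ A, G' (σ l) = 1 := fun l hl => h1 _ (hone _ (hout l hl))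
  have hov : ∀ l ∈ S \ A, σ l = l := fun l hl => by
    obtain ⟨hlS, hlA⟩ := Finset.mem_sdiff.mp hl
    refine hfix l hlA fun h => hout _ h ?_
    rw [hinv]; exact hlS
  choose x hxa hxb using fun l => (show ∃ x, G l ≠ 1 → f ((G l * G' l) *ᵥ x) x ≠ 0 ∧
      f ((G' l * G l) *ᵥ x) x = -f ((G l * G' l) *ᵥ x) x by
    by_cases h : G l = 1
    · exact ⟨0, fun h' => absurd h h'⟩
    · obtain ⟨x, hx⟩ := hx l h; exact ⟨x, fun _ => hx⟩).imp (fun x hx => (⟨fun h => (hx h).1, fun h => (hx h).2⟩ :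
        (G l ≠ 1 → f ((G l * G' l) *ᵥ x) x ≠ 0) ∧ (G l ≠ 1 → f ((G' l * G l) *ᵥ x) x = -f ((G l * G' l) *ᵥ x) x)))
  have hGi1 : G i ≠ 1 := (hS i).mp (hA hi)
  have hsqi : G i * G i = 0 := by rw [hGi, outer_sq hf, hf.alternating, zero_smul]
  have hj : G (σ i) = 1 := hone _ (hout i hi)
  have hC := hasEl_comm hf C h2 hG hG'' ⟨i, hsqi⟩ ⟨σ i, by rw [hinv]; exact hsq i hGi1⟩
    ⟨i, by rw [hGσ i hi, mul_one, hsqi]⟩ ⟨σ i, by rw [hinv, hj, mul_one]; exact hsq i hGi1⟩
    (i := i) (v := v) (δ := 1) (by rw [hGσ i hi, mul_one, hGi]) (by rw [hGσ i hi, one_mul, hGi, one_smul])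
    (O := S \ A) (fun h => (Finset.mem_sdiff.mp h).2 hi) x
    (fun l hl => by
      rw [hov l hl]
      exact ⟨hxa l ((hS l).mp (Finset.mem_sdiff.mp hl).1), hxb l ((hS l).mp (Finset.mem_sdiff.mp hl).1)⟩)
    (fun l hl _ => by
      by_cases hlA : l ∈ A
      · rw [hGσ l hlA, one_mul, mul_one]
      · rw [hone l fun h => hl (Finset.mem_sdiff.mpr ⟨h, hlA⟩), one_mul, mul_one])
    (by rw [one_mul]; exact hodd.neg_one_pow)
  refine ⟨_, S ∪ A.image σ, hC, ⟨fun l hl => ?_, fun l hl => ?_⟩, ?_⟩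
  · by_cases hlO : l ∈ S \ A
    · rw [Finset.piecewise_eq_of_mem _ _ _ hlO]
      refine ⟨x l, fun h0 => hxa l ((hS l).mp (Finset.mem_sdiff.mp hlO).1) ?_, rfl⟩
      rw [h0, mulVec_zero, hf.alternating]
    rw [Finset.piecewise_eq_of_notMem _ _ _ hlO]
    by_cases hlA : l ∈ A
    · rw [hGσ l hlA, mul_one]; exact hAN l hlA
    · have hlS : l ∉ S := fun h => hlO (Finset.mem_sdiff.mpr ⟨h, hlA⟩)
      obtain ⟨m, hm, rfl⟩ := Finset.mem_image.mp ((Finset.mem_union.mp hl).resolve_left hlS)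
      rw [hone _ hlS, one_mul, hinv]
      exact hN m (hAN m hm)
  · obtain ⟨hlS, hlI⟩ := not_or.mp (fun h => hl (Finset.mem_union.mpr h))
    have hlA : l ∉ A := fun h => hlS (hA h)
    have hσA : σ l ∉ A := fun h => hlI (Finset.mem_image.mpr ⟨σ l, h, hinv l⟩)
    rw [Finset.piecewise_eq_of_notMem _ _ _ (fun h => hlS (Finset.mem_sdiff.mp h).1), hone l hlS, one_mul,
      hfix l hlA hσA, h1 l (hone l hlS)]
  · rw [Finset.card_union_of_disjoint, Finset.card_image_of_injective _ σ.injective]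
    rw [Finset.disjoint_left]
    intro l hl hlI
    obtain ⟨m, hm, rfl⟩ := Finset.mem_image.mp hlI
    exact hout m hm hl

omit hperm in
/-- A pattern with a nilpotent factor from a non-scalar shear. -/
theorem exists_start [Finite F] (h2 : (2 : F) ≠ 0) (hns : NSShear f M) :
    ∃ (G : Fin (t + 1) → Matrix (Fin k) (Fin k) F) (i l : Fin (t + 1)), HasEl M G ∧ (∀ j, Pat f (G j)) ∧
      IsN f (G i) ∧ l ≠ i ∧ G l ≠ 1 := by
  classical
  obtain ⟨s, v, hv, B₀, hB₀, h, hh, hhv⟩ := hns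
  obtain ⟨T, rfl⟩ : ∃ T, t = T + 1 := by
    rcases t with - | T
    · haveI : Subsingleton (Fin (k ^ 0)) := by rw [pow_zero]; infer_instance
      refine absurd ⟨B₀ ⟨0, by simp⟩ ⟨0, by simp⟩, Matrix.ext fun a b => ?_⟩ hB₀
      rw [Subsingleton.elim a ⟨0, by simp⟩, Subsingleton.elim b ⟨0, by simp⟩]
      rw [Matrix.smul_apply, Matrix.one_apply_eq, smul_eq_mul, mul_one]
    · exact ⟨T, rfl⟩
  obtain ⟨𝒦, h𝒦⟩ : ∃ 𝒦 : AddSubgroup (Matrix (Idx (T + 1) k) (Idx (T + 1) k) F), ∀ B, B ∈ 𝒦 ↔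
      (slotA s).symm (flatA (T + 1) k B ⊗ₖ outer f v v) ∈ shG hf M s v :=
    ⟨(shG hf M s v).comap ((slotA s).symm.toLinearMap.toAddMonoidHom.comp
      (AddMonoidHom.mk' (fun B => flatA (T + 1) k B ⊗ₖ outer f v v) fun B B' => by rw [map_add, add_kronecker])),
      fun B => Iff.rfl⟩
  have hR : RootStable f 𝒦 := fun l u c B hB => by
    rw [h𝒦] at hB ⊢
    have := shG_conj hf C (Fin.succAbove_ne s l) u c hB
    convert this using 1
    apply (slotA s).injective
    simp only [map_mul, map_add, map_sub, map_one, map_smul, slotA_emb_other, AlgEquiv.apply_symm_apply]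
    rw [← one_kronecker_one, ← smul_kronecker, ← add_kronecker,
      show (1 : Matrix (Fin (k ^ (T + 1))) (Fin (k ^ (T + 1))) F) ⊗ₖ (1 : Matrix (Fin k) (Fin k) F) -
        (c • flatA (T + 1) k (emb l (outer f u u))) ⊗ₖ (1 : Matrix (Fin k) (Fin k) F) =
        (1 - c • flatA (T + 1) k (emb l (outer f u u))) ⊗ₖ (1 : Matrix (Fin k) (Fin k) F) from
      (eq_sub_of_add_eq (by rw [← add_kronecker, sub_add_cancel])).symm, ← mul_kronecker_mul, ← mul_kronecker_mul,
      one_mul, mul_one]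
  obtain ⟨B, hB⟩ := (flatA (T + 1) k).surjective B₀
  have hBmem : B ∈ 𝒦 := (h𝒦 B).mpr ((mem_shG hf).mpr
    ⟨⟨_, by rw [AlgEquiv.apply_symm_apply]⟩, h, hh, by
      apply (slotA s).injective
      rw [map_add, map_one, AlgEquiv.apply_symm_apply, hB, ← hhv, slotG_val]⟩)
  have hB0 : B ≠ 0 := fun h0 => hB₀ ⟨0, by rw [← hB, h0, map_zero, zero_smul]⟩
  obtain ⟨l, hl⟩ : ∃ l, ¬ ∃ A, slotA l B = A ⊗ₖ (1 : Matrix (Fin k) (Fin k) F) := by
    by_contra hall
    push Not at hall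
    obtain ⟨c, hc⟩ := scalar_of_slots hall
    exact hB₀ ⟨c, by rw [← hB, hc, map_smul, map_one]⟩
  obtain ⟨G0, A, hA0, hA, hG0⟩ := exists_factor hf h2 (sand_of_rootStable hf h2 hR) l hBmem hB0
  have hG0' : IsN f G0 ∨ IsP f G0 := hG0.resolve_left fun h => hl ⟨_, h.2⟩
  obtain ⟨c, G, hc, hG, hGl, hmem⟩ := exists_pure_at hf h2 (sand_of_rootStable hf h2 hR) l (Or.inr hG0') hA0 hA
  obtain ⟨-, g, hg, hge⟩ := (mem_shG hf).mp ((h𝒦 _).mp hmem)
  refine ⟨Fin.insertNth s (outer f v v) G, s, s.succAbove l, ⟨c, hc, g, hg, ?_⟩,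
    s.succAboveCases (by simp only [Fin.insertNth_apply_same]; exact Or.inr (Or.inl ⟨v, hv, rfl⟩))
      (fun j => by simpa using hG j), by simpa using ⟨v, hv, rfl⟩, Fin.succAbove_ne s l, ?_⟩
  · rw [hge]
    congr 1
    apply (slotA s).injective
    rw [AlgEquiv.apply_symm_apply, map_smul, map_smul, smul_kronecker, slotA_tmat]
    simp
  · rw [Fin.insertNth_apply_succAbove, hGl]
    exact hG0'.elim (not_one_of_isN hf) (not_one_of_isP hf)

/-- Growing an odd nilpotent support as far as possible. -/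
theorem exists_grown [Finite F] (h2 : (2 : F) ≠ 0) {G : Fin (t + 1) → Matrix (Fin k) (Fin k) F} (hG : HasEl M G)
    (hpat : ∀ l, Pat f (G l)) {i : Fin (t + 1)} (hi : IsN f (G i)) {S : Finset (Fin (t + 1))}
    (hS : ∀ l, l ∈ S ↔ G l ≠ 1) (h2S : 2 ≤ S.card) (hfree : Even S.card → S ≠ Finset.univ) :
    ∃ G S, HasEl M G ∧ NSet f G S ∧ Odd S.card ∧ 3 ≤ S.card ∧ t ≤ S.card := by
  classical
  have hiS : i ∈ S := (hS i).mpr (not_one_of_isN hf hi)
  obtain ⟨G₁, S₁, hG₁, hN₁, hodd, h3⟩ :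
      ∃ G₁ S₁, HasEl M G₁ ∧ NSet f G₁ S₁ ∧ Odd S₁.card ∧ 3 ≤ S₁.card := by
    rcases Nat.even_or_odd S.card with he | ho
    · obtain ⟨j, hj⟩ : ∃ j, j ∉ S := by
        by_contra hall
        push Not at hall
        exact hfree he (Finset.eq_univ_of_forall hall)
      obtain ⟨G', S', hG', hN', hc⟩ := step_shift hf C hperm h2 hG hpat hS (A := {i}) (by simpa using hiS)
        ⟨i, Finset.mem_singleton_self i⟩ (by simpa using hi) (σ := Equiv.swap i j) (Equiv.swap_apply_self i j)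
        (by simpa using hj)
        (fun m h1 h2 => by
          rw [Finset.mem_singleton] at h1 h2
          exact Equiv.swap_apply_of_ne_of_ne h1 fun h => h2 (by rw [h, Equiv.swap_apply_right]))
        (by
          rw [Finset.card_sdiff_of_subset (by simpa using hiS), Finset.card_singleton]
          obtain ⟨r, hr⟩ := he
          exact ⟨r - 1, by omega⟩)
      rw [Finset.card_singleton] at hc
      exact ⟨G', S', hG', hN', hc ▸ he.add_one, by omega⟩
    · have h3 : 3 ≤ S.card := by obtain ⟨r, hr⟩ := ho; omega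
      by_cases hP : ∃ m, IsP f (G m)
      · obtain ⟨m, hm⟩ := hP
        obtain ⟨G', hG', hN'⟩ := step_self hf C h2 hG hpat hS ho hm
        exact ⟨G', S, hG', hN', ho, h3⟩
      · push Not at hP
        refine ⟨G, S, hG, ⟨fun m hm => ?_, fun m hm => not_not.mp fun h => hm ((hS m).mpr h)⟩, ho, h3⟩
        exact ((hpat m).resolve_left ((hS m).mp hm)).resolve_right (hP m)
  clear hG hpat hi hS hiS h2S hfree
  suffices ∀ n, ∀ (G : Fin (t + 1) → Matrix (Fin k) (Fin k) F) (S : Finset (Fin (t + 1))),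
      t ≤ S.card + n → HasEl M G → NSet f G S → Odd S.card → 3 ≤ S.card →
        ∃ G S, HasEl M G ∧ NSet f G S ∧ Odd S.card ∧ 3 ≤ S.card ∧ t ≤ S.card from
    this (t + 1) G₁ S₁ (by omega) hG₁ hN₁ hodd h3
  intro n
  induction n with
  | zero => exact fun G S hle hG hN ho h3 => ⟨G, S, hG, hN, ho, h3, hle⟩
  | succ n ih =>
    intro G S hle hG hN ho h3
    by_cases hfull : t ≤ S.card
    · exact ⟨G, S, hG, hN, ho, h3, hfull⟩
    obtain ⟨j, j', hjj, hj, hj'⟩ : ∃ j j', j ≠ j' ∧ j ∉ S ∧ j' ∉ S := by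
      have h1 : 1 < Sᶜ.card := by
        rw [Finset.card_compl, Fintype.card_fin]
        omega
      obtain ⟨j, hj, j', hj', hjj⟩ := Finset.one_lt_card.mp h1
      exact ⟨j, j', hjj, Finset.mem_compl.mp hj, Finset.mem_compl.mp hj'⟩
    obtain ⟨a, ha, a', ha', haa⟩ := Finset.one_lt_card.mp (show 1 < S.card by omega)
    have e1 : a ≠ j := fun h => hj (h ▸ ha)
    have e2 : a ≠ j' := fun h => hj' (h ▸ ha)
    have e3 : a' ≠ j := fun h => hj (h ▸ ha')
    have e4 : a' ≠ j' := fun h => hj' (h ▸ ha')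
    have hval : ∀ m, (Equiv.swap a j * Equiv.swap a' j') m =
        if m = a then j else if m = j then a else if m = a' then j' else if m = j' then a' else m := fun m => by
      simp only [Equiv.Perm.mul_apply, Equiv.swap_apply_def]
      split_ifs <;> simp_all
    have hpat : ∀ m, Pat f (G m) := fun m => by
      by_cases hm : m ∈ S
      · exact Or.inr (Or.inl (hN.1 m hm))
      · exact Or.inl (hN.2 m hm)
    obtain ⟨G', S', hG', hN', hc⟩ := step_shift hf C hperm h2 hG hpat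
      (fun m => ⟨fun hm => not_one_of_isN hf (hN.1 m hm), fun hm => not_not.mp fun h => hm (hN.2 m h)⟩)
      (A := {a, a'}) (by simp [Finset.insert_subset_iff, ha, ha']) ⟨a, by simp⟩
      (by rintro m hm; rcases Finset.mem_insert.mp hm with rfl | hm; · exact hN.1 _ ha
          rw [Finset.mem_singleton] at hm; exact hm ▸ hN.1 _ ha')
      (σ := Equiv.swap a j * Equiv.swap a' j') (fun m => by rw [hval, hval]; split_ifs <;> simp_all)
      (fun m hm => by
        rw [hval]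
        rcases Finset.mem_insert.mp hm with rfl | hm
        · simpa using hj
        · rw [Finset.mem_singleton] at hm; subst hm
          simpa [haa.symm, e3] using hj')
      (fun m h1 h2 => by
        rw [Finset.mem_insert, Finset.mem_singleton, not_or] at h1
        rw [hval] at h2 ⊢
        simp only [h1.1, h1.2, if_false] at h2 ⊢
        split_ifs with g g'
        · simp [g] at h2
        · subst g'; simp [Ne.symm hjj] at h2
        · rfl)
      (by
        rw [Finset.card_sdiff_of_subset (by simp [Finset.insert_subset_iff, ha, ha']), Finset.card_pair haa]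
        obtain ⟨r, hr⟩ := ho
        exact ⟨r - 1, by omega⟩)
    rw [Finset.card_pair haa] at hc
    exact ih G' S' (by omega) hG' hN' (hc ▸ ho.add_even ⟨1, rfl⟩) (by omega)

/-- All factors nilpotent. -/
theorem exists_allN [Finite F] (h2 : (2 : F) ≠ 0) (ht : Odd (t + 1)) (hns : NSShear f M) :
    ∃ G, HasEl M G ∧ ∀ l, IsN f (G l) := by
  classical
  obtain ⟨G, i, l, hG, hpat, hi, hli, hl⟩ := exists_start hf C h2 hns
  obtain ⟨S, hS⟩ : ∃ S : Finset (Fin (t + 1)), ∀ j, j ∈ S ↔ G j ≠ 1 :=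
    ⟨Finset.univ.filter fun j => G j ≠ 1, fun j => by simp⟩
  have h2S : 2 ≤ S.card := Finset.one_lt_card.mpr ⟨l, (hS l).mpr hl, i, (hS i).mpr (not_one_of_isN hf hi), hli⟩
  obtain ⟨G', S', hG', hN', ho, -, hle⟩ := exists_grown hf C hperm h2 hG hpat hi hS h2S fun he h => by
    rw [h, Finset.card_univ, Fintype.card_fin] at he
    exact (Nat.not_even_iff_odd.mpr ht) he
  refine ⟨G', hG', fun m => hN'.1 m ?_⟩
  have hc : S'.card ≤ t + 1 := by simpa using Finset.card_le_univ S'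
  have : S'.card = t + 1 := by
    obtain ⟨a, ha⟩ := ho
    obtain ⟨b, hb⟩ := ht
    omega
  rw [Finset.card_eq_iff_eq_univ S' |>.mp (by simpa using this)]
  exact Finset.mem_univ m

end CfsgLib.Classical22.TPow
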