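/-
A non-scalar shear gives every isometry of an odd tensor power.
-/
import Cfsg.Agent.Lib.Classical22.TensorPower.Grow
import Cfsg.Agent.Lib.KnownSimple.RegUnipotentGen.SpGrow

set_option autoImplicit false
set_option linter.unusedSectionVars false
set_option linter.unusedSimpArgs false

namespace CfsgLib.Classical22.TPow

open Matrix Kronecker CfsgLib.Transvec CfsgLib.Classical22.TensorMax CfsgLib.Classical22.TensorMax.SympO
open CfsgLib.Classical22.TWMax
open scoped MatrixGroups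

variable {F : Type*} [Field F] {t k : ℕ} {f : (Fin k → F) → (Fin k → F) → F}

/-- The tensor power form. -/
noncomputable def pForm (f : (Fin k → F) → (Fin k → F) → F) (x y : Idx t k → F) : F := (pG t f *ᵥ y) ⬝ᵥ x

lemma pv_dot (xs ys : Fin t → Fin k → F) : pv xs ⬝ᵥ pv ys = ∏ i, xs i ⬝ᵥ ys i := by
  simp only [dotProduct, pv, ← Finset.prod_mul_distrib]
  exact (Fintype.prod_sum fun i j => xs i j * ys i j).symm

lemma iso_pForm_iff (g : GL (Idx t k) F) : PIso f g ↔ Transvec.Iso (pForm (t := t) f) g := by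
  have e : ∀ x y, pForm f (g.val *ᵥ x) (g.val *ᵥ y) = (((g.val)ᵀ * pG t f * g.val) *ᵥ y) ⬝ᵥ x := fun x y => by
    rw [pForm, mul_assoc, ← mulVec_mulVec, ← mulVec_mulVec, mulVec_transpose, ← dotProduct_mulVec]
  constructor
  · intro h x y
    rw [e, show (g.val)ᵀ * pG t f * g.val = pG t f from h]
    rfl
  · intro h
    refine Matrix.ext fun i j => ?_
    have := (e (Pi.single i 1) (Pi.single j 1)).symm.trans (h _ _)
    simpa [pForm, mulVec_single_one, dotProduct_single] using this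

variable (hf : Cfsg.Geo.IsSymplecticForm f)
include hf

lemma pForm_pv (xs ys : Fin t → Fin k → F) : pForm f (pv xs) (pv ys) = ∏ i, f (xs i) (ys i) := by
  rw [pForm, pG, tmat_mulVec, pv_dot]
  exact Finset.prod_congr rfl fun i _ => (form_eq_dot hf _ _).symm

lemma isSymplectic_pForm (h2 : (2 : F) ≠ 0) (ht : Odd t) : Cfsg.Geo.IsSymplecticForm (pForm (t := t) f) := by
  have hskew : ∀ x y : Idx t k → F, pForm f x y = -pForm f y x := fun x y => by
    rw [pForm, pForm, dotProduct_comm, dotProduct_mulVec, ← mulVec_transpose, pG_transpose hf, ht.neg_one_pow,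
      smul_mulVec, neg_one_smul, neg_dotProduct]
  refine ⟨⟨fun x y v => dotProduct_add _ _ _, fun c x v => by simp [pForm, dotProduct_smul],
    fun v x y => by simp [pForm, mulVec_add, add_dotProduct], fun c v x => by simp [pForm, mulVec_smul]⟩,
    hskew, fun v => ?_, fun v hv => ?_⟩
  · have := hskew v v
    rw [eq_neg_iff_add_eq_zero, ← two_mul, mul_eq_zero] at this
    exact this.resolve_left h2
  · have hex : ∃ w, pForm f v w ≠ 0 := by
      by_contra hall
      push Not at hall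
      refine hv (funext fun i => ?_)
      have := hall ((pG t f)⁻¹ *ᵥ Pi.single i 1)
      rw [pForm, mulVec_mulVec, Matrix.mul_nonsing_inv _ (pG_unit hf), one_mulVec, single_one_dotProduct] at this
      exact this
    obtain ⟨w, hw⟩ := hex
    exact ⟨⟨w, by rw [hskew]; exact neg_ne_zero.mpr hw⟩, ⟨w, hw⟩⟩

variable (hg : Cfsg.Geo.IsSymplecticForm (pForm (t := t + 1) f)) {M : Subgroup (GL (Idx (t + 1) k) F)} (C : PCtx f M)

lemma sT_pv_val (hg : Cfsg.Geo.IsSymplecticForm (pForm (t := t + 1) f)) (u : Fin (t + 1) → Fin k → F) (c : F) :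
    (sT (pForm (t := t + 1) f) (pv u) c).val = 1 + c • tmat fun l => outer f (u l) (u l) :=
  mat_ext_pv fun xs => by
    rw [sT_mulVec hg, pForm_pv hf, add_mulVec, one_mulVec, smul_mulVec, tmat_mulVec, mul_smul]
    congr 2
    funext a
    simp [pv, outer_mulVec hf, Finset.prod_mul_distrib]

include C

lemma move_slot {u w : Fin k → F} (hu : u ≠ 0) (hw : w ≠ 0) :
    ∃ τ : GL (Fin k) F, τ.val *ᵥ u = w ∧ ∀ l, slotEl l τ ∈ M := by
  have h1 : ∀ u w : Fin k → F, f u w ≠ 0 → ∃ τ : GL (Fin k) F, τ.val *ᵥ u = w ∧ ∀ l, slotEl l τ ∈ M :=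
    fun u w h => ⟨ptr f (w - u) (f u w)⁻¹, by
      rw [ptr_mulVec hf, Transvec.sub_right' hf, hf.alternating, sub_zero, inv_mul_cancel₀ h, one_smul,
        add_sub_cancel], fun l => C.root l _ _⟩
  obtain ⟨z, -, hz1, hz2⟩ := exists_avoid ⊤ (φ := fun z => f u z) (ψ := fun z => f z w)
    (fun x y => hf.bilinear.add_right u x y) (fun x y => hf.bilinear.add_left x y w)
    (by obtain ⟨z, hz⟩ := (hf.nondegenerate u hu).2; exact ⟨z, trivial, hz⟩)
    (by obtain ⟨z, hz⟩ := (hf.nondegenerate w hw).1; exact ⟨z, trivial, hz⟩)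
  obtain ⟨a, ha, ha'⟩ := h1 u z hz1
  obtain ⟨b, hb, hb'⟩ := h1 z w hz2
  exact ⟨b * a, by rw [Transvec.mul_mulVec, ha, hb], fun l => by rw [← slotEl_mul]; exact mul_mem (hb' l) (ha' l)⟩

include hg

variable (hperm : ∀ σ : Equiv.Perm (Fin (t + 1)), permGL σ ∈ M)
include hperm

/-- Every pure vector is a full centre. -/
theorem full_pv [Finite F] (h2 : (2 : F) ≠ 0) (ht : Odd (t + 1)) (hns : NSShear f M) {u : Fin (t + 1) → Fin k → F}
    (hu : ∀ l, u l ≠ 0) : Full (pForm (t := t + 1) f) M (pv u) := by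
  classical
  obtain ⟨G, ⟨c₀, hc₀, h, hh, he⟩, hN⟩ := exists_allN hf C hperm h2 ht hns
  choose u₀ hu₀ hG using hN
  have hmem : sT (pForm (t := t + 1) f) (pv u₀) c₀ ∈ M := by
    convert hh using 1
    refine Units.ext ?_
    rw [sT_pv_val hf hg, he, show G = fun l => outer f (u₀ l) (u₀ l) from funext hG]
  have hany : ∀ w : Fin (t + 1) → Fin k → F, (∀ l, w l ≠ 0) → sT (pForm (t := t + 1) f) (pv w) c₀ ∈ M := by
    intro w hw
    choose τ hτ hτM using fun l => move_slot hf C (hu₀ l) (hw l)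
    have hm : tGL τ ∈ M := tGL_mem fun l => hτM l l
    have := conj_sT_iso hg ((iso_pForm_iff _).mp (C.iso _ hm)) (pv u₀) c₀
    rw [tGL_apply, funext hτ] at this
    exact this ▸ mul_mem (mul_mem hm hmem) (inv_mem hm)
  have hsq : ∀ a : F, sT (pForm (t := t + 1) f) (pv u) (a ^ 2 * c₀) ∈ M := fun a => by
    by_cases ha : a = 0
    · rw [ha, zero_pow two_ne_zero, zero_mul, sT_zero hg]; exact M.one_mem
    obtain ⟨w, hw⟩ : ∃ w, w = Function.update u 0 (a • u 0) := ⟨_, rfl⟩
    have hpw : pv w = a • pv u := funext fun x => by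
      rw [Pi.smul_apply, pv, pv, Fin.prod_univ_succ, Fin.prod_univ_succ, hw, Function.update_self, Pi.smul_apply,
        smul_eq_mul, smul_eq_mul, mul_assoc]
      simp
    rw [← sT_smul hg, ← hpw]
    exact hany w fun l => by
      rw [hw]
      by_cases hl : l = 0
      · subst hl; simpa using smul_ne_zero ha (hu 0)
      · simpa [hl] using hu l
  intro c
  obtain ⟨a, ha⟩ : ∃ a, a = c / (4 * c₀) := ⟨_, rfl⟩
  have h4 : (4 : F) ≠ 0 := by
    rw [show (4 : F) = 2 * 2 by norm_num]; exact mul_ne_zero h2 h2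
  have e : c = (a + 1) ^ 2 * c₀ + -((a - 1) ^ 2 * c₀) := by rw [ha]; field_simp; ring
  rw [e, ← sT_mul hg, ← sT_inv hg]
  exact mul_mem (hsq _) (inv_mem (hsq _))

/-- Every vector is a full centre. -/
theorem full_all [Finite F] (h2 : (2 : F) ≠ 0) (hk : 0 < k) (ht : Odd (t + 1)) (hns : NSShear f M)
    (x : Idx (t + 1) k → F) : Full (pForm (t := t + 1) f) M x := by
  classical
  have h3 : ∃ a : F, a ≠ 0 ∧ a ≠ 1 := ⟨-1, by simp, fun h => h2 (by linear_combination -h)⟩
  obtain ⟨e, he⟩ : ∃ e : Fin k → F, e ≠ 0 := ⟨Pi.single ⟨0, hk⟩ 1, by simp⟩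
  obtain ⟨e', he'⟩ := (hf.nondegenerate e he).2
  obtain ⟨p, hp⟩ : ∃ p, p = pv (fun _ : Fin (t + 1) => e) := ⟨_, rfl⟩
  obtain ⟨q, hq⟩ : ∃ q, q = pv (fun _ : Fin (t + 1) => e') := ⟨_, rfl⟩
  have hfp : Full (pForm (t := t + 1) f) M p := hp ▸ full_pv hf hg C hperm h2 ht hns fun _ => he
  have hfq : Full (pForm (t := t + 1) f) M q := hq ▸ full_pv hf hg C hperm h2 ht hns fun _ h => he' (by
    rw [h]; exact Transvec.zero_right' hf e)
  have hpq : pForm f p q ≠ 0 := by
    rw [hp, hq, pForm_pv hf]; exact Finset.prod_ne_zero_iff.mpr fun _ _ => he'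
  -- enlarging
  suffices ∀ n, ∀ W : Submodule F (Idx (t + 1) k → F), Module.finrank F (Idx (t + 1) k → F) ≤ Module.finrank F W + n →
      CfsgLib.RegUnipotentGen.Sp.Good (pForm (t := t + 1) f) M W → p ∈ W → q ∈ W → Full (pForm (t := t + 1) f) M x by
    refine this (Module.finrank F (Idx (t + 1) k → F)) (Submodule.span F {p, q}) (by omega) ?_
      (Submodule.subset_span (by simp)) (Submodule.subset_span (by simp))
    rintro y ⟨hy, -⟩
    obtain ⟨a, b, rfl⟩ := Submodule.mem_span_pair.mp hy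
    rcases eq_or_ne a 0 with h | h
    · rw [h, zero_smul, zero_add]; exact full_smul hg hfq _
    · refine full_add_smul hg (full_smul hg hfp _) hfq ?_ _
      rw [smul_left' hg]; exact mul_ne_zero h hpq
  intro n
  induction n with
  | zero =>
    intro W hn hW hpW _
    rcases eq_or_ne x 0 with rfl | hx
    · exact full_zero hg
    have htop : W = ⊤ := Submodule.eq_top_of_finrank_eq (le_antisymm (Submodule.finrank_le W) (by simpa using hn))
    obtain ⟨y, hy⟩ := (hg.nondegenerate x hx).2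
    exact hW x ⟨htop ▸ trivial, y, htop ▸ trivial, hy⟩
  | succ n ih =>
    intro W hn hW hpW hqW
    by_cases htop : W = ⊤
    · rcases eq_or_ne x 0 with rfl | hx
      · exact full_zero hg
      obtain ⟨y, hy⟩ := (hg.nondegenerate x hx).2
      exact hW x ⟨htop ▸ trivial, y, htop ▸ trivial, hy⟩
    obtain ⟨xs, hxs, hxW⟩ : ∃ xs : Fin (t + 1) → Fin k → F, (∀ l, xs l ≠ 0) ∧ pv xs ∉ W := by
      by_contra hall
      push Not at hall
      refine htop (eq_top_iff.mpr fun v _ => ?_)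
      rw [pi_eq_sum_univ' v]
      exact W.sum_mem fun a _ => W.smul_mem _ (by rw [single_eq_pv]; exact hall _ fun l => by simp)
    obtain ⟨v, hv, hvW, hpair⟩ : ∃ v, Full (pForm (t := t + 1) f) M v ∧ v ∉ W ∧ ∃ y ∈ W, pForm f v y ≠ 0 := by
      have hz : ∀ l, ∃ z, f e z ≠ 0 ∧ f (xs l) z ≠ 0 := fun l => by
        obtain ⟨z, -, hz⟩ := exists_avoid ⊤ (φ := fun z => f e z) (ψ := fun z => f (xs l) z)
          (fun a b => hf.bilinear.add_right e a b) (fun a b => hf.bilinear.add_right _ a b)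
          ⟨e', trivial, he'⟩ (by obtain ⟨z, hz⟩ := (hf.nondegenerate _ (hxs l)).2; exact ⟨z, trivial, hz⟩)
        exact ⟨z, hz⟩
      choose z hz1 hz2 using hz
      have hz0 : ∀ l, z l ≠ 0 := fun l h => hz1 l (by rw [h]; exact Transvec.zero_right' hf e)
      by_cases hzW : pv z ∈ W
      · refine ⟨pv xs, full_pv hf hg C hperm h2 ht hns hxs, hxW, pv z, hzW, ?_⟩
        rw [pForm_pv hf]; exact Finset.prod_ne_zero_iff.mpr fun l _ => hz2 l
      · refine ⟨pv z, full_pv hf hg C hperm h2 ht hns hz0, hzW, p, hpW, ?_⟩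
        rw [hg.skew, hp, pForm_pv hf, neg_ne_zero]
        exact Finset.prod_ne_zero_iff.mpr fun l _ => hz1 l
    have hgood := CfsgLib.RegUnipotentGen.Sp.good_sup hg hW ⟨p, hpW, q, hqW, hpq⟩ (Or.inl h3) hv hpair
    refine ih _ ?_ hgood (Submodule.mem_sup_left hpW) (Submodule.mem_sup_left hqW)
    have hlt : Module.finrank F W < Module.finrank F ↥(W ⊔ Submodule.span F {v}) :=
      Submodule.finrank_lt_finrank_of_lt (lt_of_le_of_ne le_sup_left fun h => hvW (by
        rw [h]; exact Submodule.mem_sup_right (Submodule.mem_span_singleton_self v)))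
    omega

end CfsgLib.Classical22.TPow
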