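/-
Finite subgroups of the projective group containing the unipotents over a field of at least five elements.
-/
import Cfsg.Agent.Lib.Classical.Dickson.PGLClassify

set_option autoImplicit false
set_option linter.unusedSectionVars false
set_option linter.unusedSimpArgs false

namespace CfsgLib.Classical22.TPow.Dick

open Matrix CfsgLib.Transfer CfsgLib.Classical.Dickson
open scoped MatrixGroups

variable {K : Type*} [Field K]

/-- The image of the lower unitriangular matrix. -/
def low (z : K) : Matrix.ProjGenLinGroup (Fin 2) K :=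
  Matrix.ProjGenLinGroup.mk
    (Matrix.GeneralLinearGroup.mkOfDetNeZero !![1, 0; z, 1] (by simp [Matrix.det_fin_two]))

theorem low_smul_inf {z : K} (hz : z ≠ 0) :
    low z • (lineInf : Projectivization K (Fin 2 → K)) = linePt z⁻¹ := by
  rw [low, lineInf, linePt, Projectivization.PGL.mk_smul_mk, Projectivization.mk_eq_mk_iff']
  refine ⟨z, ?_⟩
  ext i
  fin_cases i <;> simp [Units.smul_def, Matrix.GeneralLinearGroup.mkOfDetNeZero, Matrix.smul_eq_mulVec,
    Matrix.mulVec, dotProduct, Fin.sum_univ_two, hz]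

variable {F : Type*} [Field F] (φ : F →+* K)

/-- The unipotents over `F`. -/
def uHom : Multiplicative F →* Matrix.ProjGenLinGroup (Fin 2) K :=
  MonoidHom.mk' (fun c => aff 1 (φ c.toAdd)) fun a b => by
    change aff 1 (φ (a * b).toAdd) = _
    rw [aff_mul, toAdd_mul, map_add, mul_one, Units.val_one, one_mul, add_comm]

lemma uHom_apply (c : F) : uHom φ (Multiplicative.ofAdd c) = aff 1 (φ c) := rfl

lemma tr_add (c d : F) : aff (1 : Kˣ) (φ (c + d)) = aff 1 (φ c) * aff 1 (φ d) := by
  rw [aff_mul, map_add, mul_one, Units.val_one, one_mul, add_comm]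

lemma tr_neg (c : F) : aff (1 : Kˣ) (φ (-c)) = (aff 1 (φ c))⁻¹ :=
  (inv_eq_of_mul_eq_one_right (by rw [← tr_add, add_neg_cancel, map_zero, aff_one])).symm

lemma uHom_injective : Function.Injective (uHom φ) := fun a b h =>
  Multiplicative.toAdd.injective (φ.injective (aff_inj h).2)

lemma card_range_uHom : Nat.card (uHom φ).range = Nat.card F :=
  Nat.card_congr (((uHom φ).ofInjective (uHom_injective φ)).symm.toEquiv.trans Multiplicative.toAdd)

variable [Fintype F] [IsAlgClosed K] (p : ℕ) [hp : Fact p.Prime] [CharP F p] [CharP K p]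

omit [IsAlgClosed K] [CharP K p] in
lemma dvd_card_field : p ∣ Nat.card F := by
  obtain ⟨n, -, hn⟩ := FiniteField.card F p
  rw [Nat.card_eq_fintype_card, hn]
  exact dvd_pow_self p n.pos.ne'

omit [IsAlgClosed K] in
lemma aff_commute_one {a : Kˣ} {b : K} (h : Commute (aff a b) (aff (1 : Kˣ) 1)) : a = 1 := by
  have e := h.eq
  rw [aff_mul, aff_mul] at e
  have := (aff_inj e).2
  rw [Units.val_one, one_mul, mul_one] at this
  exact Units.ext (by rw [Units.val_one]; linear_combination this)

/-- An element commuting with the unipotent and fixing nothing but infinity is a translation. -/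
lemma exists_translation {g : Matrix.ProjGenLinGroup (Fin 2) K} (h : Commute g (aff (1 : Kˣ) 1)) :
    ∃ b : K, g = aff 1 b := by
  have hfix : g • (lineInf : Projectivization K (Fin 2 → K)) = lineInf := by
    have h1 : aff (1 : Kˣ) (1 : K) • (g • (lineInf : Projectivization K (Fin 2 → K))) = g • lineInf := by
      rw [← mul_smul, ← h.eq, mul_smul, aff_smul_inf]
    have h2 : g • (lineInf : Projectivization K (Fin 2 → K)) ∈ fixSet (aff (1 : Kˣ) (1 : K)) := h1
    rwa [fixSet_aff_one one_ne_zero, Set.mem_singleton_iff] at h2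
  obtain ⟨a, b, rfl⟩ := exists_aff_of_fix_inf hfix
  exact ⟨b, by rw [aff_commute_one h]⟩

/-- A finite subgroup of order prime to `p` normalised by the unipotents is trivial. -/
theorem pprime_normalized_trivial (h5 : 5 ≤ Nat.card F) (hp2 : p ≠ 2)
    {N : Subgroup (Matrix.ProjGenLinGroup (Fin 2) K)} [Finite N] (hcop : ¬ p ∣ Nat.card N)
    (hnorm : ∀ c : F, ∀ n ∈ N, aff 1 (φ c) * n * (aff 1 (φ c))⁻¹ ∈ N) : N = ⊥ := by
  classical
  have hpe : ∀ b : K, aff (1 : Kˣ) b ∈ N → b = 0 := fun b hb => by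
    by_contra h0
    refine hcop ?_
    have ho : orderOf (⟨_, hb⟩ : N) = p := by
      refine orderOf_eq_prime (Subtype.ext ?_) fun h => h0 (aff_eq_one.mp (congrArg Subtype.val h)).2
      rw [SubmonoidClass.coe_pow, aff_one_pow, CharP.cast_eq_zero, zero_mul, aff_one]; rfl
    exact ho ▸ orderOf_dvd_natCard _
  have hdisj : ∀ c : F, aff 1 (φ c) ∈ N → c = 0 := fun c h => φ.injective ((hpe _ h).trans (map_zero φ).symm)
  -- the group generated
  obtain ⟨H, hH⟩ : ∃ H : Subgroup (Matrix.ProjGenLinGroup (Fin 2) K),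
      ∀ g, g ∈ H ↔ ∃ n ∈ N, ∃ c : F, g = n * aff 1 (φ c) :=
    ⟨{ carrier := {g | ∃ n ∈ N, ∃ c : F, g = n * aff 1 (φ c)}
       one_mem' := ⟨1, N.one_mem, 0, by rw [map_zero, aff_one, mul_one]⟩
       mul_mem' := by
        rintro _ _ ⟨n, hn, c, rfl⟩ ⟨m, hm, d, rfl⟩
        refine ⟨n * (aff 1 (φ c) * m * (aff 1 (φ c))⁻¹), mul_mem hn (hnorm c m hm), c + d, ?_⟩
        rw [tr_add φ c d]
        group
       inv_mem' := by
        rintro _ ⟨n, hn, c, rfl⟩
        refine ⟨aff 1 (φ (-c)) * n⁻¹ * (aff 1 (φ (-c)))⁻¹, hnorm _ _ (inv_mem hn), -c, ?_⟩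
        rw [tr_neg φ c]
        group }, fun g => Iff.rfl⟩
  obtain ⟨e, he⟩ : ∃ e : N × F → H, ∀ x, (e x : Matrix.ProjGenLinGroup (Fin 2) K) = x.1 * aff 1 (φ x.2) :=
    ⟨fun x => ⟨_, (hH _).mpr ⟨x.1, x.1.2, x.2, rfl⟩⟩, fun x => rfl⟩
  have hbij : Function.Bijective e := by
    refine ⟨fun x y h => ?_, fun g => ?_⟩
    · have h' := congrArg Subtype.val h
      rw [he, he] at h'
      have hm : aff 1 (φ (x.2 - y.2)) ∈ N := by
        have : aff (1 : Kˣ) (φ (x.2 - y.2)) = (x.1 : Matrix.ProjGenLinGroup (Fin 2) K)⁻¹ * y.1 := by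
          rw [sub_eq_add_neg, tr_add φ, tr_neg φ,
            mul_inv_eq_iff_eq_mul, mul_assoc, ← h', inv_mul_cancel_left]
        exact this ▸ mul_mem (inv_mem x.1.2) y.1.2
      have h2 := sub_eq_zero.mp (hdisj _ hm)
      refine Prod.ext (Subtype.ext ?_) h2
      rw [h2] at h'
      exact mul_right_cancel h'
    · obtain ⟨n, hn, c, hg⟩ := (hH g).mp g.2
      exact ⟨(⟨n, hn⟩, c), Subtype.ext (by rw [he, hg])⟩
  haveI : Finite H := Finite.of_surjective e hbij.2
  have hcard : Nat.card H = Nat.card N * Nat.card F := by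
    rw [← Nat.card_prod, Nat.card_congr (Equiv.ofBijective e hbij)]
  -- semiregular action
  letI : MulAction (Multiplicative F) {n : N // n ≠ 1} :=
    { smul := fun c n => ⟨⟨uHom φ c * n.1.1 * (uHom φ c)⁻¹, hnorm _ _ n.1.2⟩, fun h => n.2 (Subtype.ext
        (conj_eq_one_iff.mp (congrArg Subtype.val h)))⟩
      one_smul := fun n => Subtype.ext (Subtype.ext (show uHom φ 1 * n.1.1 * (uHom φ 1)⁻¹ = n.1.1 by simp))
      mul_smul := fun c d n => Subtype.ext (Subtype.ext (show uHom φ (c * d) * n.1.1 * (uHom φ (c * d))⁻¹ =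
        uHom φ c * (uHom φ d * n.1.1 * (uHom φ d)⁻¹) * (uHom φ c)⁻¹ by simp [mul_assoc])) }
  have hfree : ∀ n : {n : N // n ≠ 1}, MulAction.stabilizer (Multiplicative F) n = ⊥ := fun n => by
    refine (Subgroup.eq_bot_iff_forall _).mpr fun c hc => by_contra fun hc1 => ?_
    have h : uHom φ c * n.1.1 * (uHom φ c)⁻¹ = n.1.1 := congrArg (fun m : {n : N // n ≠ 1} => m.1.1) hc
    rw [mul_inv_eq_iff_eq_mul] at h
    have hc0 : φ c.toAdd ≠ 0 := fun h0 => hc1 (Multiplicative.toAdd.injective
      (by rw [toAdd_one]; exact φ.injective (by rw [h0, map_zero])))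
    -- the fixed point
    have hfix : n.1.1 • (lineInf : Projectivization K (Fin 2 → K)) = lineInf := by
      have h1 : uHom φ c • (n.1.1 • (lineInf : Projectivization K (Fin 2 → K))) = n.1.1 • lineInf := by
        rw [← mul_smul, h, mul_smul]
        exact congrArg _ (aff_smul_inf _ _)
      have h2 : n.1.1 • (lineInf : Projectivization K (Fin 2 → K)) ∈ fixSet (aff (1 : Kˣ) (φ c.toAdd)) := h1
      rwa [fixSet_aff_one hc0, Set.mem_singleton_iff] at h2
    obtain ⟨a, b, hab⟩ := exists_aff_of_fix_inf hfix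
    rw [show uHom φ c = aff 1 (φ c.toAdd) from rfl, hab, aff_mul, aff_mul] at h
    have e := (aff_inj h).2
    have ha : a = 1 := Units.ext (mul_right_cancel₀ hc0 (by
      rw [Units.val_one, one_mul] at e ⊢; linear_combination -e))
    rw [ha] at hab
    exact n.2 (Subtype.ext (hab.trans (by rw [hpe b (hab ▸ n.1.2), aff_one]; rfl)))
  have hmod : Nat.card F ∣ Nat.card N - 1 := by
    haveI : Fintype N := Fintype.ofFinite N
    have e := (MulAction.selfEquivSigmaOrbits (Multiplicative F) {n : N // n ≠ 1})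
    have hc := Nat.card_congr e
    rw [Nat.card_sigma] at hc
    have h1 : Nat.card {n : N // n ≠ 1} = Nat.card N - 1 := by
      rw [Nat.card_eq_fintype_card, Fintype.card_subtype_compl, Fintype.card_subtype_eq, Nat.card_eq_fintype_card]
    rw [← h1, hc]
    refine Finset.dvd_sum fun ω _ => ?_
    rw [Nat.card_congr (MulAction.orbitEquivQuotientStabilizer (Multiplicative F) _), hfree]
    rw [show Nat.card (Multiplicative F ⧸ (⊥ : Subgroup (Multiplicative F))) = Nat.card F from
      Subgroup.index_bot.trans (Nat.card_congr Multiplicative.toAdd)]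
  have hN0 : 0 < Nat.card N := Nat.card_pos
  by_contra hne
  have hN1 : 1 < Nat.card N := (Subgroup.one_lt_card_iff_ne_bot N).mpr hne
  have hqH : Nat.card F ∣ Nat.card H := Dvd.intro_left _ hcard.symm
  have hpH : ¬ (Nat.card H).Coprime p := fun h =>
    hp.out.coprime_iff_not_dvd.mp (Nat.coprime_comm.mp h) ((dvd_card_field p).trans hqH)
  have hmem : ∀ c : F, aff 1 (φ c) ∈ H := fun c => (hH _).mpr ⟨1, N.one_mem, c, (one_mul _).symm⟩
  have hodd : Odd (Nat.card F) := by
    obtain ⟨n, -, hn⟩ := FiniteField.card F p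
    rw [Nat.card_eq_fintype_card, hn]
    exact (hp.out.odd_of_ne_two hp2).pow
  rcases CfsgLib.Classical.Dickson.classify p H with
    ⟨-, h⟩ | ⟨n, -, hn, ⟨i⟩⟩ | ⟨z, hz, -⟩ | ⟨⟨i⟩⟩ | ⟨⟨i⟩⟩ | ⟨⟨i⟩⟩ | ⟨Q, k, -, hsyl, -, hc, hk⟩
  · exact hpH h
  · refine hpH ?_
    rw [Nat.card_congr i.toEquiv, DihedralGroup.nat_card]
    exact Nat.Coprime.mul_left (hp.out.coprime_iff_not_dvd.mpr (fun h => hp2
      ((Nat.prime_dvd_prime_iff_eq hp.out Nat.prime_two).mp h))).symm hn
  · -- a common fixed point
    have hzi : z = lineInf := by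
      have h1 := hz ⟨_, hmem 1⟩
      change aff (1 : Kˣ) (φ 1) • z = z at h1
      have : z ∈ fixSet (aff (1 : Kˣ) (φ (1 : F))) := h1
      rwa [fixSet_aff_one (by rw [map_one]; exact one_ne_zero), Set.mem_singleton_iff] at this
    subst hzi
    refine hne ((Subgroup.eq_bot_iff_forall N).mpr fun n hn => ?_)
    have hn' : n ∈ H := (hH _).mpr ⟨n, hn, 0, by rw [map_zero, aff_one, mul_one]⟩
    have hnfix := hz ⟨n, hn'⟩
    change n • (lineInf : Projectivization K (Fin 2 → K)) = lineInf at hnfix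
    obtain ⟨a, b, rfl⟩ := exists_aff_of_fix_inf hnfix
    have hcomm := mul_mem (hnorm 1 _ hn) (inv_mem hn)
    have e1 : aff 1 (φ (1 : F)) * aff a b * (aff 1 (φ (1 : F)))⁻¹ * (aff a b)⁻¹ = aff 1 (1 - (a : K)) := by
      rw [mul_inv_eq_iff_eq_mul, mul_inv_eq_iff_eq_mul, map_one, aff_mul, aff_mul, aff_mul, one_mul, mul_one]
      congr 1
      push_cast
      ring
    rw [e1] at hcomm
    have ha : a = 1 := Units.ext (by rw [Units.val_one]; linear_combination -(hpe _ hcomm))
    rw [ha] at hn ⊢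
    rw [hpe b hn, aff_one]
  · have := Nat.card_congr i.toEquiv
    rw [hcard, nat_card_alternatingGroup, Nat.card_fin] at this
    rcases Nat.even_or_odd (Nat.card F) with he | ho
    · exact (Nat.not_even_iff_odd.mpr hodd) he
    · obtain ⟨r, hr⟩ := ho
      have hd : Nat.card F ∣ 12 := Dvd.intro_left _ (this.trans rfl)
      have := Nat.le_of_dvd (by norm_num) hd
      interval_cases h : Nat.card F <;> omega
  · have := Nat.card_congr i.toEquiv
    rw [hcard, Nat.card_perm, Nat.card_fin] at this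
    have hd : Nat.card F ∣ 24 := Dvd.intro_left _ (this.trans rfl)
    obtain ⟨r, hr⟩ := hodd
    have := Nat.le_of_dvd (by norm_num) hd
    interval_cases h : Nat.card F <;> omega
  · have := Nat.card_congr i.toEquiv
    rw [hcard, nat_card_alternatingGroup, Nat.card_fin] at this
    have hd : Nat.card F ∣ 60 := Dvd.intro_left _ (this.trans rfl)
    have h60 : Nat.card N * Nat.card F = 60 := this.trans rfl
    obtain ⟨r, hr⟩ := hodd
    have := Nat.le_of_dvd (by norm_num) hd
    obtain ⟨j, hj⟩ := hmod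
    interval_cases h : Nat.card F <;> omega
  · obtain ⟨P⟩ : Nonempty (Sylow p H) := inferInstance
    have hQ : Q = Nat.card F := by
      obtain ⟨j, -, hj⟩ := FiniteField.card F p
      have hj' : Nat.card F = p ^ (j : ℕ) := by rw [Nat.card_eq_fintype_card, hj]
      rw [← hsyl P, Sylow.card_eq_multiplicity, hcard, hj']
      rw [Nat.factorization_mul hN0.ne' (pow_ne_zero _ hp.out.ne_zero), Finsupp.add_apply,
        Nat.factorization_eq_zero_of_not_dvd hcop, hp.out.factorization_pow, Finsupp.single_eq_same, zero_add]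
    subst hQ
    rw [hcard, mul_comm (Nat.card N), mul_assoc] at hc
    have hN : Nat.card N = (Nat.card F + 1) * k := Nat.eq_of_mul_eq_mul_left (by omega) hc
    obtain ⟨j, hj⟩ := hmod
    have e1 : (Nat.card F + 1) * k = Nat.card F * j + 1 := by omega
    have hdk : (Nat.card F : ℤ) ∣ (k : ℤ) - 1 :=
      ⟨(j : ℤ) - k, by
        have : ((Nat.card F : ℤ) + 1) * k = Nat.card F * j + 1 := by exact_mod_cast e1
        linear_combination this⟩
    rcases hk with hk | hk
    · have h2 : (Nat.card F : ℤ) ∣ 2 := by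
        have : (k : ℤ) = Nat.card F - 1 := by omega
        obtain ⟨d, hd⟩ := hdk
        exact ⟨1 - d, by linear_combination this - hd⟩
      have := Int.le_of_dvd (by norm_num) h2
      omega
    · have h3 : (Nat.card F : ℤ) ∣ 3 := by
        have : 2 * (k : ℤ) = Nat.card F - 1 := by omega
        obtain ⟨d, hd⟩ := hdk
        exact ⟨1 - 2 * d, by linear_combination this - 2 * hd⟩
      have := Int.le_of_dvd (by norm_num) h3
      omega

/-- With Sylow subgroups no larger than the unipotents the lower parameter is rational. -/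
theorem param_rational (h5 : 5 ≤ Nat.card F) (hp2 : p ≠ 2) {G : Subgroup (Matrix.ProjGenLinGroup (Fin 2) K)}
    [Finite G] {l : K} (hl : l ≠ 0) (hu : ∀ c : F, aff 1 (φ c) ∈ G) (hlow : ∀ c : F, low (φ c * l) ∈ G)
    (hsylow : ∀ P : Subgroup G, IsPGroup p P → Nat.card P ≤ Nat.card F) : ∃ a : F, φ a = l := by
  classical
  have hq0 : 0 < Nat.card F := by omega
  obtain ⟨U, hU⟩ : ∃ U : Subgroup G, U = (uHom φ).range.subgroupOf G := ⟨_, rfl⟩
  have hle : (uHom φ).range ≤ G := by rintro _ ⟨c, rfl⟩; exact hu _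
  have hUmem : ∀ g : G, g ∈ U ↔ ∃ c : F, (g : Matrix.ProjGenLinGroup (Fin 2) K) = aff 1 (φ c) := fun g => by
    rw [hU, Subgroup.mem_subgroupOf]
    exact ⟨fun ⟨c, hc⟩ => ⟨c.toAdd, hc.symm⟩, fun ⟨c, hc⟩ => ⟨.ofAdd c, hc.symm⟩⟩
  have hUcard : Nat.card U = Nat.card F := by
    rw [hU, Nat.card_congr (Subgroup.subgroupOfEquivOfLe hle).toEquiv, card_range_uHom]
  have hUp : IsPGroup p U := by
    obtain ⟨n, -, hn⟩ := FiniteField.card F p
    exact IsPGroup.of_card (n := n) (by rw [hUcard, Nat.card_eq_fintype_card, hn])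
  obtain ⟨P, hP⟩ := hUp.exists_le_sylow
  have hPU : (P : Subgroup G) = U := (Subgroup.eq_of_le_of_card_ge hP (hUcard ▸ hsylow _ P.isPGroup')).symm
  -- the stabiliser of infinity is the normaliser
  have hone : (⟨_, hu 1⟩ : G) ∈ U := (hUmem _).mpr ⟨1, rfl⟩
  have hstab : MulAction.stabilizer G (lineInf : Projectivization K (Fin 2 → K)) =
      Subgroup.normalizer (P : Set G) := by
    refine le_antisymm ?_ fun g hg => ?_
    · obtain ⟨V, k, -, hVmem, hVp, -, -, -, -, -, hnorm⟩ :=
        exists_stab_data p G (lineInf : Projectivization K (Fin 2 → K))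
      have hUV : U ≤ V := fun g hg => (hVmem g).mpr (by
        obtain ⟨c, hc⟩ := (hUmem g).mp hg
        by_cases h0 : c = 0
        · exact Or.inl (Subtype.ext (by rw [hc, h0, map_zero, aff_one]; rfl))
        · exact Or.inr (by rw [hc]; exact fixSet_aff_one fun h => h0 (φ.injective (h.trans (map_zero φ).symm))))
      have hVU : V = U := (Subgroup.eq_of_le_of_card_ge hUV (hUcard ▸ hsylow V hVp)).symm
      rw [show (P : Set G) = ((P : Subgroup G) : Set G) from rfl, hPU, ← hVU]
      exact hnorm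
    · rw [show (P : Set G) = ((P : Subgroup G) : Set G) from rfl, hPU] at hg
      have h1 := (Subgroup.mem_normalizer_iff''.mp hg _).mp hone
      obtain ⟨c, hc⟩ := (hUmem _).mp h1
      rw [Subgroup.coe_mul, Subgroup.coe_mul, Subgroup.coe_inv] at hc
      refine MulAction.mem_stabilizer_iff.mpr ?_
      have hf : ((g : Matrix.ProjGenLinGroup (Fin 2) K) • (lineInf : Projectivization K (Fin 2 → K))) ∈
          fixSet (aff (1 : Kˣ) (φ (1 : F))) := by
        change aff (1 : Kˣ) (φ (1 : F)) • _ = _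
        rw [← mul_smul, show aff (1 : Kˣ) (φ (1 : F)) * (g : Matrix.ProjGenLinGroup (Fin 2) K) =
          (g : Matrix.ProjGenLinGroup (Fin 2) K) * aff 1 (φ c) by rw [← hc]; group, mul_smul, aff_smul_inf]
      rw [fixSet_aff_one (by rw [map_one]; exact one_ne_zero)] at hf
      exact hf
  have horb : Nat.card (MulAction.orbit G (lineInf : Projectivization K (Fin 2 → K))) = Nat.card (Sylow p G) := by
    rw [P.card_eq_index_normalizer, ← hstab, MulAction.index_stabilizer, Nat.card_coe_set_eq]
  have hne : Nat.card (Sylow p G) ≠ 1 := fun h => by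
    rw [h] at horb
    obtain ⟨hs, -⟩ := Nat.card_eq_one_iff_unique.mp horb
    have h1 := congrArg Subtype.val (Subsingleton.elim
      (⟨_, MulAction.mem_orbit (lineInf : Projectivization K (Fin 2 → K)) (⟨_, hlow 1⟩ : G)⟩ :
        MulAction.orbit G (lineInf : Projectivization K (Fin 2 → K)))
      ⟨_, MulAction.mem_orbit_self _⟩)
    change low (φ 1 * l) • (lineInf : Projectivization K (Fin 2 → K)) = lineInf at h1
    rw [map_one, one_mul, low_smul_inf hl] at h1
    exact lineInf_ne_linePt _ h1.symm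
  have hnp : Nat.card (Sylow p G) = Nat.card F + 1 := by
    have hqG : Nat.card F ∣ Nat.card G := hUcard ▸ Subgroup.card_subgroup_dvd_card U
    have hpG : ¬ (Nat.card G).Coprime p := fun h =>
      hp.out.coprime_iff_not_dvd.mp (Nat.coprime_comm.mp h) ((dvd_card_field p).trans hqG)
    have hodd : Odd (Nat.card F) := by
      obtain ⟨n, -, hn⟩ := FiniteField.card F p
      rw [Nat.card_eq_fintype_card, hn]
      exact (hp.out.odd_of_ne_two hp2).pow
    rcases CfsgLib.Classical.Dickson.classify p G with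
      ⟨-, h⟩ | ⟨n, -, hn, ⟨i⟩⟩ | ⟨z, hz, -⟩ | ⟨⟨i⟩⟩ | ⟨⟨i⟩⟩ | ⟨⟨i⟩⟩ | ⟨Q, k, -, hsyl, hm, -, -⟩
    · exact absurd h hpG
    · refine absurd ?_ hpG
      rw [Nat.card_congr i.toEquiv, DihedralGroup.nat_card]
      exact Nat.Coprime.mul_left (hp.out.coprime_iff_not_dvd.mpr (fun h => hp2
        ((Nat.prime_dvd_prime_iff_eq hp.out Nat.prime_two).mp h))).symm hn
    · exfalso
      have h1 : z ∈ fixSet (aff (1 : Kˣ) (φ (1 : F))) := hz ⟨_, hu 1⟩
      rw [fixSet_aff_one (by rw [map_one]; exact one_ne_zero), Set.mem_singleton_iff] at h1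
      subst h1
      have h2 : low (φ 1 * l) • (lineInf : Projectivization K (Fin 2 → K)) = lineInf := hz ⟨_, hlow 1⟩
      rw [map_one, one_mul, low_smul_inf hl] at h2
      exact lineInf_ne_linePt _ h2.symm
    · exfalso
      rw [Nat.card_congr i.toEquiv, nat_card_alternatingGroup, Nat.card_fin] at hqG
      obtain ⟨r, hr⟩ := hodd
      have hd : Nat.card F ∣ 12 := by simpa [Nat.factorial] using hqG
      have := Nat.le_of_dvd (by norm_num) hd
      interval_cases h : Nat.card F <;> omega
    · exfalso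
      rw [Nat.card_congr i.toEquiv, Nat.card_perm, Nat.card_fin] at hqG
      obtain ⟨r, hr⟩ := hodd
      have hd : Nat.card F ∣ 24 := by simpa [Nat.factorial] using hqG
      have := Nat.le_of_dvd (by norm_num) hd
      interval_cases h : Nat.card F <;> omega
    · have hcard : Nat.card G = 60 := by
        rw [Nat.card_congr i.toEquiv, nat_card_alternatingGroup, Nat.card_fin]; rfl
      rw [hcard] at hqG
      have hq5 : Nat.card F = 5 := by
        obtain ⟨n, -, hn⟩ := FiniteField.card F p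
        obtain ⟨r, hr⟩ := hodd
        have hle := Nat.le_of_dvd (by norm_num) hqG
        have h15 : Nat.card F ≠ 15 := fun h => by
          have h' : p ^ (n : ℕ) = 15 := by rw [← hn, ← Nat.card_eq_fintype_card, h]
          have e3 := (Nat.prime_dvd_prime_iff_eq Nat.prime_three hp.out).mp
            (Nat.prime_three.dvd_of_dvd_pow (n := (n : ℕ)) (by rw [h']; norm_num))
          have e5 := (Nat.prime_dvd_prime_iff_eq Nat.prime_five hp.out).mp
            (Nat.prime_five.dvd_of_dvd_pow (n := (n : ℕ)) (by rw [h']; norm_num))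
          omega
        interval_cases h : Nat.card F <;> omega
      have hdvd := P.card_dvd_index
      have hidx : (P : Subgroup G).index = 12 := by
        have := (P : Subgroup G).card_mul_index
        rw [hPU, hUcard, hq5, hcard] at this
        rw [hPU]; omega
      rw [hidx] at hdvd
      have hp5 : p = 5 := (Nat.prime_dvd_prime_iff_eq hp.out Nat.prime_five).mp (hq5 ▸ dvd_card_field p)
      have hmodp := card_sylow_modEq_one p G
      rw [hp5] at hmodp hne hdvd ⊢
      have := Nat.le_of_dvd (by norm_num) hdvd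
      rw [hq5]
      unfold Nat.ModEq at hmodp
      interval_cases h : Nat.card (Sylow 5 G) <;> omega
    · rw [hm, ← hsyl P, hPU, hUcard]
  rw [hnp] at horb
  -- the orbit
  obtain ⟨S, hS⟩ : ∃ S : Set (Projectivization K (Fin 2 → K)),
      S = insert lineInf (Set.range fun c : F => linePt (l⁻¹ + φ c)) := ⟨_, rfl⟩
  have hsub : S ⊆ MulAction.orbit G (lineInf : Projectivization K (Fin 2 → K)) := by
    rw [hS]
    rintro x (rfl | ⟨c, rfl⟩)
    · exact MulAction.mem_orbit_self _
    · refine ⟨⟨_, mul_mem (hu c) (hlow 1)⟩, ?_⟩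
      change (aff 1 (φ c) * low (φ 1 * l)) • (lineInf : Projectivization K (Fin 2 → K)) = linePt (l⁻¹ + φ c)
      rw [mul_smul, map_one, one_mul, low_smul_inf hl, aff_smul_pt, Units.val_one, one_mul]
  have hfin : (MulAction.orbit G (lineInf : Projectivization K (Fin 2 → K))).Finite :=
    Set.finite_range fun h : G => h • (lineInf : Projectivization K (Fin 2 → K))
  have heq : S = MulAction.orbit G (lineInf : Projectivization K (Fin 2 → K)) := by
    refine Set.eq_of_subset_of_ncard_le hsub ?_ hfin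
    have hr : (Set.range fun c : F => linePt (l⁻¹ + φ c)).ncard = Nat.card F :=
      Set.ncard_range_of_injective fun a b h => φ.injective (add_left_cancel (linePt_inj h))
    have hnot : (lineInf : Projectivization K (Fin 2 → K)) ∉ Set.range fun c : F => linePt (l⁻¹ + φ c) := by
      rintro ⟨c, hc⟩
      exact lineInf_ne_linePt _ hc.symm
    rw [← Nat.card_coe_set_eq, horb, hS, Set.ncard_insert_of_notMem hnot (Set.finite_range _), hr]
  have h2F : (2 : F) ≠ 0 := fun h => hp2 ((Nat.prime_dvd_prime_iff_eq hp.out Nat.prime_two).mp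
    ((CharP.cast_eq_zero_iff F p 2).mp (by exact_mod_cast h)))
  have hmem : linePt (φ 2 * l)⁻¹ ∈ S := by
    rw [heq]
    exact ⟨⟨_, hlow 2⟩, low_smul_inf (mul_ne_zero (by rwa [Ne, ← map_zero φ, φ.injective.eq_iff]) hl)⟩
  rw [hS] at hmem
  rcases hmem with h | ⟨c, hc⟩
  · exact absurd h.symm (lineInf_ne_linePt _)
  · have e := linePt_inj hc
    have h20 : φ 2 ≠ 0 := by rwa [Ne, ← map_zero φ, φ.injective.eq_iff]
    rw [mul_inv, map_ofNat] at e
    have h2K : (2 : K) ≠ 0 := by rwa [← map_ofNat φ]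
    have hc' : φ c = -(2 * l)⁻¹ := by
      field_simp at e ⊢
      linear_combination e
    have hc0 : c ≠ 0 := fun h0 => by
      rw [h0, map_zero, eq_comm, neg_eq_zero, inv_eq_zero] at hc'
      exact mul_ne_zero h2K hl hc'
    refine ⟨-(2 * c)⁻¹, ?_⟩
    rw [map_neg, map_inv₀, map_mul, map_ofNat, hc']
    field_simp

end CfsgLib.Classical22.TPow.Dick
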