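/-
Special linear groups of degree two over finite commutative algebras: residues.
-/
import Cfsg.Agent.Lib.Classical22.TensorPower.Dick

set_option autoImplicit false
set_option linter.unusedSectionVars false
set_option linter.unusedSimpArgs false

namespace CfsgLib.Classical22.TPow.SLRing

open Matrix CfsgLib.Classical.Dickson CfsgLib.Classical22.TPow.Dick
open scoped MatrixGroups

variable {F : Type*} [Field F] {A : Type*} [CommRing A] [Algebra F A]

/-- The upper unitriangular element. -/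
def xA (a : A) : SL(2, A) := ⟨!![1, a; 0, 1], by simp [Matrix.det_fin_two]⟩

/-- The lower unitriangular element. -/
def yA (a : A) : SL(2, A) := ⟨!![1, 0; a, 1], by simp [Matrix.det_fin_two]⟩

lemma commute_xA {g : SL(2, A)} (h : Commute g (xA 1)) : g.1 1 0 = 0 ∧ g.1 1 1 = g.1 0 0 := by
  have e := congrArg Subtype.val h.eq
  rw [Matrix.SpecialLinearGroup.coe_mul, Matrix.SpecialLinearGroup.coe_mul] at e
  have e00 := congrFun (congrFun e 0) 0
  have e01 := congrFun (congrFun e 0) 1
  simp [xA, Matrix.mul_apply, Fin.sum_univ_two] at e00 e01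
  constructor
  · exact e00
  · linear_combination -e01

/-- An element of `p`-power order commuting with a unipotent is a unipotent. -/
theorem eq_xA_of_commute (p : ℕ) [Fact p.Prime] (hp2 : p ≠ 2) {g : SL(2, A)} (h : Commute g (xA 1)) {k : ℕ}
    (hk : g ^ p ^ k = 1) : g = xA (g.1 0 1) := by
  obtain ⟨h10, h11⟩ := commute_xA h
  have hdet := g.2
  rw [Matrix.det_fin_two, h10, h11, mul_zero, sub_zero] at hdet
  have hpow : ∀ n : ℕ, (g.1 ^ n) 0 0 = g.1 0 0 ^ n ∧ (g.1 ^ n) 1 0 = 0 := fun n => by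
    induction n with
    | zero => simp
    | succ n ih =>
      rw [pow_succ]
      simp [Matrix.mul_apply, Fin.sum_univ_two, ih.1, ih.2, h10, pow_succ]
  have h1 := (hpow (p ^ k)).1
  rw [← Matrix.SpecialLinearGroup.coe_pow, hk, Matrix.SpecialLinearGroup.coe_one, Matrix.one_apply_eq] at h1
  obtain ⟨r, hr⟩ := ((Fact.out : p.Prime).odd_of_ne_two hp2).pow (n := k)
  rw [hr, pow_succ, pow_mul, pow_two, hdet, one_pow, one_mul] at h1
  ext i j
  fin_cases i <;> fin_cases j <;> simp [xA, h10, h11, ← h1]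

variable {K : Type*} [Field K]

/-- The projective image under a residue map. -/
noncomputable def res (ψ : A →+* K) : SL(2, A) →* Matrix.ProjGenLinGroup (Fin 2) K :=
  (Matrix.ProjGenLinGroup.mk).comp ((Matrix.SpecialLinearGroup.toGL).comp (Matrix.SpecialLinearGroup.map ψ))

lemma map_entry (ψ : A →+* K) (g : SL(2, A)) (i j : Fin 2) :
    (Matrix.SpecialLinearGroup.map ψ g).1 i j = ψ (g.1 i j) := rfl

lemma res_apply (ψ : A →+* K) (g : SL(2, A)) : res ψ g =
    Matrix.ProjGenLinGroup.mk (Matrix.SpecialLinearGroup.toGL (Matrix.SpecialLinearGroup.map ψ g)) := rfl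

lemma res_xA (ψ : A →+* K) (a : A) : res ψ (xA a) = aff 1 (ψ a) := by
  rw [aff, res_apply]
  congr 1
  refine Units.ext ?_
  ext i j
  change ψ ((!![1, a; 0, 1] : Matrix (Fin 2) (Fin 2) A) i j) =
    (!![((1 : Kˣ) : K), ψ a; 0, 1] : Matrix (Fin 2) (Fin 2) K) i j
  fin_cases i <;> fin_cases j <;> simp

lemma res_yA (ψ : A →+* K) (a : A) : res ψ (yA a) = low (ψ a) := by
  rw [low, res_apply]
  congr 1
  refine Units.ext ?_
  ext i j
  change ψ ((!![1, 0; a, 1] : Matrix (Fin 2) (Fin 2) A) i j) =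
    (!![1, 0; ψ a, 1] : Matrix (Fin 2) (Fin 2) K) i j
  fin_cases i <;> fin_cases j <;> simp

lemma res_eq_one (ψ : A →+* K) {g : SL(2, A)} :
    res ψ g = 1 ↔ ψ (g.1 1 0) = 0 ∧ ψ (g.1 0 1) = 0 ∧ ψ (g.1 0 0) = ψ (g.1 1 1) := by
  rw [res_apply]
  rw [← map_one Matrix.ProjGenLinGroup.mk, Matrix.ProjGenLinGroup.mk_eq_mk_iff]
  constructor
  · rintro ⟨u, hu⟩
    have e10 := congrArg (fun M : GL (Fin 2) K => M.val 1 0) hu
    have e01 := congrArg (fun M : GL (Fin 2) K => M.val 0 1) hu
    have e00 := congrArg (fun M : GL (Fin 2) K => M.val 0 0) hu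
    have e11 := congrArg (fun M : GL (Fin 2) K => M.val 1 1) hu
    simp [Matrix.mul_apply, Fin.sum_univ_two, Matrix.scalar_apply] at e10 e01 e00 e11
    refine ⟨by first | exact e10 | exact e10.resolve_left u.ne_zero | simpa using e10,
      by first | exact e01 | exact e01.resolve_left u.ne_zero | simpa using e01, ?_⟩
    first
    | exact mul_left_cancel₀ u.ne_zero (e00.trans e11.symm)
    | exact mul_right_cancel₀ u.ne_zero (e00.trans e11.symm)
    | (rw [e00, e11])
  · rintro ⟨h10, h01, h00⟩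
    have hdet := congrArg ψ g.2
    rw [Matrix.det_fin_two, map_sub, map_mul, map_mul, h10, h01, mul_zero, sub_zero, ← h00, map_one] at hdet
    have hu : ψ (g.1 0 0) ≠ 0 := fun h => by rw [h, zero_mul] at hdet; exact zero_ne_one hdet
    refine ⟨Units.mk0 _ hu, Units.ext ?_⟩
    ext i j
    fin_cases i <;> fin_cases j <;>
      simp [Matrix.mul_apply, Fin.sum_univ_two, Matrix.scalar_apply, h10, h01, ← h00, hdet]

variable [Fintype F] [Finite A] (p : ℕ) [hp : Fact p.Prime] [CharP F p]

/-- Elements prime to `p` normalised by the unipotents are scalar at every residue. -/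
theorem res_trivial (h5 : 5 ≤ Nat.card F) (hp2 : p ≠ 2) [IsAlgClosed K] (ψ : A →+* K) {N : Subgroup SL(2, A)}
    (hcop : ¬ p ∣ Nat.card N) (hnorm : ∀ c : F, ∀ n ∈ N, xA (algebraMap F A c) * n * (xA (algebraMap F A c))⁻¹ ∈ N)
    {n : SL(2, A)} (hn : n ∈ N) : res ψ n = 1 := by
  haveI : CharP K p := charP_of_injective_ringHom (ψ.comp (algebraMap F A)).injective p
  haveI : Finite (N.map (res ψ)) := Finite.of_surjective _ ((res ψ).subgroupMap_surjective N)
  have h := pprime_normalized_trivial (ψ.comp (algebraMap F A)) p h5 hp2 (N := N.map (res ψ))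
    (fun hd => hcop (hd.trans (Subgroup.card_map_dvd _ _))) (fun c y hy => by
      obtain ⟨y, hy, rfl⟩ := hy
      rw [RingHom.comp_apply, ← res_xA, ← map_inv, ← map_mul, ← map_mul]
      exact ⟨_, hnorm c y hy, rfl⟩)
  have := h ▸ (show res ψ n ∈ N.map (res ψ) from ⟨n, hn, rfl⟩)
  exact Subgroup.mem_bot.mp this

/-- A nilpotent `2 × 2` matrix from nilpotent entries. -/
lemma isNilpotent_of_entries {Z : Matrix (Fin 2) (Fin 2) A} (h : ∀ i j, IsNilpotent (Z i j)) : IsNilpotent Z := by
  have e : Z * Z = (Z 0 0 + Z 1 1) • Z + (Z 0 1 * Z 1 0 - Z 0 0 * Z 1 1) • (1 : Matrix (Fin 2) (Fin 2) A) := by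
    ext i j
    fin_cases i <;> fin_cases j <;> simp [Matrix.mul_apply, Fin.sum_univ_two] <;> ring
  have hs : ∀ (a : A) (W : Matrix (Fin 2) (Fin 2) A), IsNilpotent a → IsNilpotent (a • W) := fun a W ⟨n, hn⟩ =>
    ⟨n, by rw [smul_pow, hn, zero_smul]⟩
  have h1 : IsNilpotent (Z * Z) := by
    rw [e]
    refine Commute.isNilpotent_add ?_ (hs _ _ ((Commute.all _ _).isNilpotent_add (h 0 0) (h 1 1)))
      (hs _ _ ((Commute.all _ _).isNilpotent_sub ((Commute.all _ _).isNilpotent_mul_right (h 0 1))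
        ((Commute.all _ _).isNilpotent_mul_right (h 0 0))))
    exact ((Commute.one_right Z).smul_left _).smul_right _
  obtain ⟨n, hn⟩ := h1
  exact ⟨2 * n, by rw [pow_mul, pow_two, hn]⟩

/-- Elements prime to `p` normalised by the unipotents commute with whatever normalises them. -/
theorem commute_of_pprime (h5 : 5 ≤ Nat.card F) (hp2 : p ≠ 2) {N : Subgroup SL(2, A)} (hcop : ¬ p ∣ Nat.card N)
    (hnorm : ∀ c : F, ∀ n ∈ N, xA (algebraMap F A c) * n * (xA (algebraMap F A c))⁻¹ ∈ N)
    {n z : SL(2, A)} (hn : n ∈ N) (hz : z * n⁻¹ * z⁻¹ ∈ N) : Commute n z := by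
  obtain ⟨d, hd⟩ : ∃ d, d = n * (z * n⁻¹ * z⁻¹) := ⟨_, rfl⟩
  have hdN : d ∈ N := hd ▸ mul_mem hn hz
  have hnil : ∀ i j, IsNilpotent ((d.1 - 1) i j) := by
    intro i j
    rw [nilpotent_iff_mem_prime]
    intro J hJ
    haveI : Finite (A ⧸ J) := Finite.of_surjective _ Ideal.Quotient.mk_surjective
    haveI : J.IsMaximal := Ideal.Quotient.maximal_of_isField J (Finite.isField_of_domain (A ⧸ J))
    letI : Field (A ⧸ J) := Ideal.Quotient.field J
    obtain ⟨ψ, hψ⟩ : ∃ ψ : A →+* AlgebraicClosure (A ⧸ J), ∀ a, ψ a = 0 ↔ a ∈ J :=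
      ⟨(algebraMap (A ⧸ J) (AlgebraicClosure (A ⧸ J))).comp (Ideal.Quotient.mk J), fun a => by
        rw [RingHom.comp_apply, map_eq_zero, Ideal.Quotient.eq_zero_iff_mem]⟩
    obtain ⟨h10, h01, h00⟩ := (res_eq_one ψ).mp (res_trivial p h5 hp2 ψ hcop hnorm hn)
    have hcomm : Matrix.SpecialLinearGroup.map ψ n * Matrix.SpecialLinearGroup.map ψ z =
        Matrix.SpecialLinearGroup.map ψ z * Matrix.SpecialLinearGroup.map ψ n := by
      ext a b
      rw [Matrix.SpecialLinearGroup.coe_mul, Matrix.SpecialLinearGroup.coe_mul]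
      fin_cases a <;> fin_cases b <;> simp [Matrix.mul_apply, Fin.sum_univ_two, h10, h01, h00] <;> ring
    have hd1 : Matrix.SpecialLinearGroup.map ψ d = 1 := by
      rw [hd, map_mul, map_mul, map_mul, map_inv, map_inv, ← mul_assoc, ← mul_assoc, hcomm, mul_inv_cancel_right,
        mul_inv_cancel]
    have he := congrFun (congrFun (congrArg Subtype.val hd1) i) j
    rw [← hψ, Matrix.sub_apply, map_sub, sub_eq_zero]
    refine he.trans ?_
    rw [Matrix.SpecialLinearGroup.coe_one]
    fin_cases i <;> fin_cases j <;> simp [Matrix.one_apply]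
  have hd1 : d = 1 := by
    obtain ⟨r, hr⟩ := isNilpotent_of_entries hnil
    have hpow : d ^ p ^ r = 1 := by
      refine Subtype.ext ?_
      rw [Matrix.SpecialLinearGroup.coe_pow, Matrix.SpecialLinearGroup.coe_one]
      rcases subsingleton_or_nontrivial A with hA | hA
      · exact Subsingleton.elim _ _
      haveI : CharP A p := charP_of_injective_algebraMap (algebraMap F A).injective p
      haveI : CharP (Matrix (Fin 2) (Fin 2) A) p := Matrix.charP p
      rw [← sub_eq_zero]
      have e := sub_pow_char_pow_of_commute p r (Commute.one_right d.1)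
      rw [one_pow] at e
      rw [← e]
      exact pow_eq_zero_of_le (Nat.lt_pow_self hp.out.one_lt).le hr
    have hord : orderOf (⟨d, hdN⟩ : N) ∣ p ^ r := orderOf_dvd_of_pow_eq_one (Subtype.ext hpow)
    obtain ⟨s, -, hs⟩ := (Nat.dvd_prime_pow hp.out).mp hord
    rcases s with - | s
    · rw [pow_zero, orderOf_eq_one_iff] at hs
      exact congrArg Subtype.val hs
    · exact absurd ((dvd_pow_self p s.succ_ne_zero).trans (hs ▸ orderOf_dvd_natCard _)) hcop
  rw [hd, ← mul_assoc, ← mul_assoc, mul_inv_eq_one, mul_inv_eq_iff_eq_mul] at hd1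
  exact hd1

end CfsgLib.Classical22.TPow.SLRing
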