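/-
Two one-parameter groups of square-zero unipotents without exotic shears have scalar composite.
-/
import Cfsg.Agent.Lib.Classical22.TensorPower.SLRing
import Cfsg.Agent.Lib.Classical22.UnitTensor.PGroup

set_option autoImplicit false
set_option linter.unusedSectionVars false
set_option linter.unusedSimpArgs false

namespace CfsgLib.Classical22.TPow.SLRing

open Matrix Polynomial CfsgLib.Classical.Dickson CfsgLib.Classical22.TPow.Dick
open CfsgLib.Classical22.TensorMax.UnitT (chain chain_succ_le chain_even_le)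
open scoped MatrixGroups

section Monoid

/-- Some power in a finite monoid is idempotent. -/
lemma exists_idem_pow {R : Type*} [Monoid R] [Finite R] (x : R) : ∃ M, 0 < M ∧ x ^ M * x ^ M = x ^ M := by
  obtain ⟨i, j, hij, he⟩ := Finite.exists_ne_map_eq_of_infinite (fun n : ℕ => x ^ n)
  wlog hlt : i < j generalizing i j
  · exact this j i hij.symm he.symm (by omega)
  obtain ⟨d, hd, rfl⟩ : ∃ d, 0 < d ∧ j = i + d := ⟨j - i, by omega, by omega⟩
  have hper : ∀ n, i ≤ n → ∀ r : ℕ, x ^ (n + r * d) = x ^ n := fun n hn r => by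
    induction r with
    | zero => simp
    | succ r ih =>
      rw [show n + (r + 1) * d = (i + d) + (n - i + r * d) by rw [add_mul]; omega, pow_add, ← he, ← pow_add,
        show i + (n - i + r * d) = n + r * d by omega, ih]
  refine ⟨(i + 1) * d, Nat.mul_pos (Nat.succ_pos i) hd, ?_⟩
  rw [← pow_add, hper _ ?_]
  calc i ≤ (i + 1) * 1 := by omega
    _ ≤ (i + 1) * d := Nat.mul_le_mul_left _ hd

end Monoid

variable {ι : Type} [Fintype ι] [DecidableEq ι] {F : Type*} [Field F] [Fintype F]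

/-- Generated by square-zero unipotents in two lines with nilpotent composite: a p-group. -/
theorem isPGroup_lines (p : ℕ) [Fact p.Prime] [CharP F p] [Nonempty ι] {X Z : Matrix ι ι F}
    (hX : X * X = 0) (hZ : Z * Z = 0) {N : ℕ} (hN : (X * Z) ^ N = 0) {S : Set (GL ι F)}
    (hS : ∀ g ∈ S, ∃ c : F, g.val - 1 = c • X ∨ g.val - 1 = c • Z) {h : GL ι F} (hh : h ∈ Subgroup.closure S) :
    ∃ k, h ^ p ^ k = 1 := by
  obtain ⟨P, hP⟩ : ∃ P : GL ι F → Prop, ∀ h, P h ↔
      ∀ k, ∀ v ∈ chain X Z k, h.val *ᵥ v - v ∈ chain X Z (k + 1) := ⟨_, fun h => Iff.rfl⟩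
  have hone : P 1 := (hP 1).mpr fun k v _ => by rw [Units.val_one, one_mulVec, sub_self]; exact zero_mem _
  have hmul : ∀ g h, P g → P h → P (g * h) := fun g h hg hh => (hP _).mpr fun k v hv => by
    have e1 := (hP h).mp hh k v hv
    have e2 := (hP g).mp hg (k + 1) _ e1
    have e3 := (hP g).mp hg k v hv
    have := add_mem (chain_succ_le X Z (k + 1) e2) (add_mem e1 e3)
    rw [Transvec.mul_mulVec]
    convert this using 1
    rw [mulVec_sub]
    abel
  have hall : ∀ h ∈ Subgroup.closure S, P h := fun h hh => by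
    induction hh using Subgroup.closure_induction with
    | mem g hg =>
      refine (hP _).mpr fun k v hv => ?_
      obtain ⟨c, hc⟩ := hS g hg
      have e : g.val *ᵥ v - v = (g.val - 1) *ᵥ v := by rw [sub_mulVec, one_mulVec]
      rcases hc with hc | hc <;> rw [e, hc, smul_mulVec]
      · exact Submodule.smul_mem _ _ (Submodule.mem_sup_left ⟨v, hv, rfl⟩)
      · exact Submodule.smul_mem _ _ (Submodule.mem_sup_right ⟨v, hv, rfl⟩)
    | one => exact hone
    | mul g h _ _ hg hh => exact hmul g h hg hh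
    | inv g _ hg =>
      have hpow : ∀ n : ℕ, P (g ^ n) := fun n => by
        induction n with
        | zero => rw [pow_zero]; exact hone
        | succ n ih => rw [pow_succ]; exact hmul _ _ ih hg
      rw [inv_eq_of_mul_eq_one_right (show g * g ^ (orderOf g - 1) = 1 by
        rw [← pow_succ', Nat.sub_add_cancel (orderOf_pos g), pow_orderOf_eq_one])]
      exact hpow _
  have hbot : chain X Z (2 * (N + 1)) = ⊥ := by
    refine le_bot_iff.mp ((chain_even_le hX hZ (N + 1)).trans (sup_le ?_ ?_))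
    · rw [pow_succ, hN, zero_mul, Matrix.mulVecLin_zero, LinearMap.range_zero]
    · have e : ∀ n, (Z * X) ^ (n + 1) = Z * (X * Z) ^ n * X := fun n => by
        induction n with
        | zero => simp
        | succ n ih => rw [pow_succ, ih, pow_succ (X * Z)]; simp only [mul_assoc]
      rw [e, hN, mul_zero, zero_mul, Matrix.mulVecLin_zero, LinearMap.range_zero]
  refine ⟨2 * (N + 1), Units.ext ?_⟩
  have hnil : (h.val - 1) ^ (2 * (N + 1)) = 0 := Matrix.ext_iff_mulVec.2 fun v => by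
    have key : ∀ k, (h.val - 1) ^ k *ᵥ v ∈ chain X Z k := fun k => by
      induction k with
      | zero => trivial
      | succ k ih =>
        rw [pow_succ', ← mulVec_mulVec, sub_mulVec, one_mulVec]
        exact (hP h).mp (hall h hh) k _ ih
    have := key (2 * (N + 1))
    rw [hbot, Submodule.mem_bot] at this
    rw [this, zero_mulVec]
  haveI : CharP (Matrix ι ι F) p := Matrix.charP p
  rw [Units.val_pow_eq_pow_val, Units.val_one, ← sub_eq_zero]
  have e := sub_pow_char_pow_of_commute p (2 * (N + 1)) (Commute.one_right h.val)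
  rw [one_pow] at e
  rw [← e]
  exact pow_eq_zero_of_le (Nat.lt_pow_self (Fact.out : p.Prime).one_lt).le hnil

variable {N₁ N₂ : Matrix ι ι F}

/-- The composite is scalar. -/
theorem scalar_of_shears (p : ℕ) [hp : Fact p.Prime] [CharP F p] (hp2 : p ≠ 2) (h5 : 5 ≤ Nat.card F)
    (h1 : N₁ * N₁ = 0) (h2 : N₂ * N₂ = 0) {D : Subgroup (GL ι F)}
    (hD : D = Subgroup.closure {g | ∃ c : F, g.val = 1 + c • N₁ ∨ g.val = 1 + c • N₂})
    (hHK : ∀ v, N₁ *ᵥ v = 0 → ∃ w, v = N₁ *ᵥ w)
    (hHS : ∀ h ∈ D, ∀ B, Commute B N₁ → h.val = 1 + B * N₁ → ∃ c : F, B * N₁ = c • N₁)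
    (hnil : ¬ IsNilpotent (N₁ * N₂)) : ∃ l : F, N₁ * N₂ * N₁ = l • N₁ := by
  classical
  obtain ⟨T, hT⟩ : ∃ T, T = N₁ * N₂ + N₂ * N₁ := ⟨_, rfl⟩
  have hT1 : Commute T N₁ := by
    rw [hT, Commute, SemiconjBy, add_mul, mul_add, mul_assoc N₂ N₁ N₁, h1, mul_zero, add_zero, ← mul_assoc N₁ N₁ N₂,
      h1, zero_mul, zero_add, mul_assoc]
  have hT2 : Commute T N₂ := by
    rw [hT, Commute, SemiconjBy, add_mul, mul_add, mul_assoc N₁ N₂ N₂, h2, mul_zero, zero_add, ← mul_assoc N₂ N₂ N₁,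
      h2, zero_mul, add_zero, mul_assoc]
  obtain ⟨M, hM0, hidem⟩ := exists_idem_pow T
  obtain ⟨E, hE⟩ : ∃ E, E = T ^ M := ⟨_, rfl⟩
  rw [← hE] at hidem
  obtain ⟨T', hT'⟩ : ∃ T', T' = T ^ (2 * M - 1) := ⟨_, rfl⟩
  have hTT' : T * T' = E := by
    rw [hT', ← pow_succ', show 2 * M - 1 + 1 = M + M by omega, pow_add, ← hE, hidem]
  have hcT : ∀ n, Commute (T ^ n) N₁ ∧ Commute (T ^ n) N₂ := fun n => ⟨hT1.pow_left n, hT2.pow_left n⟩
  obtain ⟨hE1, hE2⟩ : Commute E N₁ ∧ Commute E N₂ := hE ▸ hcT M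
  have hET : Commute E T := hE ▸ Commute.pow_self T M
  obtain ⟨hT'1, hT'2⟩ : Commute T' N₁ ∧ Commute T' N₂ := hT' ▸ hcT _
  have hT'E : T' * E = T' := by
    rw [hT', hE, ← pow_add, show 2 * M - 1 + M = M + M + (M - 1) by omega, pow_add, pow_add, ← hE, hidem, hE,
      ← pow_add]
    congr 1
    omega
  have hN12 : ∀ j, (N₁ * N₂) ^ (j + 1) = T ^ j * (N₁ * N₂) := fun j => by
    induction j with
    | zero => simp
    | succ j ih =>
      have e : T * (N₁ * N₂) = N₁ * N₂ * (N₁ * N₂) := by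
        rw [hT, add_mul, mul_assoc N₂ N₁ (N₁ * N₂), ← mul_assoc N₁ N₁ N₂, h1, zero_mul, mul_zero, add_zero]
      rw [pow_succ, ih, pow_succ T, mul_assoc (T ^ j), mul_assoc (T ^ j), e]
  have hEne : E ≠ 0 := fun h => hnil ⟨M + 1, by rw [hN12, ← hE, h, zero_mul]⟩
  -- the matrix units
  obtain ⟨e00, he00⟩ : ∃ e, e = N₁ * N₂ * T' := ⟨_, rfl⟩
  obtain ⟨e01, he01⟩ : ∃ e, e = E * N₁ := ⟨_, rfl⟩
  obtain ⟨e10, he10⟩ : ∃ e, e = N₂ * T' := ⟨_, rfl⟩
  obtain ⟨e11, he11⟩ : ∃ e, e = N₂ * N₁ * T' := ⟨_, rfl⟩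
  have hsum : e00 + e11 = E := by rw [he00, he11, ← add_mul, ← hT, hTT']
  -- products of words
  have hmv1 : ∀ X, T' * (N₁ * X) = N₁ * (T' * X) := fun X => by rw [← mul_assoc, hT'1.eq, mul_assoc]
  have hmv2 : ∀ X, T' * (N₂ * X) = N₂ * (T' * X) := fun X => by rw [← mul_assoc, hT'2.eq, mul_assoc]
  have hme1 : ∀ X, E * (N₁ * X) = N₁ * (E * X) := fun X => by rw [← mul_assoc, hE1.eq, mul_assoc]
  have hme2 : ∀ X, E * (N₂ * X) = N₂ * (E * X) := fun X => by rw [← mul_assoc, hE2.eq, mul_assoc]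
  have hz1 : ∀ X, N₁ * (N₁ * X) = 0 := fun X => by rw [← mul_assoc, h1, zero_mul]
  have hz2 : ∀ X, N₂ * (N₂ * X) = 0 := fun X => by rw [← mul_assoc, h2, zero_mul]
  have hET' : E * T' = T' := by
    rw [hT', hE, ← pow_add, add_comm, pow_add, ← hE, ← hT', hT'E]
  have h121 : ∀ X, N₁ * (N₂ * (N₁ * (T' * X))) = N₁ * (E * X) := fun X => by
    rw [← mul_assoc N₂, ← mul_assoc N₁ (N₂ * N₁), show N₁ * (N₂ * N₁) = N₁ * T by
      rw [hT, mul_add, hz1, zero_add], mul_assoc, ← mul_assoc T, hTT']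
  have h212 : ∀ X, N₂ * (N₁ * (N₂ * (T' * X))) = N₂ * (E * X) := fun X => by
    rw [← mul_assoc N₁, ← mul_assoc N₂ (N₁ * N₂), show N₂ * (N₁ * N₂) = N₂ * T by
      rw [hT, mul_add, hz2, add_zero], mul_assoc, ← mul_assoc T, hTT']
  have h121' : N₁ * (N₂ * (N₁ * T')) = N₁ * E := by simpa only [mul_one] using h121 1
  have h212' : N₂ * (N₁ * (N₂ * T')) = N₂ * E := by simpa only [mul_one] using h212 1
  obtain ⟨aev, haev⟩ : ∃ aev : F[X] →ₐ[F] Matrix ι ι F, aev = aeval T := ⟨_, rfl⟩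
  have hPc : ∀ (P : F[X]) (W : Matrix ι ι F), Commute T W → Commute (aev P) W := fun P W hW => by
    induction P using Polynomial.induction_on' with
    | add p q hp hq => rw [map_add]; exact hp.add_left hq
    | monomial n a =>
      rw [haev, aeval_monomial]
      exact (Algebra.commutes a W |> fun h => (h : Commute _ W)).mul_left (hW.pow_left n)
  have hT'T : Commute T T' := hT' ▸ Commute.self_pow T _
  have hc00 : Commute T e00 := he00 ▸ (hT1.mul_right hT2).mul_right hT'T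
  have hc01 : Commute T e01 := he01 ▸ hET.symm.mul_right hT1
  have hc10 : Commute T e10 := he10 ▸ hT2.mul_right hT'T
  have hc11 : Commute T e11 := he11 ▸ (hT2.mul_right hT1).mul_right hT'T
  have hEE : ∀ X, E * (E * X) = E * X := fun X => by rw [← mul_assoc, hidem]
  have hET'' : ∀ X, E * (T' * X) = T' * X := fun X => by rw [← mul_assoc, hET']
  have hT'E' : ∀ X, T' * (E * X) = T' * X := fun X => by rw [← mul_assoc, hT'E]
  have hcET : ∀ X, T' * E * X = T' * X := fun X => by rw [hT'E]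
  obtain ⟨e, hedef⟩ : ∃ e : Fin 2 → Fin 2 → Matrix ι ι F, e = ![![e00, e01], ![e10, e11]] := ⟨_, rfl⟩
  have htab : ∀ i j a b, e i j * e a b = if j = a then e i b else 0 := by
    intro i j a b
    fin_cases i <;> fin_cases j <;> fin_cases a <;> fin_cases b <;>
      simp [hedef, he00, he01, he10, he11, mul_assoc, hmv1, hmv2, hme1, hme2, hz1, hz2, h1, h2, hT'1.eq, hT'2.eq,
        hE1.eq, hE2.eq, h121, h212, h121', h212', hEE, hET'', hT'E', hET', hT'E, hidem]
  have hce : ∀ i j, Commute T (e i j) := fun i j => by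
    fin_cases i <;> fin_cases j <;> simp [hedef, hc00, hc01, hc10, hc11]
  obtain ⟨Φ, hΦ⟩ : ∃ Φ : Matrix (Fin 2) (Fin 2) F[X] → Matrix ι ι F, ∀ m, Φ m =
      aev (m 0 0) * e 0 0 + aev (m 0 1) * e 0 1 + (aev (m 1 0) * e 1 0 + aev (m 1 1) * e 1 1) := ⟨_, fun m => rfl⟩
  have hmove : ∀ (P Q : F[X]) (i j a b : Fin 2), aev P * e i j * (aev Q * e a b) =
      aev (P * Q) * (if j = a then e i b else 0) := fun P Q i j a b => by
    rw [mul_assoc (aev P), ← mul_assoc (e i j), ← (hPc Q _ (hce i j)).eq, mul_assoc, htab, ← mul_assoc, ← map_mul]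
  have hΦmul : ∀ m m', Φ (m * m') = Φ m * Φ m' := fun m m' => by
    rw [hΦ, hΦ, hΦ]
    simp only [Matrix.mul_apply, Fin.sum_univ_two, map_add, add_mul, mul_add, hmove]
    simp only [Fin.isValue, if_true, Fin.reduceEq, if_false, mul_zero, add_zero, zero_add]
    abel
  have hΦone : Φ 1 = E := by
    rw [hΦ]; simp [hedef, hsum]
  have hΦE : ∀ m, E * Φ m = Φ m ∧ Φ m * E = Φ m := fun m => by
    constructor
    · rw [← hΦone, ← hΦmul, one_mul]
    · rw [← hΦone, ← hΦmul, mul_one]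
  -- the ring of entries
  obtain ⟨I, hI⟩ : ∃ I : Ideal F[X], ∀ P, P ∈ I ↔ aev P * E = 0 :=
    ⟨{ carrier := {P | aev P * E = 0}
       add_mem' := fun {P Q} hP hQ => by
         change aev (P + Q) * E = 0
         rw [map_add, add_mul, hP, hQ, add_zero]
       zero_mem' := by
         change aev 0 * E = 0
         rw [map_zero, zero_mul]
       smul_mem' := fun R P hP => by
         change aev (R * P) * E = 0
         rw [map_mul, mul_assoc, hP, mul_zero] }, fun P => Iff.rfl⟩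
  haveI hfinA : Finite (F[X] ⧸ I) := by
    refine Finite.of_injective (β := Matrix ι ι F) (Quotient.lift (fun P => aev P * E) fun P Q h => ?_) ?_
    · have := (hI _).mp ((Submodule.quotientRel_def I).mp h)
      rwa [map_sub, sub_mul, sub_eq_zero] at this
    · intro x y
      induction x using Quotient.inductionOn with
      | h P => induction y using Quotient.inductionOn with
        | h Q =>
          intro h
          refine Quotient.sound ((Submodule.quotientRel_def I).mpr ((hI _).mpr ?_))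
          rw [map_sub, sub_mul, sub_eq_zero]
          exact h
  obtain ⟨π, hπ⟩ : ∃ π : SL(2, F[X]) →* SL(2, F[X] ⧸ I), π = Matrix.SpecialLinearGroup.map (Ideal.Quotient.mk I) :=
    ⟨_, rfl⟩
  have hproj : ∀ m i j, e i i * Φ m * e j j = aev (m i j) * e i j := fun m i j => by
    rw [hΦ, mul_add, mul_add, mul_add]
    simp only [← mul_assoc (e i i), ← (hPc _ _ (hce i i)).eq]
    simp only [mul_assoc (aev _), htab]
    simp only [add_mul, mul_assoc (aev _)]
    fin_cases i <;> fin_cases j <;> simp [htab]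
  have hentry : ∀ (P : F[X]) (i j : Fin 2), aev P * e i j = 0 ↔ P ∈ I := by
    intro P i j
    rw [hI]
    constructor
    · intro h
      have hk : ∀ l, aev P * e l l = 0 := fun l => by
        have : e l i * (aev P * e i j) * e j l = 0 := by rw [h, mul_zero, zero_mul]
        rwa [← mul_assoc, ← (hPc P _ (hce l i)).eq, mul_assoc (aev P), mul_assoc (aev P), htab, if_pos rfl, htab,
          if_pos rfl] at this
      rw [← hsum, mul_add, show e00 = e 0 0 by simp [hedef], show e11 = e 1 1 by simp [hedef], hk, hk, add_zero]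
    · intro h
      have : aev P * e i j = aev P * E * e i j := by
        rw [mul_assoc, ← hsum, show e00 = e 0 0 by simp [hedef], show e11 = e 1 1 by simp [hedef], add_mul, htab, htab]
        fin_cases i <;> simp
      rw [this, h, zero_mul]
  have hΦeq : ∀ γ γ' : SL(2, F[X]), π γ = π γ' ↔ Φ γ.1 = Φ γ'.1 := by
    intro γ γ'
    constructor
    · intro h
      have hij : ∀ i j, aev (γ.1 i j) * e i j = aev (γ'.1 i j) * e i j := fun i j => by
        have he := congrFun (congrFun (congrArg Subtype.val h) i) j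
        rw [hπ] at he
        rw [← sub_eq_zero, ← sub_mul, ← map_sub, hentry]
        exact Ideal.Quotient.eq.mp he
      rw [hΦ, hΦ, hij, hij, hij, hij]
    · intro h
      refine Subtype.ext (Matrix.ext fun i j => ?_)
      rw [hπ]
      refine Ideal.Quotient.eq.mpr ((hentry _ i j).mp ?_)
      rw [map_sub, sub_mul, sub_eq_zero, ← hproj, ← hproj, h]
  have hgen : ∀ c : F, ∀ g : GL ι F, (g.val = 1 + c • N₁ → g.val * E = Φ (xA (C c)).1) ∧
      (g.val = 1 + c • N₂ → g.val * E = Φ (yA (C c * X)).1) := by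
    refine fun c g => ⟨fun hg => ?_, fun hg => ?_⟩
    · rw [hg, hΦ, haev, xA, add_mul, one_mul, Matrix.smul_mul, ← hE1.eq, ← he01, ← hsum]
      simp [hedef, aeval_C, Algebra.algebraMap_eq_smul_one]
      abel
    · rw [hg, hΦ, haev, yA, add_mul, one_mul, Matrix.smul_mul, show N₂ * E = T * e10 by
        rw [he10, ← mul_assoc, hT2.eq, mul_assoc, hTT'], ← hsum]
      simp [hedef, aeval_C, Algebra.algebraMap_eq_smul_one]
      abel
  have hrep : ∀ h ∈ D, ∃ γ : SL(2, F[X]), h.val * E = Φ γ.1 ∧ Commute h.val E := by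
    rw [hD]
    intro h hh
    induction hh using Subgroup.closure_induction with
    | mem g hg =>
      obtain ⟨c, hg' | hg'⟩ := hg
      · exact ⟨_, (hgen c g).1 hg', by rw [hg']; exact (Commute.one_left E).add_left (hE1.symm.smul_left c)⟩
      · exact ⟨_, (hgen c g).2 hg', by rw [hg']; exact (Commute.one_left E).add_left (hE2.symm.smul_left c)⟩
    | one => exact ⟨1, by rw [Units.val_one, one_mul, Matrix.SpecialLinearGroup.coe_one, hΦone], Commute.one_left E⟩
    | mul a b _ _ ha hb =>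
      obtain ⟨γ, hγ, hca⟩ := ha
      obtain ⟨δ, hδ, hcb⟩ := hb
      refine ⟨γ * δ, ?_, ?_⟩
      · rw [Units.val_mul, Matrix.SpecialLinearGroup.coe_mul, hΦmul, ← hγ, ← hδ, mul_assoc a.val E, ← mul_assoc E,
          ← hcb.eq, mul_assoc b.val, hidem, mul_assoc a.val b.val E]
      · rw [Units.val_mul]; exact hca.mul_left hcb
    | inv a _ ha =>
      obtain ⟨γ, hγ, hca⟩ := ha
      have hci : Commute (a⁻¹).val E := hca.units_inv_left
      refine ⟨γ⁻¹, ?_, hci⟩
      calc (a⁻¹).val * E = (a⁻¹).val * Φ 1 := by rw [hΦone]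
        _ = (a⁻¹).val * Φ (γ.1 * (γ⁻¹).1) := by
            rw [← Matrix.SpecialLinearGroup.coe_mul, mul_inv_cancel, Matrix.SpecialLinearGroup.coe_one]
        _ = Φ (γ⁻¹).1 := by
            rw [hΦmul, ← hγ, ← mul_assoc, ← mul_assoc, Units.inv_mul, one_mul, (hΦE _).1]
  choose rep hrep hcomE using hrep
  obtain ⟨ψ, hψ⟩ : ∃ ψ : D →* SL(2, F[X] ⧸ I), ∀ h : D, ψ h = π (rep h.1 h.2) := by
    refine ⟨MonoidHom.mk' (fun h => π (rep h.1 h.2)) fun a b => ?_, fun h => rfl⟩
    rw [← map_mul, hΦeq, Matrix.SpecialLinearGroup.coe_mul, hΦmul, ← hrep, ← hrep, ← hrep, Subgroup.coe_mul,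
      Units.val_mul, mul_assoc a.1.val E, ← mul_assoc E, ← (hcomE b.1 b.2).eq, mul_assoc b.1.val, hidem,
      mul_assoc a.1.val b.1.val E]
  obtain ⟨Aψ, hAψ⟩ : ∃ A : F →+* F[X] ⧸ I, A = (Ideal.Quotient.mk I).comp C := ⟨_, rfl⟩
  have hψx : ∀ c (g : D), g.1.val = 1 + c • N₁ → ψ g = xA (Aψ c) := fun c g hg => by
    rw [hψ, show π (rep g.1 g.2) = π (xA (C c)) from (hΦeq _ _).mpr ((hrep _ _).symm.trans ((hgen c g.1).1 hg)), hπ]
    ext i j
    change Ideal.Quotient.mk I ((!![1, C c; 0, 1] : Matrix (Fin 2) (Fin 2) F[X]) i j) =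
      (!![1, Aψ c; 0, 1] : Matrix (Fin 2) (Fin 2) (F[X] ⧸ I)) i j
    fin_cases i <;> fin_cases j <;> simp [hAψ]
  obtain ⟨t, ht⟩ : ∃ t : F[X] ⧸ I, t = Ideal.Quotient.mk I X := ⟨_, rfl⟩
  have hψy : ∀ c (g : D), g.1.val = 1 + c • N₂ → ψ g = yA (Aψ c * t) := fun c g hg => by
    rw [hψ, show π (rep g.1 g.2) = π (yA (C c * X)) from (hΦeq _ _).mpr ((hrep _ _).symm.trans ((hgen c g.1).2 hg)), hπ]
    ext i j
    change Ideal.Quotient.mk I ((!![1, 0; C c * X, 1] : Matrix (Fin 2) (Fin 2) F[X]) i j) =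
      (!![1, 0; Aψ c * t, 1] : Matrix (Fin 2) (Fin 2) (F[X] ⧸ I)) i j
    fin_cases i <;> fin_cases j <;> simp [hAψ, ht]
  have htunit : IsUnit t := by
    refine IsUnit.of_mul_eq_one (Ideal.Quotient.mk I (X ^ (2 * M - 1))) ?_
    rw [ht, ← map_mul, ← map_one (Ideal.Quotient.mk I), Ideal.Quotient.eq, hI, map_sub, map_one, sub_mul, one_mul,
      map_mul, map_pow, haev, aeval_X, ← hT', hTT', hidem, sub_self]
  letI : Algebra F (F[X] ⧸ I) := Aψ.toAlgebra
  -- the generators as units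
  have hunit : ∀ (N : Matrix ι ι F), N * N = 0 → ∀ c : F, ∃ g : GL ι F, g.val = 1 + c • N := fun N hN c => by
    refine ⟨⟨1 + c • N, 1 - c • N, ?_, ?_⟩, rfl⟩ <;>
      simp [mul_sub, sub_mul, mul_add, add_mul, Matrix.smul_mul, Matrix.mul_smul, hN]
  choose xg hxg using hunit N₁ h1
  choose yg hyg using hunit N₂ h2
  have hxD : ∀ c, xg c ∈ D := fun c => hD ▸ Subgroup.subset_closure ⟨c, Or.inl (hxg c)⟩
  have hyD : ∀ c, yg c ∈ D := fun c => hD ▸ Subgroup.subset_closure ⟨c, Or.inr (hyg c)⟩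
  obtain ⟨x, hx⟩ : ∃ x : D, x = ⟨_, hxD 1⟩ := ⟨_, rfl⟩
  have hψ1 : ψ x = xA 1 := by rw [hψx 1 x (by rw [hx]; exact hxg 1), map_one]
  -- elements of p-power order commuting with `x`
  have key : ∀ h : D, Commute h x → (∃ k, h ^ p ^ k = 1) →
      ∃ B, Commute B N₁ ∧ h.1.val * E = E + B * N₁ ∧ B * E = B := by
    intro h hcx ⟨k, hk⟩
    have hcm : Commute (ψ h) (xA 1) := hψ1 ▸ hcx.map ψ
    have hg := eq_xA_of_commute p hp2 hcm (k := k) (by rw [← map_pow, hk, map_one])
    obtain ⟨b, hb⟩ := Ideal.Quotient.mk_surjective ((ψ h).1 0 1)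
    refine ⟨aev b * E, (hPc b _ hT1).mul_left hE1, ?_, by rw [mul_assoc, hidem]⟩
    have e : π (rep h.1 h.2) = π (xA b) := by
      rw [← hψ, hg, hπ]
      ext i j
      change (!![1, (ψ h).1 0 1; 0, 1] : Matrix (Fin 2) (Fin 2) (F[X] ⧸ I)) i j =
        Ideal.Quotient.mk I ((!![1, b; 0, 1] : Matrix (Fin 2) (Fin 2) F[X]) i j)
      fin_cases i <;> fin_cases j <;> simp [hb]
    rw [hrep h.1 h.2, (hΦeq _ _).mp e, hΦ, xA, mul_assoc (aev b), ← he01, ← hsum]
    simp [hedef]
    abel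
  haveI hA01 : Nontrivial (F[X] ⧸ I) := by
    refine ⟨⟨0, 1, fun h => hEne ?_⟩⟩
    rw [← map_zero (Ideal.Quotient.mk I), ← map_one (Ideal.Quotient.mk I), Ideal.Quotient.eq, hI, map_sub,
      map_zero, map_one, zero_sub, neg_mul, one_mul, neg_eq_zero] at h
    exact h
  haveI : Finite D := inferInstance
  -- the kernel on the complement
  obtain ⟨D₀, hD₀⟩ : ∃ D₀ : Subgroup D, ∀ h : D, h ∈ D₀ ↔ h.1.val * (1 - E) = 1 - E := by
    refine ⟨{ carrier := {h | h.1.val * (1 - E) = 1 - E}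
              one_mem' := by
                change (1 : Matrix ι ι F) * (1 - E) = 1 - E
                rw [one_mul]
              mul_mem' := fun {a b} ha hb => by
                change (a.1.val * b.1.val) * (1 - E) = 1 - E
                rw [mul_assoc, hb, ha]
              inv_mem' := fun {a} ha => by
                change (a.1⁻¹).val * (1 - E) = 1 - E
                conv_lhs => rw [← ha, ← mul_assoc, Units.inv_mul, one_mul] }, fun h => Iff.rfl⟩
  have hc1E : ∀ h : D, Commute h.1.val (1 - E) := fun h => (Commute.one_right _).sub_right (hcomE h.1 h.2)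
  haveI hD₀n : D₀.Normal := ⟨fun h hh g => by
    rw [hD₀] at hh ⊢
    change g.1.val * h.1.val * (g.1⁻¹).val * (1 - E) = 1 - E
    rw [mul_assoc, show (g.1⁻¹).val * (1 - E) = (1 - E) * (g.1⁻¹).val from ((hc1E g).units_inv_left).eq,
      ← mul_assoc, mul_assoc g.1.val, hh, (hc1E g).eq, mul_assoc, Units.mul_inv, mul_one]⟩
  have hsplit : ∀ h : D, h ∈ D₀ → h.1.val = h.1.val * E + (1 - E) := fun h hh => by
    nth_rewrite 1 [← mul_one h.1.val]
    rw [← (hD₀ h).mp hh, ← mul_add, add_sub_cancel]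
  have hinj : ∀ h : D, h ∈ D₀ → ψ h = 1 → h = 1 := fun h hh hψh => by
    refine Subtype.ext (Units.ext ?_)
    rw [hψ, show (1 : SL(2, F[X] ⧸ I)) = π 1 from (map_one π).symm, hΦeq, ← hrep, Matrix.SpecialLinearGroup.coe_one,
      hΦone] at hψh
    rw [hsplit h hh, hψh, add_sub_cancel]
    rfl
  have hcopA : ∀ {K : Subgroup D}, ¬ p ∣ Nat.card K → ¬ p ∣ Nat.card (K.map ψ) :=
    fun hK hd => hK (hd.trans (Subgroup.card_map_dvd _ _))
  have hnormA : ∀ {K : Subgroup D}, K.Normal → ∀ c : F, ∀ n ∈ K.map ψ,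
      xA (algebraMap F (F[X] ⧸ I) c) * n * (xA (algebraMap F (F[X] ⧸ I) c))⁻¹ ∈ K.map ψ := by
    rintro K hK c _ ⟨n, hn, rfl⟩
    rw [show algebraMap F (F[X] ⧸ I) c = Aψ c from rfl, ← hψx c ⟨_, hxD c⟩ (hxg c), ← map_inv, ← map_mul, ← map_mul]
    exact ⟨_, hK.conj_mem n hn _, rfl⟩
  have hpel : ∀ c, ∃ k, (⟨_, hxD c⟩ : D) ^ p ^ k = 1 := fun c => ⟨1, Subtype.ext (Units.ext (by
    rcases subsingleton_or_nontrivial (Matrix ι ι F) with h | h
    · exact Subsingleton.elim _ _
    haveI : CharP (Matrix ι ι F) p := charP_of_injective_algebraMap (algebraMap F (Matrix ι ι F)).injective p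
    rw [pow_one, SubmonoidClass.coe_pow, Units.val_pow_eq_pow_val, hxg, add_pow_char_of_commute p (Commute.one_left _),
      one_pow, _root_.smul_pow, show N₁ ^ p = 0 from pow_eq_zero_of_le hp.out.two_le (by rw [pow_two, h1]), smul_zero,
      add_zero]
    rfl))⟩
  by_cases hE1' : E = 1
  swap
  · exfalso
    have hne1 : N₁ * (1 - E) ≠ 0 := by
      intro h0
      refine hE1' (sub_eq_zero.mp ?_).symm
      refine Matrix.ext_iff_mulVec.2 fun v => ?_
      rw [zero_mulVec]
      obtain ⟨w, hw⟩ := hHK ((1 - E) *ᵥ v) (by rw [mulVec_mulVec, h0, zero_mulVec])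
      have hfix : E *ᵥ ((1 - E) *ᵥ v) = (1 - E) *ᵥ v := by
        rw [hw, mulVec_mulVec, hE1.eq]
        rw [mul_sub, mul_one, sub_eq_zero] at h0
        rw [← h0]
      rw [← hfix, mulVec_mulVec, mul_sub, mul_one, hidem, sub_self, zero_mulVec]
    have hA : ∀ h : D, h ∈ D₀ → Commute h x → (∃ k, h ^ p ^ k = 1) → h = 1 := fun h hh hcx hk => by
      obtain ⟨B, hB, hhB, hBE⟩ := key h hcx hk
      have hv : h.1.val = 1 + B * N₁ := by rw [hsplit h hh, hhB]; abel
      obtain ⟨c, hc⟩ := hHS h.1 h.2 B hB hv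
      have h0 : B * N₁ * (1 - E) = 0 := by
        rw [mul_assoc, show N₁ * (1 - E) = (1 - E) * N₁ by rw [mul_sub, sub_mul, hE1.eq, one_mul, mul_one],
          ← mul_assoc, mul_sub, mul_one, hBE, sub_self, zero_mul]
      rw [hc, Matrix.smul_mul, smul_eq_zero, or_iff_left hne1] at h0
      exact Subtype.ext (Units.ext (by rw [hv, hc, h0, zero_smul, add_zero]; rfl))
    have hcop : ¬ p ∣ Nat.card D₀ := fun hd => by
      obtain ⟨a, ha⟩ := exists_prime_orderOf_dvd_card' p hd
      obtain ⟨k, hk⟩ := hpel 1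
      have hxp : IsPGroup p (Subgroup.zpowers x) := fun z => ⟨k, by
        obtain ⟨z, n, rfl⟩ := z
        refine Subtype.ext ?_
        change (x ^ n) ^ p ^ k = 1
        rw [← zpow_natCast, ← _root_.zpow_mul, mul_comm, _root_.zpow_mul, zpow_natCast, hx, hk, _root_.one_zpow]⟩
      obtain ⟨P, hP⟩ := hxp.exists_le_sylow
      have hap : IsPGroup p (Subgroup.zpowers (a : D)) := IsPGroup.of_card (n := 1)
        (by rw [Nat.card_zpowers, Subgroup.orderOf_coe, ha, pow_one])
      obtain ⟨R, hR⟩ := hap.exists_le_sylow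
      obtain ⟨g, hg⟩ := MulAction.exists_smul_eq D R P
      obtain ⟨Q, hQ⟩ : ∃ Q : Subgroup D, Q = D₀ ⊓ (P : Subgroup D) := ⟨_, rfl⟩
      have hga : g * a * g⁻¹ ∈ Q := by
        rw [hQ]
        refine ⟨hD₀n.conj_mem _ a.2 g, ?_⟩
        rw [← hg]
        exact ⟨a, hR (Subgroup.mem_zpowers _), rfl⟩
      have hga1 : g * (a : D) * g⁻¹ ≠ 1 := fun h => by
        rw [conj_eq_one_iff] at h
        rw [show a = 1 from Subtype.ext h, orderOf_one] at ha
        exact hp.out.ne_one ha.symm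
      letI : MulAction (Subgroup.zpowers x) Q :=
        { smul := fun z n => ⟨z.1 * n.1 * z.1⁻¹, by
            have h1' : z.1 ∈ (P : Subgroup D) := hP z.2
            obtain ⟨hn1, hn2⟩ := (hQ.le n.2 : n.1 ∈ D₀ ⊓ (P : Subgroup D))
            exact hQ.ge (Subgroup.mem_inf.mpr ⟨hD₀n.conj_mem _ hn1 _, Subgroup.mul_mem _ (Subgroup.mul_mem _ h1' hn2) (Subgroup.inv_mem _ h1')⟩)⟩
          one_smul := fun n => Subtype.ext (show (1 : D) * n.1 * 1⁻¹ = n.1 by simp)
          mul_smul := fun y z n => Subtype.ext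
            (show (y.1 * z.1) * n.1 * (y.1 * z.1)⁻¹ = y.1 * (z.1 * n.1 * z.1⁻¹) * y.1⁻¹ by group) }
      have hQp : IsPGroup p Q := P.isPGroup'.to_le (hQ ▸ inf_le_right)
      have hQd : p ∣ Nat.card Q := by
        obtain ⟨n, hn⟩ := IsPGroup.iff_card.mp hQp
        rcases n with - | n
        · exfalso
          rw [pow_zero] at hn
          haveI := (Nat.card_eq_one_iff_unique.mp hn).1
          exact hga1 (congrArg Subtype.val (Subsingleton.elim (⟨_, hga⟩ : Q) 1))
        · rw [hn]; exact dvd_pow_self p n.succ_ne_zero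
      obtain ⟨n, hn, hn1⟩ := hxp.exists_fixed_point_of_prime_dvd_card_of_fixed_point Q hQd
        (a := (1 : Q)) (fun z => Subtype.ext (show z.1 * 1 * z.1⁻¹ = 1 by group))
      refine hn1.symm (Subtype.ext (hA n.1 ((hQ.le n.2 : n.1 ∈ D₀ ⊓ (P : Subgroup D)).1) ?_ ?_))
      · have e := congrArg Subtype.val (hn ⟨x, Subgroup.mem_zpowers x⟩)
        change x * n.1 * x⁻¹ = n.1 at e
        rw [mul_inv_eq_iff_eq_mul] at e
        exact e.symm
      · obtain ⟨j, hj⟩ := IsPGroup.iff_orderOf.mp hQp n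
        exact ⟨j, by have e := pow_orderOf_eq_one n; rw [hj] at e; exact congrArg Subtype.val e⟩
    -- the quotient
    have hquot : ∀ h : D, ∃ k, h ^ p ^ k ∈ D₀ := by
      intro h
      rcases isEmpty_or_nonempty ι with hι | hι
      · exact absurd (Subsingleton.elim E 1) hE1'
      obtain ⟨R, hR⟩ : ∃ R : GL ι F → Matrix ι ι F, ∀ g, R g = E + g.val * (1 - E) := ⟨_, fun g => rfl⟩
      have hsq1 : N₁ * (1 - E) * (N₁ * (1 - E)) = 0 := by
        rw [mul_assoc, ← mul_assoc (1 - E), show (1 - E) * N₁ = N₁ * (1 - E) by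
          rw [mul_sub, sub_mul, hE1.eq, one_mul, mul_one], mul_assoc N₁, ← mul_assoc N₁ N₁, h1, zero_mul]
      have hsq2 : N₂ * (1 - E) * (N₂ * (1 - E)) = 0 := by
        rw [mul_assoc, ← mul_assoc (1 - E), show (1 - E) * N₂ = N₂ * (1 - E) by
          rw [mul_sub, sub_mul, hE2.eq, one_mul, mul_one], mul_assoc N₂, ← mul_assoc N₂ N₂, h2, zero_mul]
      have hI2 : (1 - E) * (1 - E) = 1 - E := by
        rw [sub_mul, one_mul, mul_sub, mul_one, hidem, sub_self, sub_zero]
      have hRmul : ∀ a b : D, R (a.1 * b.1) = R a.1 * R b.1 := fun a b => by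
        have z1 : E * (1 - E) = 0 := by rw [mul_sub, mul_one, hidem, sub_self]
        have z2 : (1 - E) * E = 0 := by rw [sub_mul, one_mul, hidem, sub_self]
        rw [hR, hR, hR, Units.val_mul, add_mul, mul_add, mul_add, hidem, ← (mul_assoc E b.1.val), ← (hcomE b.1 b.2).eq,
          mul_assoc b.1.val E, z1, mul_zero, add_zero, mul_assoc a.1.val (1 - E) E, z2, mul_zero, zero_add,
          mul_assoc a.1.val (1 - E), ← mul_assoc (1 - E) b.1.val, ← (hc1E b).eq, mul_assoc b.1.val (1 - E), hI2,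
          mul_assoc a.1.val]
      have hR1 : R 1 = 1 := by rw [hR, Units.val_one, one_mul, add_sub_cancel]
      obtain ⟨ρ, hρ⟩ : ∃ ρ : D →* GL ι F, ∀ a : D, (ρ a).val = R a.1 :=
        ⟨(MonoidHom.mk ⟨fun a : D => R a.1, by exact hR1⟩ hRmul).toHomUnits, fun a => rfl⟩
      obtain ⟨S, hS⟩ : ∃ S : Set (GL ι F), S = {g | ∃ c : F, g.val - 1 = c • (N₁ * (1 - E)) ∨
          g.val - 1 = c • (N₂ * (1 - E))} := ⟨_, rfl⟩
      have hmem : ∀ a : D, ρ a ∈ Subgroup.closure S := by
        suffices ∀ g (hg : g ∈ Subgroup.closure {g : GL ι F | ∃ c : F, g.val = 1 + c • N₁ ∨ g.val = 1 + c • N₂}),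
            ρ ⟨g, hD ▸ hg⟩ ∈ Subgroup.closure S from fun a => this a.1 (hD ▸ a.2)
        intro g hg
        induction hg using Subgroup.closure_induction with
        | mem g hg =>
          refine Subgroup.subset_closure ?_
          rw [hS]
          obtain ⟨c, hc | hc⟩ := hg
          · exact ⟨c, Or.inl (by
              rw [hρ, hR]; simp only [hc, add_mul, one_mul, Matrix.smul_mul]; abel)⟩
          · exact ⟨c, Or.inr (by
              rw [hρ, hR]; simp only [hc, add_mul, one_mul, Matrix.smul_mul]; abel)⟩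
        | one => exact (map_one ρ).symm ▸ one_mem _
        | mul a b ha hb iha ihb =>
          rw [show (⟨a * b, hD ▸ mul_mem ha hb⟩ : D) = ⟨a, hD ▸ ha⟩ * ⟨b, hD ▸ hb⟩ from rfl, map_mul]
          exact mul_mem iha ihb
        | inv a ha iha =>
          rw [show (⟨a⁻¹, hD ▸ inv_mem ha⟩ : D) = ⟨a, hD ▸ ha⟩⁻¹ from rfl, map_inv]
          exact inv_mem iha
      have hnil2 : (N₁ * (1 - E) * (N₂ * (1 - E))) ^ (M + 1) = 0 := by
        have hcE : Commute (N₁ * N₂) (1 - E) := (Commute.one_right _).sub_right ((hE1.mul_right hE2).symm)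
        have e : N₁ * (1 - E) * (N₂ * (1 - E)) = N₁ * N₂ * (1 - E) := by
          rw [mul_assoc, ← mul_assoc (1 - E), show (1 - E) * N₂ = N₂ * (1 - E) by
            rw [mul_sub, sub_mul, hE2.eq, one_mul, mul_one], mul_assoc N₂, hI2, ← mul_assoc]
        rw [e, hcE.mul_pow, hN12, ← hE, show (1 - E) ^ (M + 1) = 1 - E from IsIdempotentElem.pow_succ_eq M hI2,
          mul_assoc, hcE.eq, ← mul_assoc, mul_sub, mul_one, hidem, sub_self, zero_mul]
      obtain ⟨k, hk⟩ := isPGroup_lines p hsq1 hsq2 hnil2 (fun g hg => by rw [hS] at hg; exact hg) (hmem h)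
      refine ⟨k, (hD₀ _).mpr ?_⟩
      have e : R (h ^ p ^ k : D).1 = 1 := by rw [← hρ, map_pow, hk]; rfl
      rw [hR] at e
      exact eq_sub_of_add_eq' e
    obtain ⟨m, hm⟩ := Ideal.exists_maximal (F[X] ⧸ I)
    letI := hm
    letI : Field ((F[X] ⧸ I) ⧸ m) := Ideal.Quotient.field m
    obtain ⟨χ, hχ⟩ : ∃ χ : (F[X] ⧸ I) →+* AlgebraicClosure ((F[X] ⧸ I) ⧸ m),
        χ = (algebraMap ((F[X] ⧸ I) ⧸ m) _).comp (Ideal.Quotient.mk m) := ⟨_, rfl⟩
    haveI : CharP (AlgebraicClosure ((F[X] ⧸ I) ⧸ m)) p :=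
      charP_of_injective_ringHom (χ.comp Aψ).injective p
    obtain ⟨f, hf⟩ : ∃ f : D →* Matrix.ProjGenLinGroup (Fin 2) (AlgebraicClosure ((F[X] ⧸ I) ⧸ m)),
        ∀ h, f h = res χ (ψ h) := ⟨(res χ).comp ψ, fun h => rfl⟩
    have himg : IsPGroup p f.range := by
      rintro ⟨_, h, rfl⟩
      obtain ⟨k, hk⟩ := hquot h
      refine ⟨k, Subtype.ext ?_⟩
      rw [SubmonoidClass.coe_pow, ← map_pow, hf]
      exact res_trivial p h5 hp2 χ (hcopA hcop) (hnormA hD₀n) ⟨_, hk, rfl⟩
    haveI : Finite f.range := Finite.of_surjective _ f.rangeRestrict_surjective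
    have hxr : f x = aff 1 1 := by rw [hf, hψ1, res_xA, map_one]
    have hyr : f ⟨_, hyD 1⟩ = low (χ t) := by rw [hf, hψy 1 _ (hyg 1), res_yA, map_one, one_mul]
    haveI : Nontrivial f.range := ⟨⟨⟨f x, x, rfl⟩, 1, fun h => by
      have h' : f x = 1 := congrArg Subtype.val h
      rw [hxr] at h'
      exact one_ne_zero (aff_eq_one.mp h').2⟩⟩
    obtain ⟨⟨z, hz⟩, hz1⟩ := @exists_ne _ himg.center_nontrivial 1
    obtain ⟨b, hb⟩ := exists_translation (g := z.1)
      (by have := Subgroup.mem_center_iff.mp hz ⟨f x, x, rfl⟩; rw [← hxr]; exact (congrArg Subtype.val this).symm)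
    have hb0 : b ≠ 0 := fun h => hz1 (Subtype.ext (Subtype.ext (by
      change z.1 = 1
      rw [hb, h, aff_one])))
    have hcy := congrArg Subtype.val (Subgroup.mem_center_iff.mp hz ⟨f ⟨_, hyD 1⟩, _, rfl⟩)
    change f ⟨_, hyD 1⟩ * z.1 = z.1 * f ⟨_, hyD 1⟩ at hcy
    rw [hyr, hb] at hcy
    have hfix : low (χ t) • (Transfer.lineInf : Projectivization (AlgebraicClosure ((F[X] ⧸ I) ⧸ m)) _) ∈
        fixSet (aff (1 : (AlgebraicClosure ((F[X] ⧸ I) ⧸ m))ˣ) b) := by
      change aff 1 b • _ = _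
      rw [← mul_smul, ← hcy, mul_smul, aff_smul_inf]
    rw [fixSet_aff_one hb0, Set.mem_singleton_iff, low_smul_inf (htunit.map χ).ne_zero] at hfix
    exact Transfer.lineInf_ne_linePt _ hfix.symm
  -- invertible composite
  have htop : ∀ h : D, h ∈ D₀ := fun h => (hD₀ h).mpr (by rw [hE1', sub_self, mul_zero])
  have hψinj : Function.Injective ψ := (injective_iff_map_eq_one ψ).mpr fun h hh => hinj h (htop h) hh
  have hcent : ∀ h : D, Commute h x → (∃ k, h ^ p ^ k = 1) → ∃ c, h = ⟨_, hxD c⟩ := fun h hcx hk => by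
    obtain ⟨B, hB, hhB, -⟩ := key h hcx hk
    rw [hE1', mul_one] at hhB
    obtain ⟨c, hc⟩ := hHS h.1 h.2 B hB hhB
    exact ⟨c, Subtype.ext (Units.ext (by rw [hhB, hc, hxg]))⟩
  have hsyl : ∀ P : Sylow p D, Nat.card (P : Subgroup D) ≤ Nat.card F := by
    obtain ⟨k, hk⟩ := hpel 1
    have hxp : IsPGroup p (Subgroup.zpowers x) := fun z => ⟨k, by
      obtain ⟨z, n, rfl⟩ := z
      refine Subtype.ext ?_
      change (x ^ n) ^ p ^ k = 1
      rw [← zpow_natCast, ← _root_.zpow_mul, mul_comm, _root_.zpow_mul, zpow_natCast, hx, hk, _root_.one_zpow]⟩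
    obtain ⟨P, hP⟩ := hxp.exists_le_sylow
    intro R
    rw [show Nat.card (R : Subgroup D) = Nat.card (P : Subgroup D) by rw [R.card_eq_multiplicity, P.card_eq_multiplicity]]
    have hsub : ((P : Subgroup D) : Set D) ⊆ Set.range fun c : F => (⟨_, hxD c⟩ : D) := by
      intro g hg
      have hxP : x ∈ (P : Subgroup D) := hP (Subgroup.mem_zpowers x)
      haveI : Nontrivial (P : Subgroup D) := ⟨⟨⟨x, hxP⟩, 1, fun h => by
        have h' := congrArg (fun y : (P : Subgroup D) => ψ y.1) h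
        simp only [hψ1, OneMemClass.coe_one, map_one] at h'
        have h01 := congrFun (congrFun (congrArg Subtype.val h') 0) 1
        change (1 : F[X] ⧸ I) = 0 at h01
        rw [← map_one (Ideal.Quotient.mk I), ← map_zero (Ideal.Quotient.mk I), Ideal.Quotient.eq, sub_zero, hI,
          map_one, one_mul] at h01
        exact hEne h01⟩⟩
      obtain ⟨⟨z, hz⟩, hz1⟩ := @exists_ne _ P.isPGroup'.center_nontrivial 1
      have hzx : Commute z.1 x := (congrArg Subtype.val (Subgroup.mem_center_iff.mp hz ⟨x, hxP⟩)).symm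
      obtain ⟨j, hj⟩ := IsPGroup.iff_orderOf.mp P.isPGroup' z
      obtain ⟨c, hc⟩ := hcent z.1 hzx ⟨j, by
        have e := congrArg Subtype.val (pow_orderOf_eq_one z); rw [hj] at e; exact e⟩
      have hc0 : c ≠ 0 := fun h => hz1 (Subtype.ext (Subtype.ext (by
        change z.1 = 1
        rw [hc]
        exact Subtype.ext (Units.ext (by rw [hxg, h, zero_smul, add_zero]; rfl)))))
      have hgc : Commute g (⟨_, hxD c⟩ : D) := hc ▸ congrArg Subtype.val (Subgroup.mem_center_iff.mp hz ⟨g, hg⟩)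
      have hgx : Commute g x := by
        have e := congrArg (fun y : D => y.1.val) hgc.eq
        simp only [Subgroup.coe_mul, Units.val_mul, hxg, mul_add, add_mul, one_mul, mul_one, Matrix.mul_smul,
          Matrix.smul_mul, add_right_inj] at e
        refine Subtype.ext (Units.ext ?_)
        rw [hx]
        simp only [Subgroup.coe_mul, Units.val_mul, hxg, mul_add, add_mul, one_mul, mul_one, one_smul]
        rw [smul_right_injective (Matrix ι ι F) hc0 e]
      obtain ⟨i, hi⟩ := IsPGroup.iff_orderOf.mp P.isPGroup' ⟨g, hg⟩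
      obtain ⟨c', hc'⟩ := hcent g hgx ⟨i, by
        have e := congrArg Subtype.val (pow_orderOf_eq_one (⟨_, hg⟩ : (P : Subgroup D))); rw [hi] at e; exact e⟩
      exact ⟨c', hc'.symm⟩
    refine (Nat.card_mono (Set.finite_range _) hsub).trans ?_
    rw [← Set.image_univ, Nat.card_coe_set_eq]
    exact (Set.ncard_image_le Set.finite_univ).trans (by rw [Set.ncard_univ])
  obtain ⟨m, hm⟩ := Ideal.exists_maximal (F[X] ⧸ I)
  letI := hm
  letI : Field ((F[X] ⧸ I) ⧸ m) := Ideal.Quotient.field m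
  obtain ⟨χ, hχ⟩ : ∃ χ : (F[X] ⧸ I) →+* AlgebraicClosure ((F[X] ⧸ I) ⧸ m),
      χ = (algebraMap ((F[X] ⧸ I) ⧸ m) _).comp (Ideal.Quotient.mk m) := ⟨_, rfl⟩
  haveI : CharP (AlgebraicClosure ((F[X] ⧸ I) ⧸ m)) p := charP_of_injective_ringHom (χ.comp Aψ).injective p
  obtain ⟨f, hf⟩ : ∃ f : D →* Matrix.ProjGenLinGroup (Fin 2) (AlgebraicClosure ((F[X] ⧸ I) ⧸ m)),
      ∀ h, f h = res χ (ψ h) := ⟨(res χ).comp ψ, fun h => rfl⟩
  haveI : Finite f.range := Finite.of_surjective _ f.rangeRestrict_surjective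
  have hfx : ∀ c, f ⟨_, hxD c⟩ = aff 1 (χ (Aψ c)) := fun c => by rw [hf, hψx c _ (hxg c), res_xA]
  have hfy : ∀ c, f ⟨_, hyD c⟩ = low (χ (Aψ c) * χ t) := fun c => by
    rw [hf, hψy c _ (hyg c), res_yA, map_mul]
  have hl0 : χ t ≠ 0 := (htunit.map χ).ne_zero
  obtain ⟨a, ha⟩ := param_rational (χ.comp Aψ) p h5 hp2 (G := f.range) hl0
    (fun c => ⟨_, hfx c⟩) (fun c => ⟨_, hfy c⟩) (fun P hP => by
      obtain ⟨n, hn⟩ := IsPGroup.iff_card.mp hP
      have hd : p ^ n ∣ Nat.card D := hn ▸ (Subgroup.card_subgroup_dvd_card P).trans (Subgroup.card_range_dvd f)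
      obtain ⟨Q, hQ⟩ := Sylow.exists_subgroup_card_pow_prime p hd
      obtain ⟨R, hR⟩ := (IsPGroup.of_card hQ).exists_le_sylow
      rw [hn, ← hQ]
      exact (Subgroup.card_le_of_le hR).trans (hsyl R))
  rw [RingHom.comp_apply] at ha
  have ha0 : a ≠ 0 := fun h => hl0 (by rw [← ha, h, map_zero, map_zero])
  -- the involution
  have hK : ¬ p ∣ Nat.card f.ker := fun hd => by
    obtain ⟨u, hu⟩ := exists_prime_orderOf_dvd_card' p hd
    obtain ⟨k, hk⟩ := hpel 1
    obtain ⟨R, hR⟩ := (IsPGroup.of_card (p := p) (n := 1) (G := Subgroup.zpowers (u : D))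
      (by rw [Nat.card_zpowers, Subgroup.orderOf_coe, hu, pow_one])).exists_le_sylow
    have hxp : IsPGroup p (Subgroup.zpowers x) := fun z => ⟨k, by
      obtain ⟨z, n, rfl⟩ := z
      refine Subtype.ext ?_
      change (x ^ n) ^ p ^ k = 1
      rw [← zpow_natCast, ← _root_.zpow_mul, mul_comm, _root_.zpow_mul, zpow_natCast, hx, hk, _root_.one_zpow]⟩
    obtain ⟨P, hP⟩ := hxp.exists_le_sylow
    obtain ⟨g, hg⟩ := MulAction.exists_smul_eq D R P
    have hge : g * u * g⁻¹ ∈ (P : Subgroup D) := hg ▸ ⟨u, hR (Subgroup.mem_zpowers _), rfl⟩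
    -- the Sylow subgroup is the unipotent group
    have hrange : ((P : Subgroup D) : Set D) = Set.range fun c : F => (⟨_, hxD c⟩ : D) := by
      have hPle : IsPGroup p (Subgroup.closure (Set.range fun c : F => (⟨_, hxD c⟩ : D))) := by
        have hgrp : ∀ y ∈ Subgroup.closure (Set.range fun c : F => (⟨_, hxD c⟩ : D)), ∃ c, y = ⟨_, hxD c⟩ := by
          intro y hy
          induction hy using Subgroup.closure_induction with
          | mem y hy => obtain ⟨c, rfl⟩ := hy; exact ⟨c, rfl⟩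
          | one => exact ⟨0, Subtype.ext (Units.ext (by rw [hxg, zero_smul, add_zero]; rfl))⟩
          | mul y z _ _ hy hz =>
            obtain ⟨c, rfl⟩ := hy
            obtain ⟨d, rfl⟩ := hz
            exact ⟨c + d, Subtype.ext (Units.ext (by
              simp only [Subgroup.coe_mul, Units.val_mul, hxg, mul_add, add_mul, one_mul, mul_one, Matrix.mul_smul,
                Matrix.smul_mul, h1, smul_zero, add_zero, add_smul, add_assoc]))⟩
          | inv y _ hy =>
            obtain ⟨c, rfl⟩ := hy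
            refine ⟨-c, inv_eq_of_mul_eq_one_right (Subtype.ext (Units.ext ?_))⟩
            simp only [Subgroup.coe_mul, Units.val_mul, hxg, mul_add, add_mul, one_mul, mul_one, Matrix.mul_smul,
              Matrix.smul_mul, mul_neg, smul_neg, neg_zero, h1, smul_zero, add_zero, neg_smul]
            rw [add_assoc, add_neg_cancel, add_zero]; rfl
        intro y
        obtain ⟨c, hc⟩ := hgrp y.1 y.2
        obtain ⟨j, hj⟩ := hpel c
        exact ⟨j, Subtype.ext (by rw [SubmonoidClass.coe_pow, hc, hj]; rfl)⟩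
      obtain ⟨S, hS⟩ := hPle.exists_le_sylow
      refine Set.eq_of_subset_of_ncard_le ?_ ?_ (Set.finite_range _)
      · intro y hy
        have hyx : Commute y x → ∃ c, y = ⟨_, hxD c⟩ := fun hc => by
          obtain ⟨i, hi⟩ := IsPGroup.iff_orderOf.mp P.isPGroup' ⟨y, hy⟩
          exact hcent y hc ⟨i, by
            have e := congrArg Subtype.val (pow_orderOf_eq_one (⟨y, hy⟩ : (P : Subgroup D))); rw [hi] at e; exact e⟩
        haveI : Nontrivial (P : Subgroup D) := ⟨⟨⟨x, hP (Subgroup.mem_zpowers x)⟩, 1, fun h => by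
          have h' : f x = 1 := by rw [show x = 1 from congrArg Subtype.val h, map_one]
          rw [show f x = f ⟨_, hxD 1⟩ by rw [hx], hfx, map_one, map_one] at h'
          exact one_ne_zero (aff_eq_one.mp h').2⟩⟩
        obtain ⟨⟨z, hz⟩, hz1⟩ := @exists_ne _ P.isPGroup'.center_nontrivial 1
        have hzx : Commute z.1 x :=
          (congrArg Subtype.val (Subgroup.mem_center_iff.mp hz ⟨x, hP (Subgroup.mem_zpowers x)⟩)).symm
        obtain ⟨j, hj⟩ := IsPGroup.iff_orderOf.mp P.isPGroup' z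
        obtain ⟨c, hc⟩ := hcent z.1 hzx ⟨j, by
        have e := congrArg Subtype.val (pow_orderOf_eq_one z); rw [hj] at e; exact e⟩
        have hc0 : c ≠ 0 := fun h => hz1 (Subtype.ext (Subtype.ext (by
          change z.1 = 1
          rw [hc]
          exact Subtype.ext (Units.ext (by rw [hxg, h, zero_smul, add_zero]; rfl)))))
        have hgc : Commute y (⟨_, hxD c⟩ : D) := hc ▸ congrArg Subtype.val (Subgroup.mem_center_iff.mp hz ⟨y, hy⟩)
        obtain ⟨c', hc'⟩ := hyx (by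
          have e := congrArg (fun y : D => y.1.val) hgc.eq
          simp only [Subgroup.coe_mul, Units.val_mul, hxg, mul_add, add_mul, one_mul, mul_one, Matrix.mul_smul,
            Matrix.smul_mul, add_right_inj] at e
          refine Subtype.ext (Units.ext ?_)
          rw [hx]
          simp only [Subgroup.coe_mul, Units.val_mul, hxg, mul_add, add_mul, one_mul, mul_one, one_smul]
          rw [smul_right_injective (Matrix ι ι F) hc0 e])
        exact ⟨c', hc'.symm⟩
      · rw [show ((P : Subgroup D) : Set D).ncard = ((S : Subgroup D) : Set D).ncard by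
          rw [← Nat.card_coe_set_eq, ← Nat.card_coe_set_eq]
          exact P.card_eq_multiplicity.trans S.card_eq_multiplicity.symm]
        exact Set.ncard_le_ncard (fun y hy => hS (Subgroup.subset_closure hy)) (Set.toFinite _)
    obtain ⟨c, hc⟩ := hrange.le hge
    have hfu : f (g * u * g⁻¹) = 1 := by
      rw [map_mul, map_mul, MonoidHom.mem_ker.mp u.2, mul_one, map_inv, mul_inv_cancel]
    simp only at hc
    rw [← hc, hfx, aff_eq_one, (χ.comp Aψ).injective.eq_iff' (map_zero _) |> (show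
      (χ (Aψ c) = 0 ↔ c = 0) from ·)] at hfu
    have : g * (u : D) * g⁻¹ = 1 := by
      rw [← hc, hfu.2]
      exact Subtype.ext (Units.ext (by rw [hxg, zero_smul, add_zero]; rfl))
    rw [conj_eq_one_iff] at this
    rw [show u = 1 from Subtype.ext this, orderOf_one] at hu
    exact hp.out.ne_one hu.symm
  obtain ⟨b, hb⟩ : ∃ b : F, b = -a⁻¹ := ⟨_, rfl⟩
  obtain ⟨w, hw⟩ : ∃ w : D, w = x * ⟨_, hyD b⟩ * x := ⟨_, rfl⟩
  have hψw : ψ w = xA 1 * yA (Aψ b * t) * xA 1 := by rw [hw, map_mul, map_mul, hψ1, hψy b _ (hyg b)]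
  have hbt : χ (Aψ b) * χ t = -1 := by
    rw [show χ (Aψ b) = (χ.comp Aψ) b from rfl, hb, map_neg, map_inv₀, RingHom.comp_apply, ha, neg_mul,
      inv_mul_cancel₀ hl0]
  have hwv : (ψ w).1 = !![1 + Aψ b * t, 2 + Aψ b * t; Aψ b * t, 1 + Aψ b * t] := by
    rw [hψw, Matrix.SpecialLinearGroup.coe_mul, Matrix.SpecialLinearGroup.coe_mul]
    ext i j
    fin_cases i <;> fin_cases j <;> simp [xA, yA, Matrix.mul_apply, Fin.sum_univ_two] <;> ring
  have hwK : w * w ∈ f.ker := by
    rw [MonoidHom.mem_ker, hf, map_mul, res_eq_one, Matrix.SpecialLinearGroup.coe_mul, hwv]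
    simp [Matrix.mul_apply, Fin.sum_univ_two, hbt]
  have hwx : Commute (ψ (w * w)) (xA 1) := by
    haveI : f.ker.Normal := MonoidHom.normal_ker f
    refine commute_of_pprime p h5 hp2 (hcopA hK) (hnormA (MonoidHom.normal_ker f)) ⟨_, hwK, rfl⟩ ?_
    rw [← hψ1, ← map_inv, ← map_inv, ← map_mul, ← map_mul]
    exact ⟨_, (MonoidHom.normal_ker f).conj_mem _ (inv_mem hwK) _, rfl⟩
  have e10 := (commute_xA hwx).1
  rw [map_mul, Matrix.SpecialLinearGroup.coe_mul, hwv] at e10
  simp [Matrix.mul_apply, Fin.sum_univ_two] at e10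
  have h2F : (2 : F) ≠ 0 := fun h => hp2 ((Nat.prime_dvd_prime_iff_eq hp.out Nat.prime_two).mp
    ((CharP.cast_eq_zero_iff F p 2).mp (by exact_mod_cast h)))
  have hb0 : b ≠ 0 := by rw [hb]; exact neg_ne_zero.mpr (inv_ne_zero ha0)
  have hu1 : IsUnit (2 * (Aψ b * t)) := by
    refine IsUnit.mul ?_ ((hb0.isUnit.map Aψ).mul htunit)
    rw [← map_ofNat Aψ 2]; exact h2F.isUnit.map Aψ
  have hteq : Aψ b * t = -1 := by
    refine eq_neg_of_add_eq_zero_left (hu1.mul_right_eq_zero.mp ?_)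
    linear_combination e10
  have hta : t = Aψ a := by
    have e := congrArg (fun y => Aψ (-a) * y) hteq
    rw [← mul_assoc, ← map_mul, hb, neg_mul_neg, mul_inv_cancel₀ ha0, map_one, one_mul, map_neg] at e
    exact e.trans (by ring)
  rw [ht, hAψ, RingHom.comp_apply, Ideal.Quotient.eq, hI, hE1', mul_one, map_sub, haev, aeval_X, aeval_C,
    sub_eq_zero] at hta
  refine ⟨a, ?_⟩
  rw [show N₁ * N₂ * N₁ = T * N₁ by rw [hT, add_mul, mul_assoc N₂, h1, mul_zero, add_zero], hta,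
    Algebra.algebraMap_eq_smul_one, Matrix.smul_mul, one_mul]

end CfsgLib.Classical22.TPow.SLRing
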