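/-
Two-dimensional factors: no non-scalar shear puts the group inside the tensor wreath group.
-/
import Cfsg.Agent.Lib.Classical22.TensorPower.Fix
import Cfsg.Agent.Lib.Classical22.TensorPower.Pair2

set_option autoImplicit false
set_option linter.unusedSectionVars false
set_option linter.unusedSimpArgs false

namespace CfsgLib.Classical22.TPow

open Matrix Kronecker CfsgLib.Transvec CfsgLib.Classical22.TensorMax CfsgLib.Classical22.TensorMax.SympO
open CfsgLib.Classical22.TWMax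
open scoped MatrixGroups

variable {F : Type*} [Field F] [Fintype F] {T : ℕ} {f : (Fin 2 → F) → (Fin 2 → F) → F}
  {M : Subgroup (GL (Idx (T + 2) 2) F)}

lemma eq_comb (hf : Cfsg.Geo.IsSymplecticForm f) {e e' : Fin 2 → F} (he : f e e' = 1) (x : Fin 2 → F) :
    x = f x e' • e - f x e • e' := by
  have hli : LinearIndependent F ![e, e'] := LinearIndependent.pair_iff.mpr fun s r h => by
    have h1 := congrArg (fun v => f v e') h
    have h2 := congrArg (fun v => f v e) h
    simp only [hf.bilinear.add_left, hf.bilinear.smul_left, hf.alternating, he, hf.skew e' e,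
      Transvec.zero_left' hf] at h1 h2
    exact ⟨by linear_combination h1, by linear_combination -h2⟩
  have hsp := hli.span_eq_top_of_card_eq_finrank (by simp)
  have hx : x ∈ Submodule.span F (Set.range ![e, e']) := hsp ▸ Submodule.mem_top
  simp only [Matrix.range_cons, Matrix.range_empty, Set.union_empty, Set.singleton_union] at hx
  obtain ⟨a, b, rfl⟩ := Submodule.mem_span_pair.mp hx
  simp only [hf.bilinear.add_left, hf.bilinear.smul_left, hf.alternating, he, hf.skew e' e]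
  simp

lemma root_unit_sum (hf : Cfsg.Geo.IsSymplecticForm f) {v v' : Fin 2 → F} (hv : f v v' = 1) :
    outer f v v * outer f v' v' + outer f v' v' * outer f v v = -1 :=
  Matrix.ext_iff_mulVec.2 fun x => by
    rw [add_mulVec, ← mulVec_mulVec, ← mulVec_mulVec, outer_mulVec hf v' v' x, outer_mulVec hf v v x, mulVec_smul,
      mulVec_smul, outer_mulVec hf, outer_mulVec hf, hv, hf.skew v' v, hv, neg_mulVec, one_mulVec, neg_one_smul,
      one_smul, smul_neg]
    conv_rhs => rw [eq_comb hf hv x]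
    module

/-- Every element lies in the tensor wreath group. -/
theorem PHyp.tw_two (H : PHyp f M) (h5 : 5 ≤ Nat.card F) {g : GL (Idx (T + 2) 2) F} (hg : g ∈ M) : IsTW g := by
  classical
  have hf := H.symp
  obtain ⟨p, hp⟩ := CharP.exists F
  haveI : Fact p.Prime := ⟨CharP.char_is_prime F p⟩
  have hp2 : p ≠ 2 := by
    rintro rfl
    exact H.two (by simpa using CharP.cast_eq_zero F 2)
  obtain ⟨D, hD⟩ : ∃ D, D = pDuo hf (T + 1) := ⟨_, rfl⟩
  have hDf : D.f = f := by rw [hD]; rfl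
  obtain ⟨e, he0⟩ : ∃ e : Fin 2 → F, e ≠ 0 := ⟨Pi.single 0 1, by simp⟩
  obtain ⟨e', he⟩ : ∃ e', f e e' = 1 := by
    obtain ⟨z, hz⟩ := (hf.nondegenerate e he0).2
    exact ⟨(f e z)⁻¹ • z, by rw [hf.bilinear.smul_right, inv_mul_cancel₀ hz]⟩
  obtain ⟨X, hX⟩ : ∃ X, X = slotEl (0 : Fin (T + 2)) (ptr f e 1) := ⟨_, rfl⟩
  obtain ⟨N, hN⟩ : ∃ N, N = g.val * emb (0 : Fin (T + 2)) (outer f e e) * g⁻¹.val := ⟨_, rfl⟩
  have hroot : ∀ v c, (slotEl (0 : Fin (T + 2)) (ptr f v c)).val = 1 + c • emb 0 (outer f v v) := fun v c => by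
    rw [slotEl_val, ptr_val hf, emb_add, emb_one, emb_smul]
  have hgroot : ∀ c, (g * slotEl (0 : Fin (T + 2)) (ptr f e c) * g⁻¹).val = 1 + c • N := fun c => by
    rw [Units.val_mul, Units.val_mul, hroot, hN, mul_add, mul_one, add_mul, Units.mul_inv, Matrix.mul_smul,
      Matrix.smul_mul]
  have hsqv : ∀ v, emb (0 : Fin (T + 2)) (outer f v v) * emb 0 (outer f v v) = 0 := fun v => by
    rw [← emb_mul, outer_sq hf, hf.alternating, zero_smul]
    exact (embL (0 : Fin (T + 2))).map_zero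
  have hNsq : N * N = 0 := by
    rw [hN, show g.val * emb (0 : Fin (T + 2)) (outer f e e) * g⁻¹.val *
      (g.val * emb (0 : Fin (T + 2)) (outer f e e) * g⁻¹.val) =
      g.val * (emb (0 : Fin (T + 2)) (outer f e e) * ((g⁻¹.val * g.val) * emb (0 : Fin (T + 2)) (outer f e e))) * g⁻¹.val
      by simp only [mul_assoc], Units.inv_mul, one_mul, hsqv, mul_zero, zero_mul]
  -- the blocks
  by_cases hnil : ∃ v, v ≠ 0 ∧ IsNilpotent (emb (0 : Fin (T + 2)) (outer f v v) * N)
  · obtain ⟨v, hv, n, hn⟩ := hnil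
    refine H.tw_of_nil hg he0 hv (r := 0) (i := 0) (N := n) ?_
    rw [hroot, hgroot, one_smul, one_smul, add_sub_cancel_left, add_sub_cancel_left, hn]
  push Not at hnil
  have hblock : ∀ v, v ≠ 0 → ∃ l : F, l ≠ 0 ∧ D.cR v v (slotA 0 N) = l • 1 := by
    intro v hv
    obtain ⟨v', hv'⟩ : ∃ v', f v v' = 1 := by
      obtain ⟨z, hz⟩ := (hf.nondegenerate v hv).2
      exact ⟨(f v z)⁻¹ • z, by rw [hf.bilinear.smul_right, inv_mul_cancel₀ hz]⟩
    obtain ⟨N₁, hN₁⟩ : ∃ N₁, N₁ = emb (0 : Fin (T + 2)) (outer f v v) := ⟨_, rfl⟩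
    obtain ⟨N', hN'⟩ : ∃ N', N' = emb (0 : Fin (T + 2)) (outer f v' v') := ⟨_, rfl⟩
    have hone : N₁ * N' + N' * N₁ = -1 := by
      rw [hN₁, hN', ← emb_mul, ← emb_mul, ← emb_add, root_unit_sum hf hv']
      exact ((embL (0 : Fin (T + 2))).map_neg (1 : Matrix (Fin 2) (Fin 2) F)).trans (congrArg Neg.neg (emb_one (0 : Fin (T + 2))))
    have hHK : ∀ w, N₁ *ᵥ w = 0 → ∃ z, w = N₁ *ᵥ z := fun w hw => by
      refine ⟨-(N' *ᵥ w), ?_⟩
      have e := congrArg (· *ᵥ w) hone
      simp only [add_mulVec, ← mulVec_mulVec, hw, mulVec_zero, add_zero, neg_mulVec, one_mulVec] at e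
      rw [mulVec_neg, e, neg_neg]
    obtain ⟨Dg, hDg⟩ : ∃ Dg : Subgroup (GL (Idx (T + 2) 2) F),
        Dg = Subgroup.closure {g' | ∃ c : F, g'.val = 1 + c • N₁ ∨ g'.val = 1 + c • N} := ⟨_, rfl⟩
    have hDM : Dg ≤ M := by
      rw [hDg, Subgroup.closure_le]
      rintro g' ⟨c, hc | hc⟩
      · exact (Units.ext (by rw [hc, hroot, hN₁]) : slotEl (0 : Fin (T + 2)) (ptr f v c) = g') ▸ H.ctx.root 0 v c
      · exact (Units.ext (by rw [hc, hgroot]) : g * slotEl (0 : Fin (T + 2)) (ptr f e c) * g⁻¹ = g') ▸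
          mul_mem (mul_mem hg (H.ctx.root 0 e c)) (inv_mem hg)
    have hform : ∀ Y, slotA 0 (N₁ * Y * N₁) = D.cR v v (slotA 0 Y) ⊗ₖ outer f v v := fun Y => by
      have h := D.outer_sand v v (slotA 0 Y)
      rw [hDf] at h
      rw [map_mul, map_mul, hN₁, slotA_emb_same, h]
    obtain ⟨l, hl⟩ := SLRing.scalar_of_shears p hp2 h5 (N₂ := N) (hN₁ ▸ hsqv v) hNsq hDg hHK
      (fun h hh B hB hv1 => by
        have hZ : B * N₁ = N₁ * (-(B * N')) * N₁ := by
          have e : B * N₁ * (N' * N₁) = B * N₁ * (N₁ * N' + N' * N₁) := by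
            rw [mul_add, mul_assoc B N₁ (N₁ * N'), ← mul_assoc N₁ N₁ N', hN₁, hsqv, zero_mul, mul_zero, zero_add]
          rw [hone, mul_neg, mul_one, hB.eq] at e
          rw [mul_neg, neg_mul, ← mul_assoc N₁ B N', mul_assoc (N₁ * B) N' N₁, e, neg_neg]
          exact hB.eq
        obtain ⟨c, hc⟩ := (side_of H.symp H.ctx H.nns 0).scalar (slotG 0 h) ⟨h, hDM hh, rfl⟩ v hv
          (D.cR v v (slotA 0 (-(B * N')))) (by
            change (slotG 0 h).val = 1 + _ ⊗ₖ outer f v v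
            rw [slotG_val, hv1, map_add, map_one, hZ, hform])
        refine ⟨c, (slotA (0 : Fin (T + 2))).injective ?_⟩
        rw [hZ, hform, hc, map_smul, hN₁, slotA_emb_same, smul_kronecker])
      (hN₁ ▸ hnil v hv)
    have h0 := hform N
    rw [hl, map_smul, hN₁, slotA_emb_same, ← smul_kronecker] at h0
    refine ⟨l, fun hl0 => hnil v hv ⟨2, ?_⟩, ?_⟩
    · rw [← hN₁, pow_two, ← mul_assoc, hl, hl0, zero_smul, zero_mul]
    · refine Matrix.ext fun a b => ?_
      obtain ⟨i, j, hij⟩ : ∃ i j, outer f v v i j ≠ 0 := by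
        by_contra hall
        push Not at hall
        have h := congrArg (· *ᵥ v') (Matrix.ext hall : outer f v v = 0)
        simp only [outer_mulVec hf, hf.skew v' v, hv', zero_mulVec, neg_one_smul, neg_eq_zero] at h
        exact hv h
      exact (mul_right_cancel₀ hij (congrFun (congrFun h0 (a, i)) (b, j))).symm
  obtain ⟨l, hl0, hl⟩ := hblock e he0
  have he'0 : e' ≠ 0 := fun h => by rw [h, Transvec.zero_right' hf] at he; exact zero_ne_one he
  obtain ⟨m, -, hm⟩ := hblock e' he'0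
  obtain ⟨r, -, hr⟩ := hblock (e + e') fun h => by
    have := congrArg (fun v => f e v) h
    simp only [hf.bilinear.add_right, hf.alternating, he, Transvec.zero_right' hf, zero_add] at this
    exact one_ne_zero this
  obtain ⟨s, hs⟩ : ∃ s : F, D.cR e e' (slotA 0 N) + D.cR e' e (slotA 0 N) = (2 * s) • 1 := by
    refine ⟨(r - l - m) / 2, ?_⟩
    rw [D.cR_add_left, D.cR_add_right, D.cR_add_right, hl, hm] at hr
    rw [mul_div_cancel₀ _ H.two, sub_smul, sub_smul, ← hr]
    abel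
  obtain ⟨P, hP⟩ : ∃ P, P = D.cR e' e (slotA 0 N) - s • 1 := ⟨_, rfl⟩
  obtain ⟨K, hK⟩ : ∃ K, K = (-l) • outer f e' e' + (-m) • outer f e e + s • (outer f e e' + outer f e' e) := ⟨_, rfl⟩
  have hKv : ∀ x, K *ᵥ x = (-l * f x e') • e' + (-m * f x e) • e + s • (f x e' • e + f x e • e') := fun x => by
    rw [hK]; simp only [add_mulVec, smul_mulVec, outer_mulVec hf, smul_smul, smul_add]
  have hdec : slotA 0 N = P ⊗ₖ (1 : Matrix (Fin 2) (Fin 2) F) +
      (1 : Matrix (Fin (2 ^ (T + 1))) (Fin (2 ^ (T + 1))) F) ⊗ₖ K := by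
    refine D.eq_of_cR fun a b => ?_
    rw [D.cR_add, D.cR_kron, D.cR_kron, one_mulVec, hDf]
    obtain ⟨a₁, a₂, rfl⟩ : ∃ a₁ a₂, a = a₁ • e + a₂ • e' :=
      ⟨f a e', -f a e, by rw [neg_smul, ← sub_eq_add_neg]; exact eq_comb hf he a⟩
    obtain ⟨b₁, b₂, rfl⟩ : ∃ b₁ b₂, b = b₁ • e + b₂ • e' :=
      ⟨f b e', -f b e, by rw [neg_smul, ← sub_eq_add_neg]; exact eq_comb hf he b⟩
    simp only [D.cR_add_left, D.cR_add_right, D.cR_smul_left, D.cR_smul_right, hl, hm]
    have hee' : D.cR e e' (slotA 0 N) = (2 * s) • 1 - D.cR e' e (slotA 0 N) := eq_sub_of_add_eq hs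
    rw [hee', hP, hKv]
    simp only [hf.bilinear.add_left, hf.bilinear.add_right, hf.bilinear.smul_left, hf.bilinear.smul_right,
      hf.alternating, he, hf.skew e' e]
    module
  have hKK : f (K *ᵥ e) e = l ∧ f (K *ᵥ (K *ᵥ e)) e = 0 := by
    constructor
    · rw [hKv]
      simp only [hf.bilinear.add_left, hf.bilinear.smul_left, hf.alternating, he, hf.skew e' e]
      ring
    · rw [hKv, hKv]
      simp only [hf.bilinear.add_left, hf.bilinear.smul_left, hf.alternating, he, hf.skew e' e]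
      ring
  have hP0 : P = 0 := by
    have h := congrArg (slotA (0 : Fin (T + 2))) hNsq
    rw [map_mul, map_zero, hdec, add_mul, mul_add, mul_add, ← mul_kronecker_mul, ← mul_kronecker_mul,
      ← mul_kronecker_mul, ← mul_kronecker_mul, mul_one, one_mul, one_mul, mul_one] at h
    have hc := congrArg (D.cR e e) h
    rw [D.cR_add, D.cR_add, D.cR_add, D.cR_zero, D.cR_kron, D.cR_kron, D.cR_kron, D.cR_kron, hDf] at hc
    simp only [← mulVec_mulVec, one_mulVec, hf.alternating, hKK.1, hKK.2, zero_smul, zero_add, add_zero, mul_one,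
      one_mul, ← add_smul, ← two_mul, smul_eq_zero] at hc
    have hc' : 2 * P = 0 := by simpa [H.two, hl0] using hc
    rw [two_mul, ← two_smul F P, smul_eq_zero] at hc'
    exact hc'.resolve_left H.two
  rw [hP0, zero_kronecker, zero_add] at hdec
  have hKsq : K * K = 0 := by
    have h := congrArg (slotA (0 : Fin (T + 2))) hNsq
    rw [map_mul, map_zero, hdec, ← mul_kronecker_mul, mul_one] at h
    refine Matrix.ext fun i j => ?_
    have := congrFun (congrFun h (⟨0, Nat.pow_pos two_pos⟩, i)) (⟨0, Nat.pow_pos two_pos⟩, j)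
    simpa using this
  obtain ⟨τ, hτ⟩ : ∃ τ : GL (Fin 2) F, τ.val = 1 + K :=
    ⟨⟨1 + K, 1 - K, by simp [mul_sub, add_mul, hKsq], by simp [mul_add, sub_mul, hKsq]⟩, rfl⟩
  have hY : g * X * g⁻¹ = slotEl (0 : Fin (T + 2)) τ := by
    refine Units.ext ?_
    rw [hX, hgroot, one_smul, slotEl_val, hτ, emb_add, emb_one]
    congr 1
    apply (slotA (0 : Fin (T + 2))).injective
    rw [hdec, slotA_emb_same]
  exact H.tw_of_pimg hg he0 (H.pimg_of_conj 0 he0 (hX ▸ hY ▸ ⟨_, _, slotEl_data 0 τ⟩))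

end CfsgLib.Classical22.TPow
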