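/-
The dichotomy and the maximality in tensor coordinates.
-/
import Cfsg.Agent.Lib.Classical22.TensorPower.Four
import Cfsg.Agent.Lib.Classical22.TensorPower.Two
import Cfsg.Agent.Lib.Classical22.TensorPower.Full

set_option autoImplicit false
set_option linter.unusedSectionVars false
set_option linter.unusedSimpArgs false

namespace CfsgLib.Classical22.TPow

open Matrix Kronecker CfsgLib.Transvec CfsgLib.Classical22.TensorMax CfsgLib.Classical22.TensorMax.SympO
open CfsgLib.Classical22.TWMax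
open scoped MatrixGroups

variable {F : Type*} [Field F] [Fintype F] {k : ℕ} {f : (Fin k → F) → (Fin k → F) → F}

lemma exists_sq_ne_one (h5 : 5 ≤ Nat.card F) : ∃ a : F, a ≠ 0 ∧ a * a ≠ 1 := by
  classical
  by_contra hall
  push Not at hall
  have hsub : (Finset.univ : Finset F) ⊆ {0, 1, -1} := fun a _ => by
    by_cases ha : a = 0
    · simp [ha]
    · rcases mul_self_eq_one_iff.mp (hall a ha) with h | h <;> simp [h]
  have := (Finset.card_le_card hsub).trans Finset.card_le_three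
  rw [Finset.card_univ, ← Nat.card_eq_fintype_card] at this
  omega

/-- Without non-scalar slot shears the group lies in the tensor wreath group. -/
theorem pDich (hf : Cfsg.Geo.IsSymplecticForm f) (h2 : (2 : F) ≠ 0) (hk : 4 ≤ k ∨ (k = 2 ∧ 5 ≤ Nat.card F))
    (t : ℕ) : PDich F f t := by
  induction t with
  | zero => exact fun M _ => Or.inr fun g _ => isTW_one g
  | succ T ih =>
    intro M C
    refine or_iff_not_imp_left.mpr fun hns g hg => ?_
    rcases hk with hk4 | ⟨rfl, h5⟩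
    · exact PHyp.tw_four ⟨hf, h2, by omega, Or.inl hk4, C, hns, ih⟩ hk4 hg
    · exact PHyp.tw_two ⟨hf, h2, le_rfl, Or.inr (exists_sq_ne_one h5), C, hns, ih⟩ h5 hg

lemma iso_ptr_slot {t : ℕ} (hf : Cfsg.Geo.IsSymplecticForm f) (s : Fin (t + 1)) (u : Fin k → F) (c : F) :
    PIso f (slotEl s (ptr f u c)) := by
  refine (iso_slotG hf (s := s)).mp ?_
  rw [slotG_root hf]
  unfold Duo.Iso
  have h : ((pDuo hf t).tr u c).valᵀ * gram (pDuo hf t).f * ((pDuo hf t).tr u c).val = gram (pDuo hf t).f := by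
    refine Matrix.ext fun i j => ?_
    have e := ptr_form hf u (Pi.single i 1) (Pi.single j 1) c
    rw [form_eq_dot hf, form_eq_dot hf, mulVec_mulVec, dotProduct_mulVec, ← mulVec_transpose, mulVec_mulVec,
      ← mul_assoc] at e
    change ((ptr f u c).valᵀ * gram f * (ptr f u c).val) i j = gram f i j
    simpa [dotProduct_single, mulVec_single_one] using e
  change ((1 : Matrix (Fin (k ^ t)) (Fin (k ^ t)) F) ⊗ₖ ((pDuo hf t).tr u c).val)ᵀ * ((pDuo hf t).GR ⊗ₖ gram (pDuo hf t).f) *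
    ((1 : Matrix (Fin (k ^ t)) (Fin (k ^ t)) F) ⊗ₖ ((pDuo hf t).tr u c).val) = (pDuo hf t).GR ⊗ₖ gram (pDuo hf t).f
  rw [← kroneckerMap_transpose, transpose_one, ← mul_kronecker_mul, ← mul_kronecker_mul, one_mul, mul_one, h]

lemma iso_perm {t : ℕ} (σ : Equiv.Perm (Fin t)) : PIso f (permGL (F := F) (m := k) σ) := by
  have h1 : permMat (F := F) (m := k) σ.symm * pG t f * permMat σ = pG t f :=
    mat_ext_pv fun xs => by
      rw [← mulVec_mulVec, ← mulVec_mulVec, permMat_mulVec, pG, tmat_mulVec, permMat_mulVec, tmat_mulVec]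
      simp
  have h2 : (permMat (F := F) (m := k) σ)ᵀ = permMat σ.symm := by
    ext x y
    simp only [permMat, transpose_apply]
    refine if_congr ?_ rfl rfl
    constructor <;> intro h <;> subst h <;> funext i <;> simp
  rw [PIso, show (permGL (F := F) (m := k) σ).val = permMat σ from rfl, h2, h1]

/-- A group between the stabiliser and the isometries is one of them. -/
theorem mem_dich {t : ℕ} (hf : Cfsg.Geo.IsSymplecticForm f) (h2 : (2 : F) ≠ 0)
    (hk : 4 ≤ k ∨ (k = 2 ∧ 5 ≤ Nat.card F)) (ht : Odd (t + 1)) {M : Subgroup (GL (Idx (t + 1) k) F)}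
    (hle : ∀ g, IsTW g → PIso f g → g ∈ M) (hiso : ∀ g ∈ M, PIso f g) :
    (∀ g ∈ M, IsTW g) ∨ ∀ g, PIso f g → g ∈ M := by
  have C : PCtx f M := ⟨hiso, fun s u c => hle _ ⟨_, _, slotEl_data s _⟩ (iso_ptr_slot hf s u c)⟩
  rcases pDich hf h2 hk t M C with hns | h
  · right
    intro g hg
    have hperm : ∀ σ : Equiv.Perm (Fin (t + 1)), permGL σ ∈ M := fun σ =>
      hle _ ⟨σ.symm, fun _ => 1, fun xs => by rw [permGL_apply]; simp⟩ (iso_perm σ)
    exact iso_mem_of_full (isSymplectic_pForm hf h2 ht)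
      (full_all hf (isSymplectic_pForm hf h2 ht) C hperm h2 (by omega) ht hns) ((iso_pForm_iff g).mp hg)
  · exact Or.inl h

/-- A transvection at a pure centre is outside the tensor wreath group. -/
theorem not_tw_sT {t : ℕ} (hf : Cfsg.Geo.IsSymplecticForm f) (h2 : (2 : F) ≠ 0) (hk : 2 ≤ k) (ht : Odd (t + 1))
    (ht1 : 1 ≤ t) {u : Fin (t + 1) → Fin k → F} (hu : ∀ l, u l ≠ 0) {c : F} (hc : c ≠ 0) :
    ¬ IsTW (sT (pForm f) (pv u) c) := fun htw => by
  classical
  have hg := isSymplectic_pForm (t := t + 1) hf h2 ht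
  have hpu : pv u ≠ 0 := pv_ne_zero hu
  obtain ⟨w, hw⟩ := (hg.nondegenerate _ hpu).1
  have hmv : mv (sT (pForm f) (pv u) c) = Submodule.span F {pv u} := by
    refine le_antisymm (fun x hx => ?_) ?_
    · obtain ⟨y, rfl⟩ := mem_mv.mp hx
      rw [sT_mulVec hg, add_sub_cancel_left]
      exact Submodule.smul_mem _ _ (Submodule.mem_span_singleton_self _)
    · rw [Submodule.span_singleton_le_iff_mem, mem_mv]
      refine ⟨(c * pForm f w (pv u))⁻¹ • w, ?_⟩
      rw [sT_mulVec hg, add_sub_cancel_left, smul_left' hg,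
        show c * ((c * pForm f w (pv u))⁻¹ * pForm f w (pv u)) = (c * pForm f w (pv u))⁻¹ * (c * pForm f w (pv u)) by ring,
        inv_mul_cancel₀ (mul_ne_zero hc hw), one_smul]
  have hsq : ((sT (pForm f) (pv u) c).val - 1) *
      ((sT (pForm f) (pv u) c).val - 1) = 0 :=
    Matrix.ext_iff_mulVec.2 fun x => by
      simp [← mulVec_mulVec, sub_mulVec, sT_mulVec hg, smul_left' hg, sub_left' hg, add_left' hg, hg.alternating,
        mulVec_sub, mulVec_add, mulVec_smul]
  have hne : sT (pForm f) (pv u) c ≠ 1 := fun h => by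
    rw [h] at hmv
    have : pv u ∈ mv (1 : GL (Idx (t + 1) k) F) := hmv ▸ Submodule.mem_span_singleton_self _
    obtain ⟨y, hy⟩ := mem_mv.mp this
    rw [Units.val_one, one_mulVec, sub_self] at hy
    exact hpu hy.symm
  obtain ⟨s, v, hv, he⟩ := pure_of_sq h2 hk htw hne hsq (by
    rw [hmv, finrank_span_singleton hpu]; exact Nat.one_le_pow _ _ (by omega))
  have := finrank_slotW s hv
  rw [← he, hmv, finrank_span_singleton hpu] at this
  exact absurd this (Nat.one_lt_pow (by omega) (by omega)).ne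

/-- An isometry outside the tensor wreath group. -/
theorem exists_not_tw {t : ℕ} (hf : Cfsg.Geo.IsSymplecticForm f) (h2 : (2 : F) ≠ 0) (hk : 2 ≤ k) (ht : Odd (t + 1))
    (ht1 : 1 ≤ t) : ∃ g : GL (Idx (t + 1) k) F, PIso f g ∧ ¬ IsTW g := by
  obtain ⟨u, hu⟩ : ∃ u : Fin k → F, u ≠ 0 := ⟨Pi.single ⟨0, by omega⟩ 1, by simp⟩
  exact ⟨_, (iso_pForm_iff _).mpr (iso_sT (isSymplectic_pForm (t := t + 1) hf h2 ht) _ _),
    not_tw_sT hf h2 hk ht ht1 (u := fun _ => u) (fun _ => hu) one_ne_zero⟩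

end CfsgLib.Classical22.TPow
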