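/-
Characteristic two: an algebra of matrices stable under the symplectic roots of every slot contains a whole slot.
-/
import Cfsg.Agent.Lib.Classical22.TensorPower.Descend

set_option autoImplicit false
set_option linter.unusedSectionVars false
set_option linter.unusedSimpArgs false

namespace CfsgLib.Classical22.TPow

open Matrix Kronecker CfsgLib.Transvec CfsgLib.Classical22.TensorMax CfsgLib.Classical22.TensorMax.SympO
open CfsgLib.Classical22.TWMax (Idx tmat mat_ext_pv flatE slotE emb embL emb_add emb_mul emb_smul emb_one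
  eq_top_of_slots)
open scoped MatrixGroups

variable {F : Type*} [Field F] {t T k : ℕ} {f : (Fin k → F) → (Fin k → F) → F}

/-- Stability under the roots of every slot, in characteristic two. -/
def Stab2 (f : (Fin k → F) → (Fin k → F) → F) (Z : Submodule F (Matrix (Idx t k) (Idx t k) F)) : Prop :=
  ∀ (l : Fin t) (u : Fin k → F) (c : F), ∀ X ∈ Z,
    (1 + c • emb l (outer f u u)) * X * (1 + c • emb l (outer f u u)) ∈ Z

variable (hf : Cfsg.Geo.IsSymplecticForm f)
include hf

lemma outer_mul' (a b c d : Fin k → F) : outer f a b * outer f c d = f c b • outer f a d :=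
  Matrix.ext_iff_mulVec.2 fun z => by
    rw [← mulVec_mulVec, outer_mulVec hf, outer_mulVec hf, smul_mulVec, outer_mulVec hf, smul_left' hf, smul_smul,
      mul_comm]

lemma outer_add_right (a b c : Fin k → F) : outer f a (b + c) = outer f a b + outer f a c :=
  Matrix.ext_iff_mulVec.2 fun z => by
    rw [add_mulVec, outer_mulVec hf, outer_mulVec hf, outer_mulVec hf, add_right' hf, add_smul]

lemma outer_smul_right (a b : Fin k → F) (c : F) : outer f a (c • b) = c • outer f a b :=
  Matrix.ext_iff_mulVec.2 fun z => by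
    rw [smul_mulVec, outer_mulVec hf, outer_mulVec hf, smul_right' hf, smul_smul]

/-- A space of matrices containing the non-isotropic rank-one elements is everything. -/
theorem top_of_outer {S : Submodule F (Matrix (Fin k) (Fin k) F)} (h : ∀ x y, f y x ≠ 0 → outer f x y ∈ S)
    (W : Matrix (Fin k) (Fin k) F) : W ∈ S := by
  classical
  have hall : ∀ x y, outer f x y ∈ S := fun x y => by
    by_cases hyx : f y x = 0
    · by_cases hx : x = 0
      · rw [show outer f x y = 0 from Matrix.ext_iff_mulVec.2 fun z => by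
          rw [outer_mulVec hf, hx, smul_zero, zero_mulVec]]
        exact S.zero_mem
      · obtain ⟨u, hu⟩ := (hf.nondegenerate x hx).1
        have h1 : f (y + u) x ≠ 0 := by rwa [add_left' hf, hyx, zero_add]
        have h2 := S.sub_mem (h x _ h1) (h x u hu)
        rwa [outer_add_right hf, add_sub_cancel_right] at h2
    · exact h x y hyx
  choose z hz using fun j : Fin k => exists_repr hf (Pi.single j (1 : F))
  rw [show W = ∑ j, outer f (fun i => W i j) (z j) from
    Matrix.ext fun i l => by simp [Matrix.sum_apply, outer, hz, vecMulVec_apply, Pi.single_apply]]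
  exact S.sum_mem fun j _ => hall _ _

/-- A space containing all squares of rank one and their products is everything. -/
theorem top_of_squares {S : Submodule F (Matrix (Fin k) (Fin k) F)}
    (hmul : ∀ x y, outer f x x * outer f y y ∈ S) (W : Matrix (Fin k) (Fin k) F) : W ∈ S :=
  top_of_outer hf (fun x y h => by
    have := S.smul_mem (f y x)⁻¹ (hmul x y)
    rwa [outer_mul' hf, inv_smul_smul₀ h] at this) W

/-- Non-zero matrices are linked by products of roots. -/
theorem exists_mix (R : Matrix (Idx t k) (Idx t k) F → Prop) (h1 : R 1) (hmul : ∀ a b, R a → R b → R (a * b))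
    (hroot : ∀ l u, R (1 + emb l (outer f u u))) {C C' : Matrix (Idx t k) (Idx t k) F} (hC : C ≠ 0) (hC' : C' ≠ 0) :
    ∃ τ, R τ ∧ C * τ * C' ≠ 0 := by
  classical
  by_contra hall
  push Not at hall
  obtain ⟨A, hA⟩ : ∃ A : Submodule F (Matrix (Idx t k) (Idx t k) F), ∀ Y, Y ∈ A ↔
      ∀ v, (∀ τ, R τ → (C * τ) *ᵥ v = 0) → ∀ τ, R τ → (C * τ) *ᵥ (Y *ᵥ v) = 0 :=
    ⟨{ carrier := {Y | ∀ v, (∀ τ, R τ → (C * τ) *ᵥ v = 0) → ∀ τ, R τ → (C * τ) *ᵥ (Y *ᵥ v) = 0}
       zero_mem' := fun v _ τ _ => by rw [zero_mulVec, mulVec_zero]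
       add_mem' := fun hY hY' v hv τ hτ => by rw [add_mulVec, mulVec_add, hY v hv τ hτ, hY' v hv τ hτ, add_zero]
       smul_mem' := fun c Y hY v hv τ hτ => by rw [smul_mulVec, mulVec_smul, hY v hv τ hτ, smul_zero] },
      fun Y => Iff.rfl⟩
  have hAmul : ∀ X ∈ A, ∀ Y ∈ A, X * Y ∈ A := fun X hX Y hY => (hA _).mpr fun v hv τ hτ => by
    rw [← mulVec_mulVec v X Y]
    exact (hA X).mp hX _ ((hA Y).mp hY v hv) τ hτ
  have hA1 : (1 : Matrix (Idx t k) (Idx t k) F) ∈ A := (hA _).mpr fun v hv τ hτ => by rw [one_mulVec]; exact hv τ hτ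
  have hAo : ∀ l u, emb l (outer f u u) ∈ A := fun l u => (hA _).mpr fun v hv τ hτ => by
    have h := hv _ (hmul τ _ hτ (hroot l u))
    rw [← mul_assoc, mul_add, mul_one, add_mulVec, hv τ hτ, zero_add] at h
    rwa [mulVec_mulVec]
  have htop := eq_top_of_slots hAmul hA1 fun l W => top_of_squares hf (S := A.comap (embL l))
    (fun x y => by
      rw [Submodule.mem_comap]
      change emb l _ ∈ A
      rw [emb_mul]
      exact hAmul _ (hAo l x) _ (hAo l y)) W
  have hN : ∀ v, (∀ τ, R τ → (C * τ) *ᵥ v = 0) → v = 0 := fun v hv => by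
    by_contra hv0
    obtain ⟨i, hi⟩ := Function.ne_iff.mp hv0
    refine hC (Matrix.ext_of_mulVec_single fun j => ?_)
    have h := (hA (vecMulVec (Pi.single j 1) (Pi.single i (v i)⁻¹))).mp (htop ▸ Submodule.mem_top) v hv 1 h1
    rw [mul_one, vecMulVec_mulVec, single_dotProduct, inv_mul_cancel₀ hi, op_smul_eq_smul, one_smul] at h
    rw [h, zero_mulVec]
  refine hC' (Matrix.ext_iff_mulVec.2 fun y => ?_)
  rw [zero_mulVec]
  refine hN _ fun τ hτ => ?_
  rw [mulVec_mulVec, hall τ hτ, zero_mulVec]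

variable (hc : (2 : F) = 0) (hk : 5 ≤ k)
include hc hk

/-- The algebra contains all matrices of some slot. -/
theorem slot_of_stable : ∀ (t : ℕ) (Z : Submodule F (Matrix (Idx t k) (Idx t k) F)),
    (∀ X ∈ Z, ∀ Y ∈ Z, X * Y ∈ Z) → (1 : Matrix (Idx t k) (Idx t k) F) ∈ Z → Stab2 f Z →
    (∃ X ∈ Z, ¬ ∃ c : F, X = c • 1) → ∃ l, ∀ W, emb l W ∈ Z := by
  classical
  intro t
  induction t with
  | zero =>
    rintro Z - - - ⟨X, -, hX⟩
    refine absurd ⟨X default default, Matrix.ext fun i j => ?_⟩ hX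
    rw [Subsingleton.elim i default, Subsingleton.elim j default, Matrix.smul_apply, Matrix.one_apply_eq, smul_eq_mul,
      mul_one]
  | succ T ih =>
    intro Z hmul hone hst hns
    obtain ⟨Φ, hΦ⟩ : ∃ Φ : Matrix (Idx T k) (Idx T k) F →ₗ[F] Matrix (Fin k) (Fin k) F →ₗ[F]
        Matrix (Idx (T + 1) k) (Idx (T + 1) k) F,
        ∀ C W, Φ C W = (slotA (0 : Fin (T + 1))).symm (flatA T k C ⊗ₖ W) :=
      ⟨LinearMap.mk₂ F (fun C W => (slotA (0 : Fin (T + 1))).symm (flatA T k C ⊗ₖ W))
        (fun C C' W => by rw [map_add, add_kronecker, map_add])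
        (fun c C W => by rw [map_smul, smul_kronecker, map_smul])
        (fun C W W' => by rw [kronecker_add, map_add])
        (fun c C W => by rw [kronecker_smul, map_smul]), fun C W => rfl⟩
    have hΦm : ∀ C W C' W', Φ C W * Φ C' W' = Φ (C * C') (W * W') := fun C W C' W' => by
      rw [hΦ, hΦ, hΦ, ← map_mul, ← mul_kronecker_mul, map_mul]
    have hemb0 : ∀ W, emb (0 : Fin (T + 1)) W = Φ 1 W := fun W => by
      rw [hΦ, map_one, ← slotA_emb_same, AlgEquiv.symm_apply_apply]
    have hembS : ∀ l Y, emb ((0 : Fin (T + 1)).succAbove l) Y = Φ (emb l Y) 1 := fun l Y => by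
      rw [hΦ, ← slotA_emb_other, AlgEquiv.symm_apply_apply]
    have hΦ1 : Φ 1 1 = 1 := by rw [← hemb0, emb_one]
    have hΦinj : ∀ C, Φ C 1 = 0 → C = 0 := fun C h => by
      refine (flatA T k).injective (Matrix.ext fun p q => ?_)
      rw [hΦ, ← map_zero (slotA (F := F) (k := k) (0 : Fin (T + 1))).symm] at h
      have e := Matrix.ext_iff.mpr ((slotA (0 : Fin (T + 1))).symm.injective h) (p, ⟨0, by omega⟩) (q, ⟨0, by omega⟩)
      simpa using e
    -- roots of the slot
    have hrootA : ∀ u c C W, Φ C W ∈ Z →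
        Φ C ((1 + c • outer f u u) * W * (1 + c • outer f u u)) ∈ Z := fun u c C W h => by
      have := hst 0 u c _ h
      rw [← emb_one (0 : Fin (T + 1)), ← emb_smul, ← emb_add, hemb0, hΦm, hΦm, one_mul, mul_one] at this
      exact this
    -- roots of the others
    obtain ⟨R, hR⟩ : ∃ R : Matrix (Idx T k) (Idx T k) F → Prop, ∀ τ, R τ ↔
        ∃ τ', τ' * τ = 1 ∧ ∀ X ∈ Z, Φ τ 1 * X * Φ τ' 1 ∈ Z := ⟨_, fun τ => Iff.rfl⟩
    have hR1 : R 1 := (hR _).mpr ⟨1, one_mul 1, fun X hX => by rwa [hΦ1, one_mul, mul_one]⟩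
    have hRmul : ∀ a b, R a → R b → R (a * b) := fun a b ha hb => by
      obtain ⟨a', ha1, ha2⟩ := (hR a).mp ha
      obtain ⟨b', hb1, hb2⟩ := (hR b).mp hb
      refine (hR _).mpr ⟨b' * a', by rw [mul_assoc, ← mul_assoc a', ha1, one_mul, hb1], fun X hX => ?_⟩
      have := ha2 _ (hb2 X hX)
      rw [← mul_one (1 : Matrix (Fin k) (Fin k) F), ← hΦm, ← hΦm]
      simpa only [mul_assoc, mul_one] using this
    have hsqe : ∀ (l : Fin T) u (c : F), (1 + c • emb l (outer f u u)) * (1 + c • emb l (outer f u u)) = 1 :=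
      fun l u c => by
      rw [mul_add, mul_one, add_mul, one_mul, smul_mul_assoc, mul_smul_comm, ← emb_mul, outer_mul' hf, hf.alternating,
        zero_smul, show emb l (0 : Matrix (Fin k) (Fin k) F) = 0 from (embL l).map_zero, smul_zero, smul_zero,
        add_zero, add_assoc, ← two_smul F (c • emb l (outer f u u)), hc, zero_smul, add_zero]
    have hRroot : ∀ l u, R (1 + emb l (outer f u u)) := fun l u => by
      refine (hR _).mpr ⟨1 + emb l (outer f u u), by simpa using hsqe l u 1, fun X hX => ?_⟩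
      have := hst ((0 : Fin (T + 1)).succAbove l) u 1 X hX
      rw [one_smul, hembS, ← hΦ1, ← LinearMap.add_apply, ← map_add] at this
      exact this
    -- products at one space
    obtain ⟨K, hK⟩ : ∃ K : Submodule F (Matrix (Idx T k) (Idx T k) F), ∀ C, C ∈ K ↔ ∀ W, Φ C W ∈ Z :=
      ⟨{ carrier := {C | ∀ W, Φ C W ∈ Z}
         zero_mem' := fun W => by rw [map_zero, LinearMap.zero_apply]; exact Z.zero_mem
         add_mem' := fun h h' W => by rw [map_add, LinearMap.add_apply]; exact Z.add_mem (h W) (h' W)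
         smul_mem' := fun c C h W => by rw [map_smul, LinearMap.smul_apply]; exact Z.smul_mem _ (h W) },
        fun C => Iff.rfl⟩
    have hfull : 1 ∈ K → ∃ l, ∀ W, emb l W ∈ Z := fun h => ⟨0, fun W => by rw [hemb0]; exact (hK 1).mp h W⟩
    -- some slot element does not commute
    by_cases hcomm : ∀ X ∈ Z, ∃ C, X = Φ C 1
    · obtain ⟨X, hX, hXns⟩ := hns
      obtain ⟨C, rfl⟩ := hcomm X hX
      obtain ⟨l, hl⟩ := ih (Z.comap (Φ.flip 1))
        (fun A hA B hB => by
          have := hmul _ hA _ hB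
          rw [LinearMap.flip_apply, LinearMap.flip_apply, hΦm, one_mul] at this
          exact this)
        (by rw [Submodule.mem_comap, LinearMap.flip_apply, hΦ1]; exact hone)
        (fun l u c A hA => by
          rw [Submodule.mem_comap, LinearMap.flip_apply] at hA ⊢
          have := hst ((0 : Fin (T + 1)).succAbove l) u c _ hA
          rw [hembS, ← hΦ1, ← LinearMap.smul_apply, ← map_smul, ← LinearMap.add_apply, ← map_add, hΦm, hΦm,
            mul_one, mul_one] at this
          exact this)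
        ⟨C, hX, fun ⟨c, hc'⟩ => hXns ⟨c, by rw [hc', map_smul, LinearMap.smul_apply, hΦ1]⟩⟩
      exact ⟨_, fun W => by rw [hembS]; exact hl W⟩
    push Not at hcomm
    obtain ⟨X, hX, hXn⟩ := hcomm
    obtain ⟨D, hD⟩ : ∃ D, D = pDuo hf T := ⟨_, rfl⟩
    have hDf : D.f = f := by rw [hD]; rfl
    obtain ⟨Y, hY⟩ : ∃ Y, Y = slotA (0 : Fin (T + 1)) X := ⟨_, rfl⟩
    obtain ⟨a, b, hab, hC⟩ : ∃ a b, f a b = 0 ∧ D.cR a b Y ≠ 0 := by
      by_contra h
      push Not at h
      obtain ⟨C, hC⟩ := D.kron_one_of_orth fun a b hab => h a b (hDf ▸ hab)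
      obtain ⟨C', rfl⟩ := (flatA T k).surjective C
      exact hXn C' (by rw [hΦ, ← hC, hY, AlgEquiv.symm_apply_apply])
    have hne0 : ∀ p q : Fin k → F, D.cR p q Y ≠ 0 → p ≠ 0 ∧ q ≠ 0 := fun p q h =>
      ⟨fun e => h (by rw [show p = (0 : F) • p by rw [e, smul_zero], D.cR_smul_left, zero_smul]),
       fun e => h (by rw [show q = (0 : F) • q by rw [e, smul_zero], D.cR_smul_right, zero_smul])⟩
    -- an independent pair
    obtain ⟨a, b, hab, hba', hC⟩ : ∃ a b, f a b = 0 ∧ b ∉ Submodule.span F ({a} : Set (Fin k → F)) ∧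
        D.cR a b Y ≠ 0 := by
      by_cases hb : b ∈ Submodule.span F ({a} : Set (Fin k → F))
      swap
      · exact ⟨a, b, hab, hb, hC⟩
      obtain ⟨r, rfl⟩ := Submodule.mem_span_singleton.mp hb
      obtain ⟨z, hza, -, hz⟩ := exists_perp_notMem hf hk a a
      rw [Set.pair_eq_singleton] at hz
      have haz : f a z = 0 := by rw [hf.skew, hza, neg_zero]
      by_cases hz0 : D.cR a z Y = 0
      · refine ⟨a, r • a + z, by rw [add_right' hf, haz, smul_right' hf, hf.alternating, mul_zero, add_zero],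
          fun hm => hz (by simpa using Submodule.sub_mem _ hm (Submodule.smul_mem _ r
            (Submodule.mem_span_singleton_self a))), ?_⟩
        rwa [D.cR_add_right, hz0, add_zero]
      · exact ⟨a, z, haz, hz, hz0⟩
    obtain ⟨C, hC₀⟩ := (flatA T k).surjective (D.cR a b Y)
    obtain ⟨C', hC₁⟩ := (flatA T k).surjective (D.cR b a Y)
    have hC0 : C ≠ 0 := fun h => hC (by rw [← hC₀, h, map_zero])
    have ha : a ≠ 0 := (hne0 a b hC).1
    have hba : f b a = 0 := by rw [hf.skew, hab, neg_zero]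
    have hE : Φ C (outer f a b) + Φ C' (outer f b a) ∈ Z := by
      obtain ⟨A, hA⟩ : ∃ A, A = emb (0 : Fin (T + 1)) (outer f a a) := ⟨_, rfl⟩
      obtain ⟨B, hB⟩ : ∃ B, B = emb (0 : Fin (T + 1)) (outer f b b) := ⟨_, rfl⟩
      have hAB : A * B = 0 := by
        rw [hA, hB, ← emb_mul, outer_mul' hf, hba, zero_smul]
        exact (embL (0 : Fin (T + 1))).map_zero
      have hBA : B * A = 0 := by
        rw [hA, hB, ← emb_mul, outer_mul' hf, hab, zero_smul]
        exact (embL (0 : Fin (T + 1))).map_zero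
      have h1 := Z.sub_mem (hst 0 b 1 X hX) hX
      have h2 := Z.sub_mem (hst 0 a 1 _ h1) h1
      rw [one_smul, one_smul, ← hA, ← hB] at h2
      have e : (1 + A) * ((1 + B) * X * (1 + B) - X) * (1 + A) - ((1 + B) * X * (1 + B) - X) =
          A * X * B + B * X * A := by
        have hAB' : ∀ Q, A * (B * Q) = 0 := fun Q => by rw [← mul_assoc, hAB, zero_mul]
        simp only [add_mul, mul_add, one_mul, mul_one, mul_sub, sub_mul, mul_assoc, hAB', hBA, mul_zero, add_zero,
          zero_add]
        abel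
      rw [e] at h2
      convert h2 using 1
      apply (slotA (0 : Fin (T + 1))).injective
      rw [map_add, map_add, map_mul, map_mul, map_mul, map_mul, hA, hB, slotA_emb_same, slotA_emb_same, ← hY, hΦ, hΦ,
        AlgEquiv.apply_symm_apply, AlgEquiv.apply_symm_apply, hC₀, hC₁, ← hDf, D.outer_sand, D.outer_sand]
    -- a square of rank one
    obtain ⟨C₁, x₀, hC₁0, hx₀, hC₁Z⟩ : ∃ C₁ x₀, C₁ ≠ 0 ∧ x₀ ≠ 0 ∧ Φ C₁ (outer f x₀ x₀) ∈ Z := by
      have ho : ∀ u (s : F) p q, (1 + s • outer f u u) * outer f p q * (1 + s • outer f u u) =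
          outer f (p + (s * f p u) • u) (q + (s * f q u) • u) := fun u s p q => by
        refine Matrix.ext_iff_mulVec.2 fun x => ?_
        simp only [← mulVec_mulVec, add_mulVec, one_mulVec, smul_mulVec, outer_mulVec hf, smul_add, smul_smul,
          add_right' hf, add_left' hf, smul_left' hf, smul_right' hf, mulVec_add, mulVec_smul, hf.skew u q]
        match_scalars <;> first | ring1 | (linear_combination (-(s * f x u * f q u)) * hc) |
          (linear_combination (-(s * f x u * f q u * s * f p u)) * hc) | (ring_nf; simp [hc])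
      -- products with conjugates
      have hprod : ∀ u (s : F) τ τ', (∀ X ∈ Z, Φ τ 1 * X * Φ τ' 1 ∈ Z) →
          Φ (C * (τ * C * τ')) (outer f a b * outer f (a + (s * f a u) • u) (b + (s * f b u) • u)) +
            Φ (C * (τ * C' * τ')) (outer f a b * outer f (b + (s * f b u) • u) (a + (s * f a u) • u)) +
            (Φ (C' * (τ * C * τ')) (outer f b a * outer f (a + (s * f a u) • u) (b + (s * f b u) • u)) +
            Φ (C' * (τ * C' * τ')) (outer f b a * outer f (b + (s * f b u) • u) (a + (s * f a u) • u))) ∈ Z := by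
        intro u s τ τ' hτ
        have h1 := hst 0 u s _ hE
        rw [← emb_one (0 : Fin (T + 1)), ← emb_smul, ← emb_add, hemb0, mul_add, add_mul, hΦm, hΦm, hΦm, hΦm,
          one_mul, one_mul, mul_one, mul_one, ho, ho] at h1
        have h2 := hτ _ h1
        rw [mul_add, add_mul, hΦm, hΦm, hΦm, hΦm, one_mul, one_mul, mul_one, mul_one] at h2
        have h3 := hmul _ hE _ h2
        rw [add_mul, mul_add, mul_add, hΦm, hΦm, hΦm, hΦm] at h3
        exact h3
      have hmix : ∀ C C' : Matrix (Idx T k) (Idx T k) F, C ≠ 0 → C' ≠ 0 →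
          ∃ τ τ', (∀ X ∈ Z, Φ τ 1 * X * Φ τ' 1 ∈ Z) ∧ C * (τ * C' * τ') ≠ 0 := fun C C' h h' => by
        obtain ⟨τ, hτ, hne⟩ := exists_mix hf R hR1 hRmul hRroot h h'
        obtain ⟨τ', hτ1, hτ2⟩ := (hR τ).mp hτ
        refine ⟨τ, τ', hτ2, fun e => hne ?_⟩
        calc C * τ * C' = C * (τ * C' * τ') * τ := by
              simp only [mul_assoc, hτ1, mul_one]
          _ = 0 := by rw [e, zero_mul]
      by_cases hC' : C' = 0
      · obtain ⟨τ, τ', hτ, hne⟩ := hmix C C hC0 hC0
        have hd : ∀ d, f a d ≠ 0 → f b d ≠ 0 → Φ (C * (τ * C * τ')) (outer f a d) ∈ Z := fun d h1 h2 => by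
          have hu1 : f a (d - b) = f a d := by rw [sub_right' hf, hab, sub_zero]
          have hu2 : f b (d - b) = f b d := by rw [sub_right' hf, hf.alternating, sub_zero]
          have h := hprod (d - b) (f b d)⁻¹ τ τ' hτ
          rw [hu1, hu2, inv_mul_cancel₀ h2, one_smul, add_sub_cancel, hC'] at h
          simp only [mul_zero, zero_mul, map_zero, LinearMap.zero_apply, smul_zero, add_zero, outer_mul' hf, map_smul] at h
          have hcoef : f (a + ((f b d)⁻¹ * f a d) • (d - b)) b ≠ 0 := by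
            rw [add_left' hf, hab, smul_left' hf, sub_left' hf, hf.alternating, zero_add, sub_zero]
            refine mul_ne_zero (mul_ne_zero (inv_ne_zero h2) h1) ?_
            rw [hf.skew]; exact neg_ne_zero.mpr h2
          have := Z.smul_mem (f (a + ((f b d)⁻¹ * f a d) • (d - b)) b)⁻¹ h
          rwa [inv_smul_smul₀ hcoef] at this
        obtain ⟨d, -, hd1, hd2⟩ := exists_ne_ne (P := fun _ => True) (fun _ _ _ _ => trivial)
          (φ := fun z => f a z) (ψ := fun z => f b z) (hf.bilinear.add_right a) (hf.bilinear.add_right b)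
          (((hf.nondegenerate a ha).2).imp fun _ h => ⟨trivial, h⟩)
          (((hf.nondegenerate b (hne0 a b hC).2).2).imp fun _ h => ⟨trivial, h⟩)
        refine ⟨_, a, hne, ha, ?_⟩
        have h := Z.sub_mem (hd (a + d) (by rwa [add_right' hf, hf.alternating, zero_add])
          (by rwa [add_right' hf, hba, zero_add])) (hd d hd1 hd2)
        rwa [← map_sub, outer_add_right hf, add_sub_cancel_right] at h
      · obtain ⟨τ, τ', hτ, hne⟩ := hmix C C' hC0 hC'
        obtain ⟨u, hu0, hu1⟩ := SympO.exists_dual hf hba'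
        have hau : f a u = 0 := by
          rw [hf.skew, hu0 a (Submodule.mem_span_singleton_self a), neg_zero]
        have hbu : f b u = -1 := by rw [hf.skew, hu1]
        have h := hprod u 1 τ τ' hτ
        simp only [hau, hbu, mul_zero, zero_smul, add_zero, one_mul, outer_mul' hf, add_left' hf, smul_left' hf,
          hf.alternating, hab, hba, hu0 a (Submodule.mem_span_singleton_self a), hu1, map_zero, zero_smul,
          add_zero, zero_add, neg_mul, one_mul, mul_one, map_smul] at h
        refine ⟨_, a, hne, ha, ?_⟩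
        have := Z.smul_mem (-1 : F)⁻¹ h
        rwa [inv_smul_smul₀ (neg_ne_zero.mpr one_ne_zero)] at this
    -- all squares
    have hstep : ∀ x y, f x y ≠ 0 → Φ C₁ (outer f x x) ∈ Z → Φ C₁ (outer f y y) ∈ Z := fun x y hxy h => by
      have h1 : f x (y - x) = f x y := by rw [sub_right' hf, hf.alternating, sub_zero]
      have h' := hrootA (y - x) (f x y)⁻¹ _ _ h
      convert h' using 2
      refine Matrix.ext_iff_mulVec.2 fun z => ?_
      simp only [← mulVec_mulVec, add_mulVec, one_mulVec, smul_mulVec, outer_mulVec hf, smul_smul, add_left' hf,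
        smul_left' hf, mulVec_add, mulVec_smul, hf.skew (y - x) x, h1, hf.alternating]
      rw [sub_right' hf]
      match_scalars <;> field_simp <;> first | ring1 | (linear_combination (0 : F) * hc) | (ring_nf; simp [hc])
      all_goals linear_combination (f z y) * hc
    have hsq : ∀ y, Φ C₁ (outer f y y) ∈ Z := fun y => by
      by_cases hy : y = 0
      · rw [show outer f y y = 0 from Matrix.ext_iff_mulVec.2 fun z => by
          rw [outer_mulVec hf, hy, smul_zero, zero_mulVec], map_zero]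
        exact Z.zero_mem
      obtain ⟨u, -, hu1, hu2⟩ := exists_ne_ne (P := fun _ => True) (fun _ _ _ _ => trivial)
        (φ := fun u => f x₀ u) (ψ := fun u => f u y) (hf.bilinear.add_right x₀)
        (fun u v => hf.bilinear.add_left u v y) (((hf.nondegenerate x₀ hx₀).2).imp fun _ h => ⟨trivial, h⟩)
        (((hf.nondegenerate y hy).1).imp fun _ h => ⟨trivial, h⟩)
      exact hstep u y hu2 (hstep x₀ u hu1 hC₁Z)
    -- a whole space of the slot
    obtain ⟨C₂, hC₂0, hC₂⟩ : ∃ C₂, C₂ ≠ 0 ∧ C₂ ∈ K := by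
      obtain ⟨τ, hτ, hne⟩ := exists_mix hf R hR1 hRmul hRroot hC₁0 hC₁0
      obtain ⟨τ', hτ1, hτ2⟩ := (hR τ).mp hτ
      refine ⟨C₁ * (τ * C₁ * τ'), fun e => hne ?_, (hK _).mpr fun W => ?_⟩
      · calc C₁ * τ * C₁ = C₁ * (τ * C₁ * τ') * τ := by simp only [mul_assoc, hτ1, mul_one]
          _ = 0 := by rw [e, zero_mul]
      refine top_of_squares hf (S := Z.comap (Φ (C₁ * (τ * C₁ * τ')))) (fun x y => ?_) W
      have h2 := hτ2 _ (hsq y)
      rw [hΦm, hΦm, one_mul, mul_one] at h2
      have h3 := hmul _ (hsq x) _ h2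
      rw [hΦm] at h3
      exact h3
    by_cases hK1 : 1 ∈ K
    · exact hfull hK1
    have hKmul : ∀ A ∈ K, ∀ B ∈ K, A * B ∈ K := fun A hA B hB => (hK _).mpr fun W => by
      have := hmul _ ((hK A).mp hA W) _ ((hK B).mp hB 1)
      rwa [hΦm, mul_one] at this
    obtain ⟨K', hK'⟩ : ∃ K', K' = K ⊔ Submodule.span F {(1 : Matrix (Idx T k) (Idx T k) F)} := ⟨_, rfl⟩
    have hmem : ∀ A, A ∈ K' ↔ ∃ B ∈ K, ∃ c : F, A = B + c • 1 := fun A => by
      rw [hK', Submodule.mem_sup]
      constructor
      · rintro ⟨B, hB, Q, hQ, rfl⟩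
        obtain ⟨c, rfl⟩ := Submodule.mem_span_singleton.mp hQ
        exact ⟨B, hB, c, rfl⟩
      · rintro ⟨B, hB, c, rfl⟩
        exact ⟨B, hB, _, Submodule.smul_mem _ c (Submodule.mem_span_singleton_self _), rfl⟩
    obtain ⟨l, hl⟩ := ih K'
      (fun A₀ hA₀ B₀ hB₀ => by
        obtain ⟨A, hA, p, rfl⟩ := (hmem _).mp hA₀
        obtain ⟨B, hB, q, rfl⟩ := (hmem _).mp hB₀
        refine (hmem _).mpr ⟨A * B + q • A + p • B, K.add_mem (K.add_mem (hKmul A hA B hB) (K.smul_mem q hA))
          (K.smul_mem p hB), p * q, ?_⟩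
        rw [add_mul, mul_add, mul_add, smul_mul_assoc, smul_mul_assoc, mul_smul_comm, one_mul, one_mul, mul_one,
          smul_smul]
        abel)
      ((hmem _).mpr ⟨0, K.zero_mem, 1, by rw [one_smul, zero_add]⟩)
      (fun l u c A₀ hA₀ => by
        obtain ⟨A, hA, p, rfl⟩ := (hmem _).mp hA₀
        refine (hmem _).mpr ⟨(1 + c • emb l (outer f u u)) * A * (1 + c • emb l (outer f u u)),
          (hK _).mpr fun W => ?_, p, ?_⟩
        · have := hst ((0 : Fin (T + 1)).succAbove l) u c _ ((hK A).mp hA W)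
          rw [hembS, ← hΦ1, ← LinearMap.smul_apply, ← map_smul, ← LinearMap.add_apply, ← map_add, hΦm, hΦm,
            one_mul, mul_one] at this
          exact this
        · generalize hQ : 1 + c • emb l (outer f u u) = Q
          rw [mul_add, add_mul, mul_smul_comm, smul_mul_assoc, mul_one, ← hQ, hsqe])
      ⟨C₂, (hmem _).mpr ⟨C₂, hC₂, 0, by rw [zero_smul, add_zero]⟩, fun ⟨c, hc'⟩ => hK1 (by
        have hc0 : c ≠ 0 := fun e => hC₂0 (by rw [hc', e, zero_smul])
        have := K.smul_mem c⁻¹ hC₂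
        rwa [hc', inv_smul_smul₀ hc0] at this)⟩
    refine absurd ?_ hK1
    have hnil : ∀ W : Matrix (Fin k) (Fin k) F, W * W = 0 → emb l W ∈ K := fun W hW => by
      obtain ⟨J, hJ, c, hJc⟩ := (hmem _).mp (hl W)
      have h0 : emb l W * emb l W = 0 := by rw [← emb_mul, hW]; exact (embL l).map_zero
      rw [hJc] at h0 ⊢
      by_cases hc0 : c = 0
      · rw [hc0, zero_smul, add_zero]; exact hJ
      refine absurd ?_ hK1
      have h1 : J * J + (c * c) • (1 : Matrix (Idx T k) (Idx T k) F) = 0 := by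
        rw [← h0, mul_add, add_mul, add_mul, smul_mul_assoc, smul_mul_assoc, mul_smul_comm, mul_smul_comm, one_mul,
          one_mul, mul_one, smul_smul, show J * J + c • J + (c • J + (c * c) • (1 : Matrix (Idx T k) (Idx T k) F)) =
            J * J + (c * c) • 1 + (c • J + c • J) by abel, ← two_smul F (c • J), hc, zero_smul, add_zero]
      have h2 := K.smul_mem (-(c * c))⁻¹ (hKmul J hJ J hJ)
      rwa [eq_neg_of_add_eq_zero_left h1, ← neg_smul, inv_smul_smul₀ (neg_ne_zero.mpr (mul_ne_zero hc0 hc0))] at h2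
    have hdiag : ∀ i, emb l (Matrix.single i i (1 : F)) ∈ K := fun i => by
      haveI : Nontrivial (Fin k) := Fin.nontrivial_iff_two_le.mpr (by omega)
      obtain ⟨j, hj⟩ := exists_ne i
      have h := hKmul _ (hnil (Matrix.single i j 1) (by simp [hj]))
        _ (hnil (Matrix.single j i 1) (by simp [hj.symm]))
      rwa [← emb_mul, single_mul_single_same, one_mul] at h
    rw [← emb_one (F := F) l, ← sum_single_one]
    change embL l _ ∈ K
    rw [map_sum]
    exact K.sum_mem fun i _ => hdiag i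

end CfsgLib.Classical22.TPow
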