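/-
Characteristic two: the elements T(e,w,G) on two factors, and middle blocks of unipotent elements.
-/
import Cfsg.Agent.Lib.Classical22.TensorPower.Map

set_option autoImplicit false
set_option linter.unusedSectionVars false
set_option linter.unusedSimpArgs false

namespace CfsgLib.Classical22.TPow

open Matrix Kronecker CfsgLib.Transvec CfsgLib.Classical22.TensorMax CfsgLib.Classical22.TensorMax.SympO
open CfsgLib.Classical22.TensorMax.SpO (kr kr_apply)
open scoped MatrixGroups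

variable {F : Type*} [Field F] {n k : ℕ} (D : Duo F n k)

/-- The slot roots and isometries only, in characteristic two. -/
structure Duo.Side2 (M : Subgroup (GL (Fin n × Fin k) F)) : Prop where
  two : (2 : F) = 0
  iso : ∀ g ∈ M, D.Iso g
  root : ∀ u c, slot (D.tr u c) ∈ M

/-- The nilpotent part of T(e,w,G). -/
noncomputable def Duo.tm (e w : Fin k → F) (G : Matrix (Fin n) (Fin n) F) :
    Matrix (Fin n × Fin k) (Fin n × Fin k) F := G ⊗ₖ outer D.f w e + D.adjR G ⊗ₖ outer D.f e w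

/-- The group contains T(e,w,G). -/
def Duo.HasT (M : Subgroup (GL (Fin n × Fin k) F)) (e w : Fin k → F) (G : Matrix (Fin n) (Fin n) F) : Prop :=
  ∃ h ∈ M, h.val = 1 + D.tm e w G

/-- All elements T(e,w,G) are scalar. -/
def Duo.NBad (M : Subgroup (GL (Fin n × Fin k) F)) : Prop :=
  ∀ e w G, Pair D.f e w → D.HasT M e w G → ∃ c : F, G = c • 1

lemma Duo.outer_mul (a b c d : Fin k → F) : outer D.f a b * outer D.f c d = D.f c b • outer D.f a d :=
  Matrix.ext_iff_mulVec.2 fun z => by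
    rw [← mulVec_mulVec, outer_mulVec D.symp, outer_mulVec D.symp, smul_mulVec, outer_mulVec D.symp, D.f_smul,
      smul_smul, mul_comm]

lemma Duo.GR_symm (hc : (2 : F) = 0) : D.GRᵀ = D.GR := by
  have h : (D.ε - 1) * (D.ε - 1) = 0 := by linear_combination D.sq - (D.ε - 1) * hc
  rw [D.symm, sub_eq_zero.mp (mul_self_eq_zero.mp h), one_smul]

lemma Duo.adjR_dot (hc : (2 : F) = 0) (K : Matrix (Fin n) (Fin n) F) (x y : Fin n → F) :
    x ⬝ᵥ (D.GR *ᵥ (K *ᵥ y)) = (D.adjR K *ᵥ x) ⬝ᵥ (D.GR *ᵥ y) := by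
  rw [mulVec_mulVec, dotProduct_mulVec, dotProduct_mulVec, ← mulVec_transpose, ← mulVec_transpose, mulVec_mulVec]
  congr 2
  rw [Duo.adjR, transpose_mul, D.GR_symm hc, mul_assoc, Matrix.mul_nonsing_inv_cancel_left _ _ D.unit]

/-- An isometry fixing the pure space at `v` and its flag. -/
lemma Duo.isRad_of_fix {v v' : Fin k → F} (hv : D.f v v' = 1) {g : GL (Fin n × Fin k) F} (hg : D.Iso g)
    (h1 : ∀ y, g.val *ᵥ pt y v = pt y v)
    (h2 : ∀ y b, D.f b v = 0 → ∃ z, g.val *ᵥ pt y b = pt y b + pt z v) : D.IsRad v (g.val - 1) :=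
  Duo.isRad_mk hv h1 h2 fun w => D.eq_of_dot fun y => by
    rw [← D.BV_ct, ← D.BV_ct]
    conv_lhs => rw [← h1 y]
    rw [hg.BV_eq]

variable {D} {M : Subgroup (GL (Fin n × Fin k) F)}

lemma Duo.hasT_add (hM : D.Side2 M) {e w : Fin k → F} (hew : D.f e w = 0) {G K : Matrix (Fin n) (Fin n) F}
    (hG : D.HasT M e w G) (hK : D.HasT M e w K) : D.HasT M e w (G + K) := by
  obtain ⟨g, hg, hg'⟩ := hG
  obtain ⟨h, hh, hh'⟩ := hK
  have hwe : D.f w e = 0 := by rw [D.symp.skew, hew, neg_zero]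
  have h0 : D.tm e w G * D.tm e w K = 0 := by
    simp only [Duo.tm, add_mul, mul_add, ← mul_kronecker_mul, D.outer_mul, D.symp.alternating, hew, hwe, zero_smul,
      kronecker_zero, add_zero]
  refine ⟨g * h, mul_mem hg hh, ?_⟩
  rw [Units.val_mul, hg', hh', add_mul, one_mul, mul_add, mul_one, h0, add_zero]
  simp only [Duo.tm, D.adjR_add, add_kronecker]
  abel

lemma Duo.hasT_zero (e w : Fin k → F) : D.HasT M e w 0 :=
  ⟨1, M.one_mem, by simp [Duo.tm, D.adjR_zero]⟩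

lemma Duo.hasT_scalar (hM : D.Side2 M) {e w : Fin k → F} (hew : D.f e w = 0) (c : F) :
    D.HasT M e w (c • 1) := by
  have hwe : D.f w e = 0 := by rw [D.symp.skew, hew, neg_zero]
  refine ⟨slot (D.tr (e + w) c * (D.tr e c * D.tr w c)), ?_, ?_⟩
  · rw [map_mul, map_mul]; exact mul_mem (hM.root _ _) (mul_mem (hM.root _ _) (hM.root _ _))
  have hσ : (D.tr (e + w) c * (D.tr e c * D.tr w c)).val = 1 + c • (outer D.f w e + outer D.f e w) :=
    Matrix.ext_iff_mulVec.2 fun x => by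
      simp only [Transvec.mul_mulVec, D.tr_mulVec, add_mulVec, one_mulVec, smul_mulVec, outer_mulVec D.symp, D.f_add,
        D.f_add', D.f_smul, D.symp.alternating, hew, hwe, mul_zero, add_zero, smul_add, smul_smul]
      match_scalars <;> ring_nf <;> simp [hM.two]
  rw [slot_val, hσ, kronecker_add, one_kronecker_one, kronecker_smul, kronecker_add, Duo.tm, D.adjR_smul, D.adjR_one,
    smul_kronecker, smul_kronecker, smul_add]

lemma Duo.hasT_symm {e w : Fin k → F} {G : Matrix (Fin n) (Fin n) F} (h : D.HasT M e w G) :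
    D.HasT M w e (D.adjR G) := by
  obtain ⟨g, hg, hg'⟩ := h
  exact ⟨g, hg, by rw [hg', Duo.tm, Duo.tm, D.adjR_adjR, add_comm (D.adjR G ⊗ₖ _)]⟩

/-- Conjugation by a product element. -/
theorem Duo.hasT_conj {A : GL (Fin n) F} {B : GL (Fin k) F} (hAB : kr A B ∈ M)
    (hB : ∀ x y, D.f (B.val *ᵥ x) (B.val *ᵥ y) = D.f x y) (hA : D.adjR A.val = A⁻¹.val)
    {e w : Fin k → F} {G : Matrix (Fin n) (Fin n) F} (h : D.HasT M e w G) :
    D.HasT M (B.val *ᵥ e) (B.val *ᵥ w) (A.val * G * A⁻¹.val) := by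
  obtain ⟨g, hg, hg'⟩ := h
  refine ⟨kr A B * g * (kr A B)⁻¹, mul_mem (mul_mem hAB hg) (inv_mem hAB), ?_⟩
  have ho : ∀ p q, B.val * outer D.f p q * B⁻¹.val = outer D.f (B.val *ᵥ p) (B.val *ᵥ q) := fun p q =>
    Matrix.ext_iff_mulVec.2 fun x => by
      rw [← mulVec_mulVec, ← mulVec_mulVec, outer_mulVec D.symp, outer_mulVec D.symp, mulVec_smul,
        ← hB (B⁻¹.val *ᵥ x) q, Transvec.mulVec_inv_cancel]
  have hadj : D.adjR (A.val * G * A⁻¹.val) = A.val * D.adjR G * A⁻¹.val := by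
    rw [D.adjR_mul, D.adjR_mul, hA, show D.adjR A⁻¹.val = A.val by rw [← hA, D.adjR_adjR], mul_assoc]
  have hk : (kr A B).val = A.val ⊗ₖ B.val := rfl
  have hki : (kr A B)⁻¹.val = A⁻¹.val ⊗ₖ B⁻¹.val := rfl
  rw [Units.val_mul, Units.val_mul, hg', mul_add, add_mul, mul_one, Units.mul_inv, Duo.tm, Duo.tm, hk, hki, hadj]
  simp only [mul_add, add_mul, ← mul_kronecker_mul, ho]

/-- Conjugation by a root of the slot. -/
lemma Duo.hasT_root (hM : D.Side2 M) {e w : Fin k → F} {G : Matrix (Fin n) (Fin n) F} (h : D.HasT M e w G)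
    (u : Fin k → F) (s : F) : D.HasT M (e + (s * D.f e u) • u) (w + (s * D.f w u) • u) G := by
  have := Duo.hasT_conj (A := 1) (hM.root u s) (D.tr_iso u s) (by simp [D.adjR_one]) h
  simpa [D.tr_mulVec] using this

/-- The contraction of a pulled back vector. -/
lemma Duo.ct_back (hc : (2 : F) = 0) {U : GL (Fin n × Fin k) F} (hU : D.Iso U) {a e : Fin k → F}
    {K : Matrix (Fin n) (Fin n) F} (h : ∀ y, U.val *ᵥ pt y a = pt y a + pt (K *ᵥ y) e)
    (v : Fin n × Fin k → F) : D.ct a (U⁻¹.val *ᵥ v) = D.ct a v + D.adjR K *ᵥ D.ct e v :=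
  D.eq_of_dot fun y => by
    rw [add_dotProduct, ← D.adjR_dot hc, ← D.BV_ct, ← D.BV_ct, ← D.BV_ct, ← hU.BV_eq, Transvec.mulVec_inv_cancel, h]
    simp only [Duo.BV, mulVec_add, dotProduct_add]

/-- Commutating an element moving only `w'` with T(w',w₂,G). -/
theorem Duo.hasT_comm (hM : D.Side2 M) {U : GL (Fin n × Fin k) F} (hU : U ∈ M) {e w₂ w' : Fin k → F}
    {K G : Matrix (Fin n) (Fin n) F} (h2e : D.f w₂ e = 0) (h'e : D.f w' e = 0) (h'2 : D.f w' w₂ = 0)
    (hU2 : ∀ y, U.val *ᵥ pt y w₂ = pt y w₂)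
    (hU' : ∀ y, U.val *ᵥ pt y w' = pt y w' + pt (K *ᵥ y) e) (h : D.HasT M w' w₂ G) :
    D.HasT M e w₂ (G * D.adjR K) := by
  obtain ⟨t, ht, ht'⟩ := h
  obtain ⟨X, hX⟩ : ∃ X, X = D.tm w' w₂ G := ⟨_, rfl⟩
  obtain ⟨Y, hY⟩ : ∃ Y, Y = D.tm e w₂ (G * D.adjR K) := ⟨_, rfl⟩
  have he' : D.f e w' = 0 := by rw [D.symp.skew, h'e, neg_zero]
  have h2' : D.f w₂ w' = 0 := by rw [D.symp.skew, h'2, neg_zero]
  have hconj : (U * t * U⁻¹).val = 1 + X + Y := Matrix.ext_iff_mulVec.2 fun v => by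
    have c2 : D.ct w₂ (U⁻¹.val *ᵥ v) = D.ct w₂ v := by
      rw [Duo.ct_back hM.two (hM.iso U hU) (K := 0) (e := e) fun y => by
        rw [hU2, zero_mulVec, pt_zero_left, add_zero], D.adjR_zero, zero_mulVec, add_zero]
    have c' := Duo.ct_back hM.two (hM.iso U hU) hU' v
    rw [Transvec.mul_mulVec, Transvec.mul_mulVec, ht', add_mulVec, one_mulVec, mulVec_add,
      Transvec.mulVec_inv_cancel, hX, hY, Duo.tm, Duo.tm, add_mulVec, add_mulVec, add_mulVec, add_mulVec,
      add_mulVec, one_mulVec, D.outer_vec, D.outer_vec, D.outer_vec, D.outer_vec, D.outer_vec, D.outer_vec, c2, c',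
      mulVec_add, hU2, hU', mulVec_add, pt_add_left, mulVec_mulVec, mulVec_mulVec, D.adjR_mul, D.adjR_adjR]
    abel
  have hYX : Y * X = 0 := by
    simp only [hX, hY, Duo.tm, add_mul, mul_add, ← mul_kronecker_mul, D.outer_mul, D.symp.alternating, h2e, h'e, h'2,
      h2', zero_smul, kronecker_zero, add_zero]
  have hXX : X * X = 0 := by
    simp only [hX, Duo.tm, add_mul, mul_add, ← mul_kronecker_mul, D.outer_mul, D.symp.alternating, h'2, h2',
      zero_smul, kronecker_zero, add_zero]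
  have h2X : X + X = 0 := by rw [← two_smul F X, hM.two, zero_smul]
  refine ⟨U * t * U⁻¹ * t, mul_mem (mul_mem (mul_mem hU ht) (inv_mem hU)) ht, ?_⟩
  rw [Units.val_mul, hconj, ht', ← hX, ← hY, mul_add, mul_one, add_mul, add_mul, one_mul, hXX, hYX, add_zero,
    add_zero, show 1 + X + Y + X = 1 + Y + (X + X) by abel, h2X, add_zero]

/-- An isometry of the shape of T(e,w,A) is one. -/
theorem Duo.hasT_of_shape (hM : D.Side2 M) {h : GL (Fin n × Fin k) F} (hh : h ∈ M) {e w : Fin k → F}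
    (hp : Pair D.f e w) {A B : Matrix (Fin n) (Fin n) F}
    (hval : h.val = 1 + (A ⊗ₖ outer D.f w e + B ⊗ₖ outer D.f e w)) : D.HasT M e w A := by
  obtain ⟨he0, hwe', hew⟩ := hp
  have hwe : D.f w e = 0 := by rw [D.symp.skew, hew, neg_zero]
  obtain ⟨X, hX⟩ : ∃ X, X = A ⊗ₖ outer D.f w e + B ⊗ₖ outer D.f e w := ⟨_, rfl⟩
  rw [← hX] at hval
  have hXX : X * X = 0 := by
    simp only [hX, add_mul, mul_add, ← mul_kronecker_mul, D.outer_mul, D.symp.alternating, hew, hwe, zero_smul,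
      kronecker_zero, add_zero]
  have hinv : h⁻¹.val = 1 + X := Units.inv_eq_of_mul_eq_one_right (by
    rw [hval, mul_add, mul_one, add_mul, one_mul, hXX, add_zero, add_assoc, ← two_smul F X, hM.two, zero_smul,
      add_zero])
  have hone : D.adjV (1 : Matrix (Fin n × Fin k) (Fin n × Fin k) F) = 1 := by
    rw [Duo.adjV, transpose_one, mul_one, Matrix.nonsing_inv_mul _ D.G_unit]
  have e1 := (hM.iso h hh).adjV_eq
  rw [hinv, hval, D.adjV_add, hone, add_right_inj, hX, D.adjV_add, D.adjV_kron, D.adjV_kron, adj_outer D.symp,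
    adj_outer D.symp] at e1
  obtain ⟨e', he'1, he'2⟩ := SympO.exists_dual D.symp (U := Submodule.span F {w}) (w := e) fun hm => hwe' (by
    obtain ⟨r, hr⟩ := Submodule.mem_span_singleton.mp hm
    have hr0 : r ≠ 0 := fun h0 => he0 (by rw [← hr, h0, zero_smul])
    exact Submodule.mem_span_singleton.mpr ⟨r⁻¹, by rw [← hr, inv_smul_smul₀ hr0]⟩)
  obtain ⟨w', hw'1, hw'2⟩ := SympO.exists_dual D.symp hwe'
  have h1 := hw'1 e (Submodule.mem_span_singleton_self _)
  have e2 := congrArg (D.cR e' w') e1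
  rw [D.cR_add, D.cR_add, D.cR_kron, D.cR_kron, D.cR_kron, D.cR_kron, neg_mulVec, neg_mulVec, outer_mulVec D.symp,
    outer_mulVec D.symp, h1, hw'2, one_smul, zero_smul, neg_zero] at e2
  have hfe : D.f e e' = 1 := by
    rw [D.symp.skew, he'2]; linear_combination -hM.two
  have hfe' : D.f (-e) e' = 1 := by
    rw [← neg_one_smul F e, D.f_smul, hfe]; linear_combination -hM.two
  rw [hfe, hfe', show D.f 0 e' = 0 by simpa using D.f_smul 0 0 e'] at e2
  simp only [zero_smul, one_smul, zero_add, add_zero] at e2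
  exact ⟨h, hh, by rw [hval, hX, ← e2, Duo.tm]⟩

/-- The middle blocks of a unipotent element fixing a pure space are scalar. -/
theorem Duo.beta_scalar2 (hk : 5 ≤ k) (hM : D.Side2 M) (hnb : D.NBad M) {v v' : Fin k → F} (hv : D.f v v' = 1)
    {g : GL (Fin n × Fin k) F} (hg : g ∈ M) (hr : D.IsRad v (g.val - 1)) {b : Fin k → F} (hb : D.f b v = 0) :
    ∃ c : F, D.beta v' g b = c • 1 := by
  classical
  by_cases hbv : b ∈ Submodule.span F ({v} : Set (Fin k → F))
  · obtain ⟨r, rfl⟩ := Submodule.mem_span_singleton.mp hbv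
    refine ⟨0, ?_⟩
    rw [zero_smul, Duo.beta, D.cR_smul_right,
      show D.cR v' v (g.val - 1) = 0 from Matrix.ext_iff_mulVec.2 fun y => by
        rw [D.cR_mulVec, hr.fix, map_zero, zero_mulVec], smul_zero]
  obtain ⟨w₂, h2v, h2b, h2⟩ := exists_perp_notMem D.symp hk v b
  have hb2 : b ∉ Submodule.span F ({v, w₂} : Set (Fin k → F)) := fun hm => by
    obtain ⟨p, q, hpq⟩ := Submodule.mem_span_pair.mp hm
    by_cases hq : q = 0
    · exact hbv (Submodule.mem_span_singleton.mpr ⟨p, by rw [← hpq, hq, zero_smul, add_zero]⟩)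
    · refine h2 (Submodule.mem_span_pair.mpr ⟨-(q⁻¹ * p), q⁻¹, ?_⟩)
      rw [← hpq, smul_add, inv_smul_smul₀ hq, smul_smul, neg_smul]
      abel
  obtain ⟨z', hz0, hz1⟩ := SympO.exists_dual D.symp hb2
  have hz'v := hz0 v (Submodule.subset_span (by simp))
  have hz'2 := hz0 w₂ (Submodule.subset_span (by simp))
  have hvb : D.f v b = 0 := by rw [D.symp.skew, hb, neg_zero]
  obtain ⟨X, hX⟩ : ∃ X : GL (Fin n × Fin k) F, X = slot (D.tr b 1) := ⟨_, rfl⟩
  obtain ⟨U, hU⟩ : ∃ U, U = g * X * g⁻¹ * X⁻¹ := ⟨_, rfl⟩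
  have hXM : X ∈ M := hX ▸ hM.root _ _
  have hUvec : ∀ y z, D.f z v = 0 →
      U.val *ᵥ pt y z = pt y z + pt (D.f z b • (D.beta v' g b *ᵥ y)) v := by
    intro y z hz
    obtain ⟨c, hc⟩ : ∃ c, c = D.f z b := ⟨_, rfl⟩
    have hz0 : D.f (z - c • b) v = 0 := by rw [D.f_sub, D.f_smul, hz, hb, mul_zero, sub_zero]
    have hXv : ∀ x, X.val *ᵥ pt x v = pt x v := fun x => by
      rw [hX, slot_pt, D.tr_mulVec, hvb, mul_zero, zero_smul, add_zero]
    have hXz : X.val *ᵥ pt y (z - c • b) = pt y z := by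
      rw [hX, slot_pt, D.tr_mulVec, D.f_sub, D.f_smul, D.symp.alternating, mul_zero, sub_zero, one_mul, hc,
        sub_add_cancel]
    have hXi : X⁻¹.val *ᵥ pt y z = pt y (z - c • b) := mulVec_injective X (by
      simp only
      rw [Transvec.mulVec_inv_cancel, hXz])
    have hbeta : D.beta v' g (z - c • b) = D.beta v' g z - c • D.beta v' g b := by
      rw [Duo.beta, Duo.beta, Duo.beta, sub_eq_add_neg, ← neg_smul, D.cR_add_right, D.cR_smul_right, neg_smul,
        ← sub_eq_add_neg]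
    obtain ⟨hri, hbi⟩ := Duo.rad_inv hv hr
    rw [hU, Transvec.mul_mulVec, hXi, Transvec.mul_mulVec, Transvec.mul_mulVec, Duo.rad_vec hv hri y hz0, hbi _ hz0,
      mulVec_add, hXz, hXv, mulVec_add, Duo.rad_vec hv hr y hz, Duo.rad_fix hv hr, hbeta, ← hc, add_assoc,
      ← pt_add_left]
    congr 2
    simp only [neg_mulVec, sub_mulVec, smul_mulVec]
    abel
  have hp : Pair D.f v w₂ := by
    refine ⟨fun h0 => hb2 ?_, fun hm => h2 (Submodule.span_mono (by simp) hm),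
      by rw [D.symp.skew, h2v, neg_zero]⟩
    rw [h0, show D.f 0 v' = 0 by simpa using D.f_smul 0 0 v'] at hv
    exact absurd hv zero_ne_one
  have hT := Duo.hasT_comm hM (U := U) (hU ▸ mul_mem (mul_mem (mul_mem hg hXM) (inv_mem hg)) (inv_mem hXM))
    h2v hz'v hz'2 (K := D.beta v' g b) (fun y => by rw [hUvec y w₂ h2v, h2b, zero_smul, pt_zero_left, add_zero])
    (fun y => by rw [hUvec y z' hz'v, hz1, one_smul]) (Duo.hasT_scalar hM hz'2 (1 : F))
  rw [one_smul, one_mul] at hT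
  obtain ⟨c, hc⟩ := hnb v w₂ _ hp hT
  exact ⟨c, by rw [← D.adjR_adjR (D.beta v' g b), hc, D.adjR_smul, D.adjR_one]⟩

end CfsgLib.Classical22.TPow
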