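/-
Characteristic two: an element mapping one pure subspace to another, away from one corner.
-/
import Cfsg.Agent.Lib.Classical22.TensorPower.EvenEngine

set_option autoImplicit false
set_option linter.unusedSectionVars false
set_option linter.unusedSimpArgs false

namespace CfsgLib.Classical22.TPow

open Matrix Kronecker CfsgLib.Transvec CfsgLib.Classical22.TensorMax CfsgLib.Classical22.TensorMax.SympO
open CfsgLib.Classical22.TensorMax.SpO (kr kr_apply)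
open scoped MatrixGroups

variable {F : Type*} [Field F] {n k : ℕ}

/-- A vector orthogonal to everything orthogonal to `u` is pure at `u`. -/
lemma Duo.eq_pure_of_ct (D : Duo F n k) {u u' : Fin k → F} (hu : D.f u u' = 1) {w : Fin n × Fin k → F}
    (h : ∀ m, D.f m u = 0 → D.ct m w = 0) : w = pt (D.ct u' w) u := by
  rw [← sub_eq_zero]
  refine D.eq_zero_of_ct fun a => ?_
  have hm : D.f (a + D.f a u • u') u = 0 := by rw [D.f_add, D.f_smul, D.symp.skew u' u, hu]; ring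
  have h1 := h _ hm
  rw [D.ct_add, D.ct_smul, add_eq_zero_iff_eq_neg] at h1
  rw [map_sub, D.ct_pt, h1, D.symp.skew u a, neg_smul, sub_self]

/-- Equal pure vectors have dependent second factors. -/
lemma Duo.mem_span_of_pt (D : Duo F n k) {y y' : Fin n → F} (hy : y ≠ 0) {z u : Fin k → F} (h : pt y z = pt y' u) :
    z ∈ Submodule.span F ({u} : Set (Fin k → F)) := by
  by_contra hz
  obtain ⟨a, ha0, ha1⟩ := SympO.exists_dual D.symp hz
  have e := congrArg (D.ct a) h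
  rw [D.ct_pt, D.ct_pt, D.symp.skew z a, D.symp.skew u a, ha1, ha0 u (Submodule.mem_span_singleton_self u), neg_zero,
    zero_smul, neg_one_smul, neg_eq_zero] at e
  exact hy e

/-- The radical slot element. -/
lemma Duo.exists_q2 (D : Duo F n k) {M : Subgroup (GL (Fin n × Fin k) F)} (hM : D.Side2 M) {v w : Fin k → F} (hw : D.f w v = 0) :
    ∃ σ : GL (Fin k) F, slot σ ∈ M ∧ ∀ x, σ.val *ᵥ x = x + D.f x w • v + D.f x v • w := by
  refine ⟨D.tr (v + w) 1 * (D.tr v (-1) * D.tr w (-1)), ?_, fun x => ?_⟩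
  · rw [map_mul, map_mul]
    exact mul_mem (hM.root _ _) (mul_mem (hM.root _ _) (hM.root _ _))
  · rw [Transvec.mul_mulVec, Transvec.mul_mulVec, D.tr_mulVec, D.tr_mulVec, D.tr_mulVec]
    simp only [D.f_add, D.f_add', D.f_smul, D.f_smul', D.symp.alternating, hw, D.symp.skew v w, mul_zero, neg_zero,
      add_zero]
    funext i
    simp only [Pi.add_apply, Pi.smul_apply, smul_eq_mul]
    ring

variable {D : Duo F n k} {u v : Fin k → F} {L : GL (Fin n) F} {gg : GL (Fin n × Fin k) F}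
  (hiso : D.Iso gg) (hW : ∀ y, gg.val *ᵥ pt y u = pt (L.val *ᵥ y) v)
  {Mi Mj : Subgroup (GL (Fin n × Fin k) F)} (hi : D.Side2 Mi) (hj : D.Side2 Mj) (hk : 5 ≤ k) (hu : u ≠ 0) (hv : v ≠ 0)
include hiso hW hi hj hk hu hv

/-- The middle blocks of the inverse. -/
theorem Duo.middle2 (hnj : D.NBad Mj) (hconj : ∀ h ∈ Mi, gg * h * gg⁻¹ ∈ Mj) {m b : Fin k → F}
    (hm : D.f m u = 0) (hb : D.f b v = 0) : ∃ c : F, D.cR m b gg⁻¹.val = c • L⁻¹.val := by
  obtain ⟨v', hv'⟩ := D.exists_dual hv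
  obtain ⟨σ, hσM, hσ⟩ := D.exists_q2 hi hm
  obtain ⟨r, hr⟩ : ∃ r, r = gg * slot σ * gg⁻¹ := ⟨_, rfl⟩
  have hrM : r ∈ Mj := hr ▸ hconj _ hσM
  have hσw : ∀ w : Fin n × Fin k → F, D.ct u w = 0 → (slot σ).val *ᵥ w = w + pt (D.ct m w) u := fun w hw => by
    rw [slot_val, show σ.val = 1 + outer D.f u m + outer D.f m u from Matrix.ext_iff_mulVec.2 fun x => by
      rw [hσ, add_mulVec, add_mulVec, one_mulVec, outer_mulVec D.symp, outer_mulVec D.symp]]
    rw [kronecker_add, kronecker_add, one_kronecker_one, add_mulVec, add_mulVec, one_mulVec, D.outer_vec,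
      D.outer_vec, one_mulVec, one_mulVec, hw, pt_zero_left, add_zero]
  have hvec : ∀ y x, D.f x v = 0 → r.val *ᵥ pt y x = pt y x + pt ((L.val * D.cR m x gg⁻¹.val) *ᵥ y) v := by
    intro y x hx
    rw [hr, Transvec.mul_mulVec, Transvec.mul_mulVec, hσw _ (Duo.ct_back_zero hiso hW y hx), mulVec_add,
      Transvec.mulVec_inv_cancel, hW, ← D.cR_mulVec, mulVec_mulVec]
  have hrad : D.IsRad v (r.val - 1) := D.isRad_of_fix hv' (hj.iso r hrM) (fun y => by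
      rw [hr, Transvec.mul_mulVec, Transvec.mul_mulVec, Duo.map_inv hW, slot_pt, hσ, D.symp.alternating,
        D.symp.skew u m, hm, neg_zero, zero_smul, zero_smul, add_zero, add_zero, hW, Transvec.mulVec_inv_cancel])
    (fun y x hx => ⟨_, hvec y x hx⟩)
  obtain ⟨c, hc⟩ := Duo.beta_scalar2 hk hj hnj hv' hrM hrad hb
  rw [Duo.beta_of_vec hv' fun y => hvec y b hb] at hc
  refine ⟨c, ?_⟩
  have := congrArg (L⁻¹.val * ·) hc
  simpa [← mul_assoc] using this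

variable (hni : D.NBad Mi) (hnj : D.NBad Mj) (hconj : ∀ h ∈ Mi, gg * h * gg⁻¹ ∈ Mj)
  (hconj' : ∀ h ∈ Mj, gg⁻¹ * h * gg⁻¹⁻¹ ∈ Mi) (hn : 0 < n)
include hni hnj hconj hconj' hn

/-- The same for the element itself. -/
theorem Duo.middle2' {a z : Fin k → F} (ha : D.f a v = 0) (hz : D.f z u = 0) :
    ∃ c : F, D.cR a z gg.val = c • L.val := by
  have h := Duo.middle2 (u := v) (v := u) (L := L⁻¹) (Duo.iso_inv' hiso) (Duo.map_inv hW) hj hi hk hv hu hni hconj'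
    ha hz
  rwa [inv_inv, inv_inv] at h

/-- The first factor is a similitude. -/
theorem Duo.exists_sim2 : ∃ c₀ : F, c₀ ≠ 0 ∧ D.adjR L.val = c₀ • L⁻¹.val ∧ D.adjR L⁻¹.val = c₀⁻¹ • L.val ∧
    ∀ w, L.val *ᵥ D.ct u w = c₀ • D.ct v (gg.val *ᵥ w) := by
  classical
  obtain ⟨u', hu'⟩ := D.exists_dual hu
  obtain ⟨b, hb, -, hbv⟩ := exists_perp_notMem D.symp hk v v
  rw [Set.pair_eq_singleton] at hbv
  obtain ⟨y, hy⟩ : ∃ y : Fin n → F, y ≠ 0 := ⟨Pi.single ⟨0, hn⟩ 1, by simp⟩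
  obtain ⟨m, hm, hmb⟩ : ∃ m, D.f m u = 0 ∧ D.cR m b gg⁻¹.val ≠ 0 := by
    by_contra hall
    push Not at hall
    have h1 := D.eq_pure_of_ct hu' (w := gg⁻¹.val *ᵥ pt y b) fun m hm => by
      rw [← D.cR_mulVec, hall m hm, zero_mulVec]
    have h2 := congrArg (gg.val *ᵥ ·) h1
    simp only [Transvec.mulVec_inv_cancel, hW] at h2
    exact hbv (D.mem_span_of_pt hy h2)
  obtain ⟨c1, h1⟩ := Duo.middle2 hiso hW hi hj hk hu hv hnj hconj hm hb
  obtain ⟨c2, h2⟩ := Duo.middle2' hiso hW hi hj hk hu hv hni hnj hconj hconj' hn hb hm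
  have hc1 : c1 ≠ 0 := fun h0 => hmb (by rw [h1, h0, zero_smul])
  have hL0 : D.adjR L⁻¹.val ≠ 0 := fun h0 => by
    have h := congrArg D.adjR h0
    rw [D.adjR_adjR, D.adjR_zero] at h
    exact Transvec.mulVec_ne_zero L⁻¹ hy (by rw [h, zero_mulVec])
  have hadjV : gg.val = D.adjV gg⁻¹.val := by rw [(Duo.iso_inv' hiso).adjV_eq, inv_inv]
  have e : D.cR b m gg.val = -(c1 • D.adjR L⁻¹.val) := by rw [hadjV, D.cR_adj, h1, D.adjR_smul]
  obtain ⟨μ, hμ⟩ : ∃ μ : F, D.adjR L⁻¹.val = μ • L.val := by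
    refine ⟨-c2 / c1, ?_⟩
    rw [h2, eq_neg_iff_add_eq_zero, add_comm, ← eq_neg_iff_add_eq_zero] at e
    rw [div_eq_inv_mul, mul_smul, neg_smul, ← e, inv_smul_smul₀ hc1]
  have hμ0 : μ ≠ 0 := fun h0 => hL0 (by rw [hμ, h0, zero_smul])
  have hadj : D.adjR L.val = μ⁻¹ • L⁻¹.val := by
    have h := congrArg D.adjR hμ
    rw [D.adjR_adjR, D.adjR_smul] at h
    rw [h, inv_smul_smul₀ hμ0]
  refine ⟨μ⁻¹, inv_ne_zero hμ0, hadj, by rw [inv_inv, hμ], fun w => D.eq_of_dot fun y => ?_⟩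
  obtain ⟨y', rfl⟩ : ∃ y', L.val *ᵥ y' = y := ⟨L⁻¹.val *ᵥ y, Transvec.mulVec_inv_cancel _ _⟩
  rw [D.adjR_dot hi.two, hadj, smul_mulVec, smul_dotProduct, Transvec.inv_mulVec_cancel, smul_dotProduct,
    Duo.ct_map hiso hW]

/-- Away from the opposite corner the element is pure. -/
theorem Duo.pure_perp {z : Fin k → F} (hz : D.f z u = 0) :
    ∃ s, ∀ y, gg.val *ᵥ pt y z = pt (L.val *ᵥ y) s := by
  classical
  by_cases hzu : z ∈ Submodule.span F ({u} : Set (Fin k → F))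
  · obtain ⟨a, rfl⟩ := Submodule.mem_span_singleton.mp hzu
    exact ⟨a • v, fun y => by rw [pt_smul_right, mulVec_smul, hW, pt_smul_right]⟩
  obtain ⟨v', hv'⟩ := D.exists_dual hv
  obtain ⟨c₀, hc0, hadj, -, -⟩ := Duo.exists_sim2 hiso hW hi hj hk hu hv hni hnj hconj hconj' hn
  obtain ⟨y₀, hy₀, ψ, hψ⟩ : ∃ y₀ : Fin n → F, y₀ ≠ 0 ∧ ∃ ψ, ψ ⬝ᵥ y₀ = 1 :=
    ⟨Pi.single ⟨0, hn⟩ 1, by simp, Pi.single ⟨0, hn⟩ 1, by simp⟩
  obtain ⟨s, hs⟩ : ∃ s, s = SympO.slA ψ (gg.val *ᵥ pt (L⁻¹.val *ᵥ y₀) z) := ⟨_, rfl⟩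
  have hblock : ∀ a, D.f a v = 0 → D.cR a z gg.val = D.f s a • L.val := fun a ha => by
    obtain ⟨c, hc⟩ := Duo.middle2' hiso hW hi hj hk hu hv hni hnj hconj hconj' hn ha hz
    have e : D.f s a = c := by
      rw [form_eq_dot D.symp, hs, ← dot_sl_slA]
      change ψ ⬝ᵥ D.ct a _ = c
      rw [← D.cR_mulVec, hc, smul_mulVec, Transvec.mulVec_inv_cancel, dotProduct_smul, hψ, smul_eq_mul, mul_one]
    rw [hc, e]
  have hsv : D.f s v = 0 := by
    rw [form_eq_dot D.symp, hs, ← dot_sl_slA]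
    change ψ ⬝ᵥ D.ct v _ = 0
    rw [Duo.ct_map_zero hiso hW (by rw [D.ct_pt, hz, zero_smul]), dotProduct_zero]
  obtain ⟨R, hR⟩ : ∃ R, R = D.cR v' z gg.val - D.f s v' • L.val := ⟨_, rfl⟩
  have hgz : ∀ y, gg.val *ᵥ pt y z = pt (L.val *ᵥ y) s + pt (R *ᵥ y) v := fun y => by
    have h1 := D.eq_pure_of_ct hv' (w := gg.val *ᵥ pt y z - pt (L.val *ᵥ y) s) fun a ha => by
      rw [map_sub, ← D.cR_mulVec, hblock a ha, D.ct_pt, smul_mulVec, sub_self]
    rw [map_sub, D.ct_pt, ← D.cR_mulVec, show D.cR v' z gg.val *ᵥ y - D.f s v' • (L.val *ᵥ y) = R *ᵥ y by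
      rw [hR, sub_mulVec, smul_mulVec], sub_eq_iff_eq_add'] at h1
    exact h1
  have hs' : s ∉ Submodule.span F ({v} : Set (Fin k → F)) := fun hm => hzu (by
    obtain ⟨a, ha⟩ := Submodule.mem_span_singleton.mp hm
    refine D.mem_span_of_pt (y := L⁻¹.val *ᵥ y₀) (Transvec.mulVec_ne_zero _ hy₀)
      (y' := L⁻¹.val *ᵥ (a • y₀ + R *ᵥ (L⁻¹.val *ᵥ y₀))) (Transvec.mulVec_injective gg ?_)
    simp only
    rw [hgz, hW, Transvec.mulVec_inv_cancel, Transvec.mulVec_inv_cancel, pt_add_left, ← ha, pt_smul_right,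
      pt_smul_left])
  obtain ⟨r, hr⟩ : ∃ r, r = gg * slot (D.tr z 1) * gg⁻¹ * slot (D.tr s (-c₀)) := ⟨_, rfl⟩
  have hrM : r ∈ Mj := hr ▸ mul_mem (hconj _ (hi.root z 1)) (hj.root s _)
  have hvs : D.f v s = 0 := by rw [D.symp.skew, hsv, neg_zero]
  have hcz : ∀ w, D.ct v w = 0 → D.ct z (gg⁻¹.val *ᵥ w) = c₀ • (L⁻¹.val *ᵥ D.ct s w) := fun w hw =>
    D.eq_of_dot fun y => by
      rw [← D.BV_ct, ← hiso.BV_eq, Transvec.mulVec_inv_cancel, hgz, show D.BV w (pt (L.val *ᵥ y) s + pt (R *ᵥ y) v) =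
        D.BV w (pt (L.val *ᵥ y) s) + D.BV w (pt (R *ᵥ y) v) by simp only [Duo.BV, mulVec_add, dotProduct_add],
        D.BV_ct, D.BV_ct, hw, zero_dotProduct, add_zero, D.adjR_dot hi.two, hadj, smul_mulVec]
  have hX : ∀ w, (gg * slot (D.tr z 1) * gg⁻¹).val *ᵥ w =
      w + pt (L.val *ᵥ D.ct z (gg⁻¹.val *ᵥ w)) s + pt (R *ᵥ D.ct z (gg⁻¹.val *ᵥ w)) v := fun w => by
    rw [Transvec.mul_mulVec, Transvec.mul_mulVec, slot_val, show (D.tr z 1).val = 1 + outer D.f z z from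
      Matrix.ext_iff_mulVec.2 fun x => by rw [D.tr_mulVec, add_mulVec, one_mulVec, outer_mulVec D.symp, one_mul],
      kronecker_add, one_kronecker_one, add_mulVec, one_mulVec, D.outer_vec, one_mulVec, mulVec_add,
      Transvec.mulVec_inv_cancel, hgz, add_assoc]
  have hvec : ∀ y b, D.f b v = 0 →
      r.val *ᵥ pt y b = pt y b + pt ((c₀ * D.f b s) • (R *ᵥ (L⁻¹.val *ᵥ y))) v := fun y b hb => by
    have hw : D.ct v (pt y b + (-c₀ * D.f b s) • pt y s) = 0 := by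
      rw [map_add, map_smul, D.ct_pt, D.ct_pt, hb, hsv, zero_smul, smul_zero, add_zero]
    have hcs : D.ct s (pt y b + (-c₀ * D.f b s) • pt y s) = D.f b s • y := by
      rw [map_add, map_smul, D.ct_pt, D.ct_pt, D.symp.alternating, zero_smul, smul_zero, add_zero]
    rw [hr, Transvec.mul_mulVec, slot_pt, D.tr_mulVec, pt_add_right, pt_smul_right, hX, hcz _ hw, hcs]
    simp only [mulVec_smul, Transvec.mulVec_inv_cancel, smul_smul, pt_smul_left]
    module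
  have hfix : ∀ y, r.val *ᵥ pt y v = pt y v := fun y => by
    rw [hvec y v (D.symp.alternating v), hvs, mul_zero, zero_smul, pt_zero_left, add_zero]
  have hrad : D.IsRad v (r.val - 1) := D.isRad_of_fix hv' (hj.iso r hrM) hfix fun y b hb => ⟨_, hvec y b hb⟩
  obtain ⟨b, hb0, hb1⟩ := SympO.exists_dual D.symp hs'
  have hbv := hb0 v (Submodule.mem_span_singleton_self v)
  obtain ⟨c, hc⟩ := Duo.beta_scalar2 hk hj hnj hv' hrM hrad hbv
  rw [Duo.beta_of_vec hv' (B := (c₀ * D.f b s) • (R * L⁻¹.val)) fun y => by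
    rw [hvec y b hbv, smul_mulVec, mulVec_mulVec], hb1, mul_one] at hc
  have hRL : R = (c₀⁻¹ * c) • L.val := by
    have h := congrArg (fun X => c₀⁻¹ • (X * L.val)) hc
    simpa [smul_smul, hc0, mul_assoc] using h
  refine ⟨s + (c₀⁻¹ * c) • v, fun y => ?_⟩
  rw [hgz, hRL, smul_mulVec, pt_add_right, pt_smul_right, pt_smul_left]

end CfsgLib.Classical22.TPow
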