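/-
Characteristic two: an element conjugating one group into another and mapping a pure subspace to one is a Kronecker
product.
-/
import Cfsg.Agent.Lib.Classical22.TensorPower.EvenMap
import Cfsg.Agent.Lib.Classical22.TensorPower.Clean

set_option autoImplicit false
set_option linter.unusedSectionVars false
set_option linter.unusedSimpArgs false

namespace CfsgLib.Classical22.TPow

open Matrix Kronecker CfsgLib.Transvec CfsgLib.Classical22.TensorMax CfsgLib.Classical22.TensorMax.SympO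
open CfsgLib.Classical22.TensorMax.SpO (kr kr_apply isKron_kr)
open scoped MatrixGroups

variable {F : Type*} [Field F] {n k : ℕ} {D : Duo F n k}

/-- The main statement on two factors, characteristic two. -/
theorem Duo.isKron_of_map2 (hk : 5 ≤ k) (hn : 0 < n) {Mi Mj : Subgroup (GL (Fin n × Fin k) F)}
    (hi : D.Side2 Mi) (hj : D.Side2 Mj) (hni : D.NBad Mi) (hnj : D.NBad Mj)
    {gg : GL (Fin n × Fin k) F} (hiso : D.Iso gg) (hconj : ∀ h ∈ Mi, gg * h * gg⁻¹ ∈ Mj)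
    (hconj' : ∀ h ∈ Mj, gg⁻¹ * h * gg⁻¹⁻¹ ∈ Mi)
    {u v : Fin k → F} (hu : u ≠ 0) (hv : v ≠ 0) {L : GL (Fin n) F}
    (hW : ∀ y, gg.val *ᵥ pt y u = pt (L.val *ᵥ y) v) : IsKron gg := by
  classical
  obtain ⟨u', hu'⟩ := D.exists_dual hu
  obtain ⟨v', hv'⟩ := D.exists_dual hv
  have hconj'' : ∀ h ∈ Mi, gg⁻¹⁻¹ * h * gg⁻¹⁻¹⁻¹ ∈ Mj := by rw [inv_inv]; exact hconj
  obtain ⟨c₀, hc0, hadjL, hadj, hc₀⟩ := Duo.exists_sim2 hiso hW hi hj hk hu hv hni hnj hconj hconj' hn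
  obtain ⟨y₀, y₁, hy⟩ : ∃ y₀ y₁ : Fin n → F, y₀ ⬝ᵥ (D.GR *ᵥ y₁) ≠ 0 := by
    by_contra hall
    push Not at hall
    have := D.eq_of_dot (p := Pi.single ⟨0, hn⟩ 1) (q := 0) fun y => by rw [hall, zero_dotProduct]
    simpa using congrFun this ⟨0, hn⟩
  have hLL : ∀ x y, (L.val *ᵥ x) ⬝ᵥ (D.GR *ᵥ (L.val *ᵥ y)) = c₀ * (x ⬝ᵥ (D.GR *ᵥ y)) := fun x y => by
    rw [D.adjR_dot hi.two, hadjL, smul_mulVec, Transvec.inv_mulVec_cancel, smul_dotProduct, smul_eq_mul]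
  -- all blocks but one are multiples of `L`
  have hfor : ∀ a b, D.f b u = 0 → ∃ c : F, D.cR a b gg.val = c • L.val := fun a b hb => by
    obtain ⟨s, hs⟩ := Duo.pure_perp hiso hW hi hj hk hu hv hni hnj hconj hconj' hn hb
    exact ⟨D.f s a, Matrix.ext_iff_mulVec.2 fun y => by rw [D.cR_mulVec, hs, D.ct_pt, smul_mulVec]⟩
  have hadjV : gg.val = D.adjV gg⁻¹.val := by rw [(Duo.iso_inv' hiso).adjV_eq, inv_inv]
  have hrev : ∀ a b, D.f a v = 0 → ∃ c : F, D.cR a b gg.val = c • L.val := fun a b ha => by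
    obtain ⟨s, hs⟩ := Duo.pure_perp (u := v) (v := u) (L := L⁻¹) (Duo.iso_inv' hiso) (Duo.map_inv hW) hj hi hk hv hu
      hnj hni hconj' hconj'' hn ha
    refine ⟨-(D.f s b) * c₀⁻¹, ?_⟩
    rw [hadjV, D.cR_adj, show D.cR b a gg⁻¹.val = D.f s b • L⁻¹.val from Matrix.ext_iff_mulVec.2 fun y => by
      rw [D.cR_mulVec, hs, D.ct_pt, smul_mulVec], D.adjR_smul, hadj, smul_smul, neg_mul, neg_smul]
  have hcv : ∀ b, D.cR v b gg.val = (c₀⁻¹ * D.f b u) • L.val := fun b => Matrix.ext_iff_mulVec.2 fun y => by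
    rw [D.cR_mulVec, smul_mulVec, mul_smul, ← mulVec_smul, ← D.ct_pt, hc₀, inv_smul_smul₀ hc0]
  -- remove the shear
  obtain ⟨S, hS⟩ : ∃ S, S = (-c₀) • (D.cR v' u' gg.val * L⁻¹.val) := ⟨_, rfl⟩
  obtain ⟨g0, hg0⟩ : ∃ g0, g0 = (D.sh S v)⁻¹ * gg := ⟨_, rfl⟩
  have hblk : ∀ a b, D.cR a b g0.val = D.cR a b gg.val - (D.f v a * D.f b u * c₀⁻¹) • (S * L.val) := fun a b => by
    refine Matrix.ext_iff_mulVec.2 fun y => ?_
    rw [D.cR_mulVec, hg0, Transvec.mul_mulVec, sub_mulVec, D.cR_mulVec, smul_mulVec, ← mulVec_mulVec]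
    change D.ct a ((1 - S ⊗ₖ outer D.f v v) *ᵥ (gg.val *ᵥ pt y b)) = _
    rw [sub_mulVec, one_mulVec, map_sub, D.outer_vec, D.ct_pt, ← D.cR_mulVec v, hcv, smul_mulVec, mulVec_smul,
      smul_smul, mul_assoc, mul_comm (D.f b u)]
  have hP : ∀ a b, ∃ c : F, D.cR a b g0.val = c • L.val := by
    intro a b
    obtain ⟨a', ha'⟩ : ∃ a', a' = a - (-D.f a v) • v' := ⟨_, rfl⟩
    obtain ⟨b', hb'⟩ : ∃ b', b' = b - (-D.f b u) • u' := ⟨_, rfl⟩
    have hav : D.f a' v = 0 := by rw [ha', D.f_sub, D.f_smul, D.symp.skew v' v, hv']; ring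
    have hbu : D.f b' u = 0 := by rw [hb', D.f_sub, D.f_smul, D.symp.skew u' u, hu']; ring
    obtain ⟨c1, h1⟩ := hrev a' b' hav
    obtain ⟨c2, h2'⟩ := hrev a' u' hav
    obtain ⟨c3, h3⟩ := hfor v' b' hbu
    have hcorner : D.cR v' u' g0.val = 0 := by
      rw [hblk, hS, hv', D.symp.skew u' u, hu', Matrix.smul_mul, Units.inv_mul_cancel_right, smul_smul,
        show (1 : F) * (-1 : F) * c₀⁻¹ * -c₀ = c₀⁻¹ * c₀ by ring, inv_mul_cancel₀ hc0, one_smul, sub_self]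
    refine ⟨c1 + (-D.f b u) * c2 + (-D.f a v) * c3, ?_⟩
    rw [show a = a' + (-D.f a v) • v' by rw [ha', sub_add_cancel], show b = b' + (-D.f b u) • u' by
      rw [hb', sub_add_cancel]]
    simp only [D.cR_add_left, D.cR_add_right, D.cR_smul_left, D.cR_smul_right]
    rw [hcorner, hblk, hblk, hblk, h1, h2', h3, D.symp.skew v a', hav, hbu,
      show a' + (-D.f a v) • v' = a by rw [ha', sub_add_cancel],
      show b' + (-D.f b u) • u' = b by rw [hb', sub_add_cancel]]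
    simp only [neg_zero, zero_mul, mul_zero, zero_smul, sub_zero, smul_zero, add_zero, smul_smul, ← add_smul]
  obtain ⟨σ, hσ⟩ := D.kron_of_cR hP
  have hdet : IsUnit σ.det := by
    have h := (Matrix.isUnit_iff_isUnit_det g0.val).mp g0.isUnit
    rw [hσ, det_kronecker, IsUnit.mul_iff, Fintype.card_fin n, isUnit_pow_iff hn.ne'] at h
    exact h.2
  obtain ⟨σG, hσG⟩ : ∃ σG : GL (Fin k) F, σG.val = σ :=
    ⟨Matrix.nonsingInvUnit σ hdet, rfl⟩
  have hg0k : g0 = kr L σG := Units.ext (by rw [hσ, ← hσG]; rfl)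
  have hgg : gg = D.sh S v * kr L σG := by rw [← hg0k, hg0, mul_inv_cancel_left]
  have hggv : ∀ y b, gg.val *ᵥ pt y b = pt (L.val *ᵥ y) (σ *ᵥ b) + pt (D.f (σ *ᵥ b) v • (S *ᵥ (L.val *ᵥ y))) v := by
    intro y b
    rw [hgg, Transvec.mul_mulVec, kr_apply, hσG]
    change (1 + S ⊗ₖ outer D.f v v) *ᵥ _ = _
    rw [add_mulVec, one_mulVec, D.outer_pt]
  -- the second factor is a similitude
  have hσv : ∀ b, D.f (σ *ᵥ b) v = c₀⁻¹ * D.f b u := by
    intro b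
    have e := congrArg (fun X => y₀ ⬝ᵥ (D.GR *ᵥ (X *ᵥ (L⁻¹.val *ᵥ y₁)))) (D.cR_kron v b L.val σ)
    simp only [← hσ, hblk, D.symp.alternating, zero_mul, zero_smul, sub_zero, hcv, smul_mulVec,
      Transvec.mulVec_inv_cancel, mulVec_smul, dotProduct_smul, smul_eq_mul] at e
    exact (mul_right_cancel₀ hy e).symm
  have hsim : ∀ b b', D.f (σ *ᵥ b) (σ *ᵥ b') = c₀⁻¹ * D.f b b' := by
    have h0 : ∀ b b', D.f b' u = 0 → D.f (σ *ᵥ b) (σ *ᵥ b') = c₀⁻¹ * D.f b b' := by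
      intro b b' hb'
      have e := Duo.Iso.BV_eq D hiso (pt y₀ b) (pt y₁ b')
      rw [hggv, hggv, hσv b', hb', mul_zero, zero_smul, pt_zero_left, add_zero, Duo.BV, add_dotProduct,
        ← Duo.BV, ← Duo.BV, D.BV_pt, D.BV_pt, D.BV_pt, hLL, D.symp.skew v (σ *ᵥ b'), hσv b', hb', mul_zero,
        neg_zero, mul_zero, add_zero] at e
      have : c₀ * D.f (σ *ᵥ b) (σ *ᵥ b') = D.f b b' :=
        mul_left_cancel₀ hy (by linear_combination e)
      rw [← this, ← mul_assoc, inv_mul_cancel₀ hc0, one_mul]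
    intro b b'
    obtain ⟨p, hp⟩ : ∃ p, p = b - (-D.f b u) • u' := ⟨_, rfl⟩
    obtain ⟨q, hq⟩ : ∃ q, q = b' - (-D.f b' u) • u' := ⟨_, rfl⟩
    have hpu : D.f p u = 0 := by rw [hp, D.f_sub, D.f_smul, D.symp.skew u' u, hu']; ring
    have hqu : D.f q u = 0 := by rw [hq, D.f_sub, D.f_smul, D.symp.skew u' u, hu']; ring
    rw [show b = p + (-D.f b u) • u' by rw [hp, sub_add_cancel],
      show b' = q + (-D.f b' u) • u' by rw [hq, sub_add_cancel]]
    simp only [mulVec_add, mulVec_smul, D.f_add, D.f_add', D.f_smul, D.f_smul', D.symp.alternating]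
    rw [h0 p q hqu, h0 u' q hqu, D.symp.skew (σ *ᵥ p) (σ *ᵥ u'), h0 u' p hpu, D.symp.skew p u']
    ring
  -- the shear is self-adjoint
  have hSs : D.adjR S = S := Matrix.ext_iff_mulVec.2 fun x => D.eq_of_dot fun y => by
    obtain ⟨x', rfl⟩ : ∃ x', L.val *ᵥ x' = x := ⟨L⁻¹.val *ᵥ x, Transvec.mulVec_inv_cancel _ _⟩
    obtain ⟨y', rfl⟩ : ∃ y', L.val *ᵥ y' = y := ⟨L⁻¹.val *ᵥ y, Transvec.mulVec_inv_cancel _ _⟩
    have e := Duo.Iso.BV_eq D hiso (pt x' u') (pt y' u')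
    rw [hggv, hggv, Duo.BV, add_dotProduct, mulVec_add, dotProduct_add, dotProduct_add, ← Duo.BV, ← Duo.BV, ← Duo.BV,
      ← Duo.BV, D.BV_pt, D.BV_pt, D.BV_pt, D.BV_pt, D.BV_pt, D.symp.alternating, D.symp.alternating,
      D.symp.alternating, D.symp.skew v (σ *ᵥ u'), hσv, D.symp.skew u' u, hu', mul_zero, mul_zero, zero_add, add_zero,
      mulVec_smul, dotProduct_smul, smul_dotProduct, smul_eq_mul, smul_eq_mul, D.adjR_dot hi.two] at e
    have hne : c₀⁻¹ * c₀⁻¹ ≠ 0 := mul_ne_zero (inv_ne_zero hc0) (inv_ne_zero hc0)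
    refine mul_left_cancel₀ hne ?_
    linear_combination e
  -- the shear normalises the slot
  have hH : ∀ w c, D.sh S v * slot (D.tr w c) * (D.sh S v)⁻¹ ∈ Mj := by
    intro w c
    obtain ⟨x, hx⟩ : ∃ x, x = σG⁻¹.val *ᵥ w := ⟨_, rfl⟩
    have hw : σ *ᵥ x = w := by rw [hx, ← hσG, Transvec.mulVec_inv_cancel]
    have e : kr L σG * slot (D.tr x (c * c₀⁻¹)) = slot (D.tr w c) * kr L σG := Units.ext <| mat_ext_pt fun y b => by
      rw [Transvec.mul_mulVec, Transvec.mul_mulVec, slot_pt, kr_apply, kr_apply, slot_pt, D.tr_mulVec, D.tr_mulVec,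
        hσG, mulVec_add, mulVec_smul, hw]
      congr 2
      rw [show D.f (σ *ᵥ b) w = c₀⁻¹ * D.f b x by rw [← hw, hsim]]
      ring_nf
    have := hconj _ (hi.root x (c * c₀⁻¹))
    rwa [show gg * slot (D.tr x (c * c₀⁻¹)) * gg⁻¹ = D.sh S v * slot (D.tr w c) * (D.sh S v)⁻¹ by
      rw [hgg, mul_assoc (D.sh S v) (kr L σG), e, _root_.mul_inv_rev]; group] at this
  obtain ⟨Hs, hHs⟩ : ∃ Hs : Subgroup (GL (Fin k) F), ∀ h, h ∈ Hs ↔
      slot h ∈ Mj ∧ D.sh S v * slot h * (D.sh S v)⁻¹ ∈ Mj :=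
    ⟨Mj.comap slot ⊓ Mj.comap ((MulAut.conj (D.sh S v)).toMonoidHom.comp slot), fun h => by
      simp [Subgroup.mem_inf]⟩
  have htr : ∀ w c, D.tr w c ∈ Hs := fun w c => (hHs _).mpr ⟨hj.root w c, hH w c⟩
  have hdiff : ∀ h ∈ Hs, (∀ x y, D.f (h.val *ᵥ x) (h.val *ᵥ y) = D.f x y) →
      ∃ p ∈ Mj, p.val = (1 + S ⊗ₖ outer D.f v v) * (1 - S ⊗ₖ outer D.f (h.val *ᵥ v) (h.val *ᵥ v)) := by
    intro h hh hiso'
    obtain ⟨h1, h2''⟩ := (hHs h).mp hh
    refine ⟨_, mul_mem h2'' (inv_mem h1), ?_⟩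
    have e : slot h * (D.sh S v)⁻¹ * (slot h)⁻¹ = (D.sh S (h.val *ᵥ v))⁻¹ := by
      rw [mul_inv_eq_iff_eq_mul, eq_inv_mul_iff_mul_eq, ← mul_assoc, mul_inv_eq_iff_eq_mul]
      refine Units.ext <| mat_ext_pt fun y b => ?_
      change ((1 + S ⊗ₖ outer D.f _ _) * (slot h).val) *ᵥ _ = ((slot h).val * (1 + S ⊗ₖ outer D.f v v)) *ᵥ _
      rw [← mulVec_mulVec, ← mulVec_mulVec, slot_pt, add_mulVec, add_mulVec, one_mulVec, one_mulVec, D.outer_pt,
        D.outer_pt, mulVec_add, slot_pt, slot_pt, hiso']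
    rw [mul_assoc (D.sh S v), mul_assoc (D.sh S v), e]
    rfl
  have hmixed : ∀ x y, D.f y x = 0 → S ⊗ₖ outer D.f x x * (S ⊗ₖ outer D.f y y) = 0 := fun x y h => by
    rw [← mul_kronecker_mul, D.outer_mul_outer, h, zero_smul, kronecker_zero]
  -- differences of two shears
  obtain ⟨N, hN⟩ : ∃ N : (Fin k → F) → Matrix (Fin n × Fin k) (Fin n × Fin k) F,
      ∀ x, N x = S ⊗ₖ outer D.f x x := ⟨_, fun x => rfl⟩
  have hneg : ∀ X : Matrix (Fin n × Fin k) (Fin n × Fin k) F, -X = X := fun X =>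
    neg_eq_of_add_eq_zero_left (by rw [← two_smul F X, hi.two, zero_smul])
  have hA : ∀ y, y ≠ 0 → D.sh S v * (D.sh S y)⁻¹ ∈ Mj := fun y hy0 => by
    obtain ⟨m, -, hm1, hm2⟩ := exists_ne_ne (P := fun _ => True) (fun _ _ _ _ => trivial)
      (φ := fun m => D.f v m) (ψ := fun m => D.f m y) (D.f_add' v) (fun p q => D.f_add p q y)
      (((D.symp.nondegenerate v hv).2).imp fun _ h => ⟨trivial, h⟩)
      (((D.symp.nondegenerate y hy0).1).imp fun _ h => ⟨trivial, h⟩)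
    have hmove : ∀ p q, D.f p q ≠ 0 → (D.tr (q - p) (D.f p q)⁻¹).val *ᵥ p = q := fun p q h => by
      rw [D.tr_mulVec, D.f_sub', D.symp.alternating, sub_zero, inv_mul_cancel₀ h, one_smul, add_sub_cancel]
    obtain ⟨h, hh⟩ : ∃ h, h = D.tr (y - m) (D.f m y)⁻¹ * D.tr (m - v) (D.f v m)⁻¹ := ⟨_, rfl⟩
    have hhv : h.val *ᵥ v = y := by rw [hh, Transvec.mul_mulVec, hmove v m hm1, hmove m y hm2]
    obtain ⟨p, hp, e⟩ := hdiff h (hh ▸ mul_mem (htr _ _) (htr _ _)) fun a b => by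
      rw [hh, Transvec.mul_mulVec, Transvec.mul_mulVec, D.tr_iso, D.tr_iso]
    rw [hhv] at e
    rwa [show D.sh S v * (D.sh S y)⁻¹ = p from Units.ext e.symm]
  have hP : ∀ x y, x ≠ 0 → y ≠ 0 → D.f x y = 0 → ∃ p ∈ Mj, p.val = 1 + (N x + N y) := fun x y hx hy0 hxy => by
    refine ⟨_, mul_mem (inv_mem (hA x hx)) (hA y hy0), ?_⟩
    rw [_root_.mul_inv_rev, inv_inv, mul_assoc, inv_mul_cancel_left, Units.val_mul]
    change (1 + S ⊗ₖ outer D.f x x) * (1 - S ⊗ₖ outer D.f y y) = _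
    rw [sub_eq_add_neg, hneg, mul_add, mul_one, add_mul, one_mul, hmixed x y (by rw [D.symp.skew, hxy, neg_zero]),
      add_zero, hN, hN, add_assoc]
  -- the shear is scalar
  obtain ⟨c, hc⟩ : ∃ c : F, S = c • 1 := by
    obtain ⟨e, he⟩ : ∃ e : Fin k → F, e ≠ 0 := ⟨v, hv⟩
    obtain ⟨w, hwe, -, hw⟩ := exists_perp_notMem D.symp hk e e
    rw [Set.pair_eq_singleton] at hw
    obtain ⟨x, hxe, hxw, hx⟩ := exists_perp_notMem D.symp hk e w
    have hew : D.f e w = 0 := by rw [D.symp.skew, hwe, neg_zero]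
    have hex : D.f e x = 0 := by rw [D.symp.skew, hxe, neg_zero]
    have hwx : D.f w x = 0 := by rw [D.symp.skew, hxw, neg_zero]
    have hne : ∀ a b c : F, c ≠ 0 → a • e + b • w + c • x ≠ 0 := fun a b c hc h0 => hx
      (Submodule.mem_span_pair.mpr ⟨-(c⁻¹ * a), -(c⁻¹ * b), by
        have := congrArg (c⁻¹ • ·) (eq_neg_of_add_eq_zero_right h0)
        simp only [inv_smul_smul₀ hc] at this
        rw [this]; module⟩)
    have hx0 : x ≠ 0 := by simpa using hne 0 0 1 one_ne_zero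
    have hex0 : e + x ≠ 0 := by simpa using hne 1 0 1 one_ne_zero
    have hwx0 : w + x ≠ 0 := by simpa using hne 0 1 1 one_ne_zero
    have hewx0 : e + w + x ≠ 0 := by simpa using hne 1 1 1 one_ne_zero
    obtain ⟨p, hp, ep⟩ := hP x (e + x) hx0 hex0 (by rw [D.f_add', hxe, D.symp.alternating, add_zero])
    obtain ⟨q, hq, eq⟩ := hP (w + x) (e + w + x) hwx0 hewx0 (by
      simp only [D.f_add, D.f_add', D.symp.alternating, hwe, hwx, hxe, hxw, add_zero, zero_add])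
    have hsum : N x + N (e + x) + (N (w + x) + N (e + w + x)) =
        S ⊗ₖ outer D.f w e + D.adjR S ⊗ₖ outer D.f e w := by
      rw [hSs, ← kronecker_add, hN, hN, hN, hN, ← kronecker_add, ← kronecker_add, ← kronecker_add]
      congr 1
      refine Matrix.ext_iff_mulVec.2 fun z => ?_
      simp only [add_mulVec, outer_mulVec D.symp, D.f_add']
      match_scalars <;> ring_nf <;> simp [hi.two, show (4 : F) = 0 by linear_combination 2 * hi.two]
    refine hnj e w S ⟨he, hw, hew⟩ ⟨p * q, mul_mem hp hq, ?_⟩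
    rw [Duo.tm, ← hsum, Units.val_mul, ep, eq, add_mul, one_mul, mul_add, mul_one]
    have hz : (N x + N (e + x)) * (N (w + x) + N (e + w + x)) = 0 := by
      simp only [hN, add_mul, mul_add]
      rw [hmixed _ _ ?_, hmixed _ _ ?_, hmixed _ _ ?_, hmixed _ _ ?_]
      · simp
      all_goals simp only [D.f_add, D.f_add', D.symp.alternating, hwe, hew, hwx, hxe, hex, hxw, add_zero, zero_add]
    rw [hz, add_zero]
    abel
  refine ⟨L, D.tr v c * σG, ?_⟩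
  rw [hgg, Units.val_mul, Units.val_mul]
  change (1 + S ⊗ₖ outer D.f v v) * (L.val ⊗ₖ σG.val) = L.val ⊗ₖ ((D.tr v c).val * σG.val)
  rw [hc, show (D.tr v c).val = 1 + c • outer D.f v v from Matrix.ext_iff_mulVec.2 fun x => by
    rw [D.tr_mulVec, add_mulVec, one_mulVec, smul_mulVec, outer_mulVec D.symp, smul_smul], add_mul, one_mul,
    ← mul_kronecker_mul, add_mul, one_mul, kronecker_add, smul_mul, smul_mul, smul_kronecker, kronecker_smul, one_mul]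

end CfsgLib.Classical22.TPow
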