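/-
Characteristic two: elements mapping a pure subspace to a pure subspace lie in the tensor wreath group.
-/
import Cfsg.Agent.Lib.Classical22.TensorPower.EvenClean
import Cfsg.Agent.Lib.Classical22.TensorPower.Fix
import Cfsg.Agent.Lib.Classical22.TensorPower.Twin

set_option autoImplicit false
set_option linter.unusedSectionVars false
set_option linter.unusedSimpArgs false

namespace CfsgLib.Classical22.TPow

open Matrix Kronecker CfsgLib.Transvec CfsgLib.Classical22.TensorMax CfsgLib.Classical22.TensorMax.SympO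
open CfsgLib.Classical22.TensorMax.SpO (kr kr_apply isKron_kr)
open CfsgLib.Classical22.TWMax
open scoped MatrixGroups

variable {F : Type*} [Field F] {t T k : ℕ} {f : (Fin k → F) → (Fin k → F) → F}

/-- Some slot has a non-scalar element T(e,w,G). -/
def Bad2 (hf : Cfsg.Geo.IsSymplecticForm f) (M : Subgroup (GL (Idx (t + 1) k) F)) : Prop :=
  ∃ s, ¬ (pDuo hf t).NBad (M.map (slotG s).toMonoidHom)

/-- The statement proved by induction on the number of slots, characteristic two. -/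
def PDich2 (hf : Cfsg.Geo.IsSymplecticForm f) (t : ℕ) : Prop :=
  ∀ M : Subgroup (GL (Idx (t + 1) k) F), PCtx f M → Bad2 hf M ∨ ∀ g ∈ M, IsTW g

/-- The standing hypotheses, characteristic two. -/
structure EHyp (f : (Fin k → F) → (Fin k → F) → F) (M : Subgroup (GL (Idx (T + 2) k) F)) : Prop where
  symp : Cfsg.Geo.IsSymplecticForm f
  two : (2 : F) = 0
  dim : 6 ≤ k
  ctx : PCtx f M
  nbad : ¬ Bad2 symp M
  ih : PDich2 symp T

/-- A symplectic axis at `u`. -/
def SAx (f : (Fin k → F) → (Fin k → F) → F) (u φ : Fin k → F) : Prop :=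
  u ≠ 0 ∧ ∃ c : F, c ≠ 0 ∧ φ = c • (gram f *ᵥ u)

theorem side2_of (hf : Cfsg.Geo.IsSymplecticForm f) (hc : (2 : F) = 0) {M : Subgroup (GL (Idx (t + 1) k) F)}
    (C : PCtx f M) (s : Fin (t + 1)) : (pDuo hf t).Side2 (M.map (slotG s).toMonoidHom) where
  two := hc
  iso := by rintro _ ⟨g, hg, rfl⟩; exact (iso_slotG hf).mpr (C.iso g hg)
  root u c := ⟨_, C.root s u c, slotG_root hf s u c⟩

/-- A matrix of the other slots commuting with slot `l` is scalar in that slot. -/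
theorem lift_comm (hf : Cfsg.Geo.IsSymplecticForm f) (j : Fin (t + 2)) (l : Fin (t + 1))
    {MS : Matrix (Idx (t + 1) k) (Idx (t + 1) k) F} (h : ∀ Y, MS * emb l Y = emb l Y * MS) :
    ∃ S', slotA (j.succAbove l) ((slotA j).symm (flatA (t + 1) k MS ⊗ₖ (1 : Matrix (Fin k) (Fin k) F))) =
      S' ⊗ₖ (1 : Matrix (Fin k) (Fin k) F) := by
  obtain ⟨X', hX'⟩ : ∃ X', X' = (slotA j).symm (flatA (t + 1) k MS ⊗ₖ (1 : Matrix (Fin k) (Fin k) F)) := ⟨_, rfl⟩
  have hXcomm : ∀ Y, X' * emb (j.succAbove l) Y = emb (j.succAbove l) Y * X' := fun Y => by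
    apply (slotA j).injective
    rw [map_mul, map_mul, hX', AlgEquiv.apply_symm_apply, slotA_emb_other, ← mul_kronecker_mul,
      ← mul_kronecker_mul, ← map_mul, ← map_mul, h, mul_one]
  rw [← hX']
  refine (pDuo hf (t + 1)).kron_one_of_orth fun a b hab => ?_
  have hcomm : slotA (j.succAbove l) X' * ((1 : Matrix (Fin (k ^ (t + 1))) (Fin (k ^ (t + 1))) F) ⊗ₖ outer f b b) =
      ((1 : Matrix (Fin (k ^ (t + 1))) (Fin (k ^ (t + 1))) F) ⊗ₖ outer f b b) * slotA (j.succAbove l) X' := by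
    rw [← slotA_emb_same, ← map_mul, ← map_mul, hXcomm]
  have h0 := (pDuo hf (t + 1)).outer_sand a b (slotA (j.succAbove l) X')
  change _ * _ * ((1 : Matrix (Fin (k ^ (t + 1))) (Fin (k ^ (t + 1))) F) ⊗ₖ outer f b b) = _ at h0
  rw [mul_assoc, hcomm, ← mul_assoc, ← mul_kronecker_mul, show outer (pDuo hf (t + 1)).f a a = outer f a a
    from rfl, outer_sq hf, show f b a = 0 by rw [hf.skew]; exact neg_eq_zero.2 hab, zero_smul, kronecker_zero,
    zero_mul] at h0
  by_cases ha : a = 0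
  · rw [show a = (0 : F) • a by rw [zero_smul, ha], Duo.cR_smul_left, zero_smul]
  by_cases hb : b = 0
  · rw [show b = (0 : F) • b by rw [zero_smul, hb], Duo.cR_smul_right, zero_smul]
  obtain ⟨b', hb'⟩ := (pDuo hf (t + 1)).exists_dual hb
  refine Matrix.ext_iff_mulVec.2 fun y => ?_
  have := congrArg (· *ᵥ pt y b') h0
  simp only [zero_mulVec, (pDuo hf (t + 1)).outer_pt] at this
  have hfb : (pDuo hf (t + 1)).f b' b ≠ 0 := by
    rw [(pDuo hf (t + 1)).symp.skew, hb']; exact neg_ne_zero.2 one_ne_zero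
  rw [zero_mulVec]
  exact (smul_eq_zero.mp (pt_eq_zero ha this.symm)).resolve_left hfb

variable [Finite F] {M : Subgroup (GL (Idx (T + 2) k) F)} (H : EHyp f M)
include H

lemma EHyp.ax_one {u : Fin k → F} (hu : u ≠ 0) : SAx f u ((1 : F) • (gram f *ᵥ u)) :=
  ⟨hu, 1, one_ne_zero, rfl⟩

lemma EHyp.ax_dot {u φ : Fin k → F} (h : SAx f u φ) : φ ⬝ᵥ u = 0 := by
  obtain ⟨-, c, -, rfl⟩ := h
  rw [smul_dotProduct, ← form_eq_dot H.symp, H.symp.alternating, smul_zero]

lemma EHyp.ax_ne {u φ : Fin k → F} (h : SAx f u φ) : φ ≠ 0 := by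
  obtain ⟨hu, c, hc, rfl⟩ := h
  exact smul_ne_zero hc (gram_mulVec_ne_zero H.symp hu)

lemma EHyp.rs_mem (s : Fin (T + 2)) {u φ : Fin k → F} (h : SAx f u φ) : rs s u φ ∈ M := by
  obtain ⟨-, c, -, rfl⟩ := h
  exact H.ctx.root s u c

/-- A conjugate of a root inside the tensor wreath group gives a pure image. -/
theorem EHyp.pimg_of_conj {g : GL (Idx (T + 2) k) F} (s : Fin (T + 2)) {u φ : Fin k → F} (hax : SAx f u φ)
    (h : IsTW (g * rs s u φ * g⁻¹)) : PureImg g s u := by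
  classical
  have hm := H.dim
  have hdot := H.ax_dot hax
  obtain ⟨σ, gs, hd⟩ := h
  have hmv : mv (g * rs s u φ * g⁻¹) = gim g (slotW s u) := by rw [mv_conj, mv_rs hdot (H.ax_ne hax)]
  have hrk : Module.finrank F (mv (g * rs s u φ * g⁻¹)) = k ^ (T + 1) := by
    rw [hmv, finrank_gim, finrank_slotW _ hax.1]
  by_cases hσ : σ = 1
  · subst hσ
    obtain ⟨s', u', hu', he⟩ := pure_of_base (by omega) hd (fun h => by
      rw [h, show mv (1 : GL (Idx (T + 2) k) F) = ⊥ from (Submodule.eq_bot_iff _).mpr fun v hv => by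
        obtain ⟨w, rfl⟩ := mem_mv.mp hv; rw [Units.val_one, one_mulVec, sub_self], finrank_bot] at hrk
      have := Nat.pow_pos (n := T + 1) (show 0 < k by omega)
      omega) hrk.le
    exact ⟨s', u', hu', hmv ▸ he⟩
  · have := (perm_small (by omega) hd (sq_conj g _ (rs_sq hdot)) hσ hrk.le).2.1
    omega

/-- An element with a pure image of a pure subspace moves the roots of the other slots into the group. -/
theorem EHyp.conj_of_pimg {g : GL (Idx (T + 2) k) F} (hg : g ∈ M) {i : Fin (T + 2)} {u : Fin k → F} (hu : u ≠ 0)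
    (hP : PureImg g i u) {r : Fin (T + 2)} (hr : r ≠ i) (w : Fin k → F) (c : F) :
    IsTW (g * slotEl r (ptr f w c) * g⁻¹) := by
  classical
  obtain ⟨j, v, hv, hgv⟩ := hP
  obtain ⟨D, hD⟩ : ∃ D, D = pDuo H.symp (T + 1) := ⟨_, rfl⟩
  obtain ⟨gg, hgg⟩ : ∃ gg, gg = mixG i j g := ⟨_, rfl⟩
  have hn : 0 < k ^ (T + 1) := Nat.pow_pos (by have := H.dim; omega)
  have hvec : ∀ y, ∃ y', gg.val *ᵥ pt y u = pt y' v := by
    intro y
    have hw : pt y u ∘ slotE i ∈ slotW i u := by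
      rw [mem_slotW, Function.comp_assoc, Equiv.self_comp_symm, Function.comp_id]
      exact pt_mem_pureW y u
    have h2 : g.val *ᵥ (pt y u ∘ slotE i) ∈ slotW j v := hgv ▸ mem_gim.mpr ⟨_, hw, rfl⟩
    rw [mem_slotW, ← mixG_vec i, Function.comp_assoc, Equiv.self_comp_symm, Function.comp_id, ← hgg] at h2
    obtain ⟨y', hy'⟩ := h2
    exact ⟨y', hy'.symm⟩
  obtain ⟨v', hv'⟩ := D.exists_dual hv
  obtain ⟨L₀, hL₀⟩ : ∃ L₀ : (Fin (k ^ (T + 1)) → F) →ₗ[F] (Fin (k ^ (T + 1)) → F),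
      ∀ y, L₀ y = D.ct v' (gg.val *ᵥ pt y u) :=
    ⟨(D.ct v').comp ((Matrix.mulVecLin gg.val).comp (ptL u)), fun y => rfl⟩
  have hL₀v : ∀ y, gg.val *ᵥ pt y u = pt (L₀ y) v := fun y => by
    obtain ⟨y', hy'⟩ := hvec y
    rw [hL₀, hy', D.ct_pt, hv', one_smul]
  have hinj : Function.Injective L₀ := fun a b h => pt_injective hu (mulVec_injective gg (by
    simp only [ptL_apply]; rw [hL₀v, hL₀v, h]))
  have hW : ∀ y, gg.val *ᵥ pt y u = pt ((SpO.glOfLin L₀ hinj).val *ᵥ y) v := fun y => by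
    rw [SpO.glOfLin_mulVec, hL₀v]
  have hiso : D.Iso gg := by
    have e : (g.val)ᵀ * pG (T + 2) f * g.val = pG (T + 2) f := H.ctx.iso g hg
    rw [hgg, hD, Duo.Iso]
    change (Matrix.reindex (slotE j) (slotE i) g.val)ᵀ * _ * Matrix.reindex (slotE j) (slotE i) g.val = _
    conv_lhs => rw [← slotA_pG H.symp j]
    rw [← slotA_pG H.symp i]
    simp only [slotA, reindexAlgEquiv_apply, reindex_apply, transpose_submatrix, submatrix_mul_equiv, e]
  have hk := Duo.isKron_of_map2 (D := D) (by have := H.dim; omega) hn (hD ▸ side2_of H.symp H.two H.ctx i)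
    (hD ▸ side2_of H.symp H.two H.ctx j) (hD ▸ not_not.mp fun h => H.nbad ⟨i, h⟩)
    (hD ▸ not_not.mp fun h => H.nbad ⟨j, h⟩) hiso
    (fun h hh => by
      obtain ⟨x, hx, rfl⟩ := hh
      exact ⟨g * x * g⁻¹, mul_mem (mul_mem hg hx) (inv_mem hg), by rw [hgg]; exact (mixG_conj i j g x).symm⟩)
    (fun h hh => by
      obtain ⟨x, hx, rfl⟩ := hh
      exact ⟨g⁻¹ * x * g⁻¹⁻¹, mul_mem (mul_mem (inv_mem hg) hx) (inv_mem (inv_mem hg)), by
        rw [hgg, mixG_inv]; exact (mixG_conj j i g⁻¹ x).symm⟩)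
    hu hv hW
  obtain ⟨A, B, hAB⟩ := hk
  have hggk : gg = kr A B := Units.ext hAB
  -- the group of the other slots of `j`
  obtain ⟨N, hN⟩ : ∃ N : Subgroup (GL (Idx (T + 1) k) F), ∀ a, a ∈ N ↔
      kr (flatG (T + 1) k a) (1 : GL (Fin k) F) ∈ M.map (slotG j).toMonoidHom :=
    ⟨(M.map (slotG j).toMonoidHom).comap ((MonoidHom.mk' (fun a => kr a (1 : GL (Fin k) F))
        fun a b => Units.ext (by simp [kr, ← mul_kronecker_mul])).comp (flatG (T + 1) k).toMonoidHom),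
      fun a => Iff.rfl⟩
  have hNctx : PCtx f N := by
    refine ⟨fun a ha => ?_, fun l x c => (hN _).mpr ⟨_, H.ctx.root (j.succAbove l) x c, ?_⟩⟩
    · obtain ⟨x, hx, he⟩ := (hN a).mp ha
      have hx' := (iso_slotG (s := j) H.symp).mpr (H.ctx.iso x hx)
      rw [show slotG j x = kr (flatG (T + 1) k a) (1 : GL (Fin k) F) from he] at hx'
      unfold Duo.Iso at hx'
      obtain ⟨v₀, hv₀⟩ : ∃ v₀ : Fin k → F, v₀ ≠ 0 := ⟨v, hv⟩
      have h1 := congrArg (fun X => (pDuo H.symp (T + 1)).G⁻¹ * X) hx'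
      have h2 : (pDuo H.symp (T + 1)).adjR (flatA (T + 1) k a.val) * flatA (T + 1) k a.val = 1 := by
        have e := congrArg ((pDuo H.symp (T + 1)).cR v' v) (show (pDuo H.symp (T + 1)).adjV
          (flatA (T + 1) k a.val ⊗ₖ (1 : Matrix (Fin k) (Fin k) F)) *
          (flatA (T + 1) k a.val ⊗ₖ (1 : Matrix (Fin k) (Fin k) F)) = 1 by
            have h3 := h1
            rw [Matrix.nonsing_inv_mul _ (pDuo H.symp (T + 1)).G_unit] at h3
            rw [Duo.adjV, mul_assoc, mul_assoc]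
            simpa [mul_assoc, kr, flatG_eq] using h3)
        rw [(pDuo H.symp (T + 1)).adjV_kron, ← mul_kronecker_mul, mul_one,
          show adj (pDuo H.symp (T + 1)).f (1 : Matrix (Fin k) (Fin k) F) = 1 from (by simpa using adj_scalar H.symp (1 : F) : adj f (1 : Matrix (Fin k) (Fin k) F) = 1),
          (pDuo H.symp (T + 1)).cR_kron, (pDuo H.symp (T + 1)).cR_one, one_mulVec] at e
        rw [hD] at hv'
        exact smul_right_injective _ (show (pDuo H.symp (T + 1)).f v v' ≠ 0 by rw [hv']; exact one_ne_zero) e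
      rw [pDuo_adjR, ← map_mul, ← map_one (flatA (F := F) (T + 1) k)] at h2
      have h4 := congrArg (fun X => pG (T + 1) f * X) ((flatA (T + 1) k).injective h2)
      simp only [pAdj] at h4
      rw [mul_one, ← mul_assoc, ← mul_assoc, ← mul_assoc, Matrix.mul_nonsing_inv _ (pG_unit H.symp), one_mul] at h4
      exact h4
    · refine slotG_other j l (ptr f x c) ?_
      rw [flatG_eq, slotEl_val]
  have hNtw : ∀ a ∈ N, IsTW a := by
    refine (H.ih N hNctx).resolve_left ?_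
    rintro ⟨l, hl⟩
    refine hl fun x y G hxy hG => ?_
    obtain ⟨-, ⟨a, ha, rfl⟩, haG⟩ := hG
    obtain ⟨E, hE, hEa⟩ := (hN a).mp ha
    obtain ⟨Φ, hΦ⟩ : ∃ Φ : Matrix (Fin (k ^ T)) (Fin (k ^ T)) F → Matrix (Idx (T + 1) k) (Idx (T + 1) k) F,
        ∀ S, Φ S = (slotA l).symm (S ⊗ₖ (1 : Matrix (Fin k) (Fin k) F)) := ⟨_, fun S => rfl⟩
    have hΦc : ∀ S Y, Φ S * emb l Y = emb l Y * Φ S := fun S Y => by
      apply (slotA l).injective
      rw [map_mul, map_mul, hΦ, AlgEquiv.apply_symm_apply, slotA_emb_same, ← mul_kronecker_mul, ← mul_kronecker_mul,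
        mul_one, one_mul, mul_one, one_mul]
    have hΦm : ∀ S Y, slotA l (Φ S * emb l Y) = S ⊗ₖ Y := fun S Y => by
      rw [map_mul, hΦ, AlgEquiv.apply_symm_apply, slotA_emb_same, ← mul_kronecker_mul, mul_one, one_mul]
    have hav : a.val = 1 + (Φ G * emb l (outer f y x) + Φ ((pDuo H.symp T).adjR G) * emb l (outer f x y)) := by
      apply (slotA l).injective
      rw [← slotG_val, show (slotG l a).val = _ from haG, map_add, map_one, map_add, hΦm, hΦm]
      rfl
    obtain ⟨Ψ, hΨ⟩ : ∃ Ψ : Matrix (Idx (T + 1) k) (Idx (T + 1) k) F → Matrix (Idx (T + 2) k) (Idx (T + 2) k) F,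
        ∀ X, Ψ X = (slotA j).symm (flatA (T + 1) k X ⊗ₖ (1 : Matrix (Fin k) (Fin k) F)) := ⟨_, fun X => rfl⟩
    obtain ⟨G', hG'⟩ := lift_comm H.symp j l (hΦc G)
    obtain ⟨G'', hG''⟩ := lift_comm H.symp j l (hΦc ((pDuo H.symp T).adjR G))
    rw [← hΨ] at hG' hG''
    have hEv : E.val = 1 + (Ψ (Φ G) * emb (j.succAbove l) (outer f y x) +
        Ψ (Φ ((pDuo H.symp T).adjR G)) * emb (j.succAbove l) (outer f x y)) := by
      apply (slotA j).injective
      rw [← slotG_val, show slotG j E = _ from hEa, map_add, map_one, map_add, map_mul, map_mul, hΨ, hΨ,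
        AlgEquiv.apply_symm_apply, AlgEquiv.apply_symm_apply, slotA_emb_other, slotA_emb_other,
        ← mul_kronecker_mul, ← mul_kronecker_mul, mul_one, ← map_mul, ← map_mul]
      change flatA (T + 1) k a.val ⊗ₖ (1 : Matrix (Fin k) (Fin k) F) = _
      rw [hav, map_add, map_one, map_add, add_kronecker, one_kronecker_one, add_kronecker]
    have hT : (pDuo H.symp (T + 1)).HasT (M.map (slotG (j.succAbove l)).toMonoidHom) x y G' :=
      Duo.hasT_of_shape (side2_of H.symp H.two H.ctx _) ⟨E, hE, rfl⟩ hxy (B := G'') (by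
        change (slotG (j.succAbove l) E).val = _
        rw [slotG_val, hEv, map_add, map_one, map_add, map_mul, map_mul, hG', hG'', slotA_emb_same, slotA_emb_same,
          ← mul_kronecker_mul, ← mul_kronecker_mul, mul_one, one_mul, one_mul, mul_one]
        rfl)
    obtain ⟨c, hc⟩ := (not_not.mp fun h => H.nbad ⟨j.succAbove l, h⟩) x y G' hxy hT
    refine ⟨c, ?_⟩
    have hX1 : Ψ (Φ G) = c • 1 := (slotA (j.succAbove l)).injective (by
      rw [hG', hc, map_smul, map_one, smul_kronecker, one_kronecker_one])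
    have hk0 : 0 < k := by have := H.dim; omega
    have hΦ1 : Φ G = c • 1 := by
      have h := congrArg (slotA j) hX1
      rw [hΨ, AlgEquiv.apply_symm_apply, map_smul, map_one, ← one_kronecker_one, ← smul_kronecker] at h
      apply (flatA (T + 1) k).injective
      rw [map_smul, map_one]
      refine Matrix.ext fun p q => ?_
      have e := Matrix.ext_iff.mpr h (p, ⟨0, hk0⟩) (q, ⟨0, hk0⟩)
      simpa using e
    have h := congrArg (slotA l) hΦ1
    rw [hΦ, AlgEquiv.apply_symm_apply, map_smul, map_one, ← one_kronecker_one, ← smul_kronecker] at h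
    refine Matrix.ext fun p q => ?_
    have e := Matrix.ext_iff.mpr h (p, ⟨0, hk0⟩) (q, ⟨0, hk0⟩)
    simpa using e
  -- the conjugate
  obtain ⟨r', rfl⟩ := Fin.exists_succAbove_eq hr
  obtain ⟨τ, hτ⟩ : ∃ τ : GL (Idx (T + 1) k) F, τ = slotEl r' (ptr f w c) := ⟨_, rfl⟩
  have hslot : slotG i (slotEl (i.succAbove r') (ptr f w c)) = kr (flatG (T + 1) k τ) (1 : GL (Fin k) F) :=
    slotG_other i r' _ (by rw [flatG_eq, hτ, slotEl_val])
  obtain ⟨a, ha⟩ := (flatG (T + 1) k).surjective (A * flatG (T + 1) k τ * A⁻¹)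
  have hconj : slotG j (g * slotEl (i.succAbove r') (ptr f w c) * g⁻¹) = kr (flatG (T + 1) k a) (1 : GL (Fin k) F) := by
    rw [← mixG_conj i, hslot, ← hgg, hggk, ha]
    exact Units.ext (by simp [kr, ← mul_kronecker_mul])
  obtain ⟨π, as, has⟩ := hNtw a ((hN a).mpr ⟨_, mul_mem (mul_mem hg (H.ctx.root _ w c)) (inv_mem hg), hconj⟩)
  exact twData_of_kr j has 1 hconj

/-- One pure image puts an element in the tensor wreath group. -/
theorem EHyp.tw_of_pimg {g : GL (Idx (T + 2) k) F} (hg : g ∈ M) {s₀ : Fin (T + 2)} {u₀ : Fin k → F} (hu₀ : u₀ ≠ 0)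
    (h₀ : PureImg g s₀ u₀) : IsTW g := by
  classical
  have hk : 2 ≤ k := by have := H.dim; omega
  have step : ∀ s u, u ≠ 0 → PureImg g s u → ∀ r, r ≠ s → ∀ v, v ≠ 0 → PureImg g r v :=
    fun s u hu hP r hrs v hv => H.pimg_of_conj r (H.ax_one hv) (H.conj_of_pimg hg hu hP hrs v 1)
  have hall : ∀ s u, u ≠ 0 → PureImg g s u := by
    intro s u hu
    by_cases hs : s = s₀
    · obtain ⟨r, hr⟩ := exists_ne s₀
      obtain ⟨w, hw⟩ : ∃ w : Fin k → F, w ≠ 0 := ⟨Pi.single ⟨0, by omega⟩ 1, by simp⟩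
      exact step r w hw (step s₀ u₀ hu₀ h₀ r hr w hw) s (hs ▸ hr.symm) u hu
    · exact step s₀ u₀ hu₀ h₀ s hs u hu
  choose S U hU0 hSU using hall
  obtain ⟨w, hw⟩ : ∃ w : Fin k → F, w ≠ 0 := ⟨Pi.single ⟨0, by omega⟩ 1, by simp⟩
  have hinj : ∀ X Y : Submodule F (Idx (T + 2) k → F), gim g X = gim g Y → X = Y := fun X Y h => by
    rw [← gim_inv_gim g X, h, gim_inv_gim]
  have hindep : ∀ s u (hu : u ≠ 0), S s u hu = S s w hw := by
    intro s u hu
    by_contra hne
    have h := slotW_inf_ne_bot hne (hU0 s u hu) (hU0 s w hw)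
    rw [← hSU s u hu, ← hSU s w hw, ← gim_inf] at h
    have h' : slotW s u ⊓ slotW s w ≠ ⊥ := fun e => h (by rw [e]; exact Submodule.map_bot _)
    have he := congrArg (gim g) (slotW_eq_of_inf hu hw h')
    rw [hSU s u hu, hSU s w hw] at he
    exact hne (slot_eq_of_slotW_eq hk (hU0 s u hu) (hU0 s w hw) he)
  obtain ⟨π, hπ⟩ : ∃ π : Fin (T + 2) → Fin (T + 2), ∀ s u (hu : u ≠ 0), S s u hu = π s :=
    ⟨fun s => S s w hw, hindep⟩
  have hπinj : Function.Injective π := fun s r h => by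
    by_contra hsr
    refine hsr (slot_eq_of_slotW_eq hk hw hw (hinj _ _ ?_))
    rw [hSU s w hw, hSU r w hw, hπ, hπ, h]
    refine slotW_eq_of_inf (hU0 s w hw) (hU0 r w hw) fun hb => slotW_inf_ne_bot hsr hw hw ?_
    refine hinj _ _ ?_
    rw [gim_inf, hSU s w hw, hSU r w hw, hπ, hπ, h, hb]
    exact (Submodule.map_bot _).symm
  obtain ⟨P, hP⟩ : ∃ P : Equiv.Perm (Fin (T + 2)), ∀ s, P s = π s :=
    ⟨Equiv.ofBijective π (Finite.injective_iff_bijective.mp hπinj), fun s => rfl⟩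
  obtain ⟨q, hqd⟩ : ∃ q : GL (Idx (T + 2) k) F, TWData q P fun _ => 1 :=
    ⟨permGL P.symm, fun xs => by rw [permGL_apply]; simp⟩
  have hres : IsTW (q * g) := by
    refine isTW_of_pures hk (T + 1) _ fun s u hu => ⟨U s u hu, hU0 s u hu, ?_⟩
    rw [gim_mul, hSU s u hu, hπ, ← hP s]
    have := hqd.gim_slotW s (hU0 s u hu)
    rwa [Units.val_one, one_mulVec] at this
  have := tw_mul (tw_inv ⟨_, _, hqd⟩) hres
  rwa [inv_mul_cancel_left] at this

theorem EHyp.tw_of_fix {g : GL (Idx (T + 2) k) F} (hg : g ∈ M) {s : Fin (T + 2)} {u : Fin k → F} (hu : u ≠ 0)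
    (hfix : gim g (slotW s u) = slotW s u) : IsTW g :=
  H.tw_of_pimg hg hu ⟨s, u, hu, hfix⟩

/-- An element conjugating a root into the group lies in it. -/
theorem EHyp.tw_of_conj {g : GL (Idx (T + 2) k) F} (hg : g ∈ M) {s : Fin (T + 2)} {u φ : Fin k → F} (hax : SAx f u φ)
    (hz : IsTW (g * rs s u φ * g⁻¹)) : IsTW g :=
  H.tw_of_pimg hg hax.1 (H.pimg_of_conj s hax hz)

/-- A p-subgroup of `M` containing a root lies in the tensor wreath group. -/
theorem EHyp.tw_of_pGroup {p : ℕ} [Fact p.Prime] {Q : Subgroup (GL (Idx (T + 2) k) F)} (hQ : Q ≤ M)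
    (hp : IsPGroup p Q) {s : Fin (T + 2)} {u φ : Fin k → F} (hax : SAx f u φ) (hx : rs s u φ ∈ Q) :
    ∀ g ∈ Q, IsTW g := by
  classical
  by_contra hne
  push Not at hne
  obtain ⟨L, hL⟩ : ∃ L, L = (Cfsg.Geo.tensorWreathStandard k (T + 2) F).subgroupOf Q := ⟨_, rfl⟩
  have hLmem : ∀ q : Q, q ∈ L ↔ IsTW (q : GL (Idx (T + 2) k) F) := fun q => by
    rw [hL, Subgroup.mem_subgroupOf, mem_standard_iff]
  haveI : Fintype F := Fintype.ofFinite F
  haveI : Finite (GL (Idx (T + 2) k) F) := inferInstance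
  haveI := hp.isNilpotent
  have hlt : L < ⊤ := lt_top_iff_ne_top.mpr fun h => by
    obtain ⟨g, hg, hgK⟩ := hne
    exact hgK ((hLmem ⟨g, hg⟩).mp (h ▸ Subgroup.mem_top _))
  obtain ⟨⟨g, hgQ⟩, hgn, hgH⟩ := SetLike.exists_of_lt (Group.normalizerCondition_of_isNilpotent L hlt)
  have hxL : (⟨_, hx⟩ : Q) ∈ L := (hLmem _).mpr ⟨1, _, slotEl_data _ _⟩
  exact hgH ((hLmem _).mpr (H.tw_of_conj (hQ hgQ) hax
    ((hLmem _).mp ((Subgroup.mem_normalizer_iff.mp hgn ⟨_, hx⟩).mp hxL))))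

end CfsgLib.Classical22.TPow
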