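/-
Characteristic two: one non-scalar element T(e,w,G) gives all of them.
-/
import Cfsg.Agent.Lib.Classical22.TensorPower.EvenFix
import Cfsg.Agent.Lib.Classical22.TensorPower.EvenAlg

set_option autoImplicit false
set_option linter.unusedSectionVars false
set_option linter.unusedSimpArgs false

namespace CfsgLib.Classical22.TPow

open Matrix Kronecker CfsgLib.Transvec CfsgLib.Classical22.TensorMax CfsgLib.Classical22.TensorMax.SympO
open CfsgLib.Classical22.TensorMax.SpO (kr kr_apply)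
open CfsgLib.Classical22.TWMax
open scoped MatrixGroups

variable {F : Type*} [Field F] {n k t : ℕ} {D : Duo F n k} {M : Subgroup (GL (Fin n × Fin k) F)}

/-- Moving a pair by a root. -/
theorem Duo.hasT_pair_root (hM : D.Side2 M) {e w : Fin k → F} (hp : Pair D.f e w) {G : Matrix (Fin n) (Fin n) F}
    (h : D.HasT M e w G) (u : Fin k → F) (s : F) :
    Pair D.f (e + (s * D.f e u) • u) (w + (s * D.f w u) • u) ∧
      D.HasT M (e + (s * D.f e u) • u) (w + (s * D.f w u) • u) G := by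
  have hr := D.symp
  have hB : ∀ x, (D.tr u s).val *ᵥ x = x + (s * D.f x u) • u := fun x => D.tr_mulVec u s x
  refine ⟨⟨?_, fun hm => ?_, ?_⟩, Duo.hasT_root hM h u s⟩
  · rw [← hB]; exact Transvec.mulVec_ne_zero _ hp.1
  · obtain ⟨r, hr'⟩ := Submodule.mem_span_singleton.mp hm
    rw [← hB, ← hB, ← mulVec_smul] at hr'
    exact hp.2.1 (Submodule.mem_span_singleton.mpr ⟨r, mulVec_injective (D.tr u s) hr'⟩)
  · rw [← hB, ← hB, D.tr_iso u s, hp.2.2]

/-- Transitivity on pairs. -/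
theorem Duo.hasT_all_pairs (hM : D.Side2 M) {e w : Fin k → F} (hp : Pair D.f e w)
    {G : Matrix (Fin n) (Fin n) F} (h : D.HasT M e w G) {e' w' : Fin k → F} (hp' : Pair D.f e' w') :
    D.HasT M e' w' G := by
  have hr := D.symp
  have hnz : ∀ {x : Fin k → F}, x ≠ 0 → (∃ z, D.f x z ≠ 0) ∧ ∃ z, D.f z x ≠ 0 :=
    fun hx => ⟨(hr.nondegenerate _ hx).2, (hr.nondegenerate _ hx).1⟩
  have step1 : ∀ x y, D.f x y ≠ 0 → (∃ z, Pair D.f x z ∧ D.HasT M x z G) →
      ∃ z, Pair D.f y z ∧ D.HasT M y z G := by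
    rintro x y hxy ⟨z, hz, hT⟩
    have h1 : D.f x (y - x) = D.f x y := by rw [sub_right' hr, hr.alternating, sub_zero]
    have h2 := Duo.hasT_pair_root hM hz hT (y - x) (D.f x y)⁻¹
    rw [h1, inv_mul_cancel₀ hxy, one_smul, add_sub_cancel] at h2
    exact ⟨_, h2⟩
  obtain ⟨m, -, hm1, hm2⟩ := exists_ne_ne (P := fun _ => True) (fun _ _ _ _ => trivial)
    (φ := fun z => D.f e z) (ψ := fun z => D.f z e') (hr.bilinear.add_right e)
    (fun u v => hr.bilinear.add_left u v e') ((hnz hp.1).1.imp fun _ h => ⟨trivial, h⟩)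
    ((hnz hp'.1).2.imp fun _ h => ⟨trivial, h⟩)
  obtain ⟨z, hz, hT⟩ := step1 m e' hm2 (step1 e m hm1 ⟨w, hp, h⟩)
  have step2 : ∀ x y, D.f x y ≠ 0 → D.f e' y = 0 → (Pair D.f e' x ∧ D.HasT M e' x G) →
      Pair D.f e' y ∧ D.HasT M e' y G := by
    rintro x y hxy hey ⟨hx, hT⟩
    have h1 : D.f x (y - x) = D.f x y := by rw [sub_right' hr, hr.alternating, sub_zero]
    have h0 : D.f e' (y - x) = 0 := by rw [sub_right' hr, hey, hx.2.2, sub_zero]
    have h2 := Duo.hasT_pair_root hM hx hT (y - x) (D.f x y)⁻¹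
    rwa [h0, mul_zero, zero_smul, add_zero, h1, inv_mul_cancel₀ hxy, one_smul, add_sub_cancel] at h2
  have hper : ∀ {x}, Pair D.f e' x → ∃ m, D.f e' m = 0 ∧ D.f x m ≠ 0 := fun {x} hx => by
    obtain ⟨m, hm0, hm1⟩ := SympO.exists_dual hr hx.2.1
    refine ⟨m, ?_, ?_⟩
    · rw [hr.skew, hm0 _ (Submodule.mem_span_singleton_self _), neg_zero]
    · rw [hr.skew, hm1]; exact neg_ne_zero.mpr one_ne_zero
  obtain ⟨r, hr0, hr1, hr2⟩ := exists_ne_ne (P := fun r => D.f e' r = 0)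
    (fun u v hu hv => by rw [add_right' hr, hu, hv, add_zero])
    (φ := fun r => D.f z r) (ψ := fun r => D.f r w') (hr.bilinear.add_right z)
    (fun u v => hr.bilinear.add_left u v w') (hper hz)
    ((hper hp').imp fun m hm => ⟨hm.1, by rw [hr.skew]; exact neg_ne_zero.mpr hm.2⟩)
  exact (step2 r w' hr2 hp'.2.2 (step2 z r hr1 hr0 ⟨hz, hT⟩)).2

/-- The blocks available at every pair. -/
def Duo.HasAll (M : Subgroup (GL (Fin n × Fin k) F)) (G : Matrix (Fin n) (Fin n) F) : Prop :=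
  ∀ e w, Pair D.f e w → D.HasT M e w G

/-- Products of blocks. -/
theorem Duo.hasAll_mul (hk : 5 ≤ k) (hM : D.Side2 M) {G₂ G₁ : Matrix (Fin n) (Fin n) F}
    (h2 : Duo.HasAll (D := D) M G₂) (h1 : Duo.HasAll (D := D) M G₁) : Duo.HasAll (D := D) M (G₂ * G₁) := by
  intro x y hxy
  have hr := D.symp
  obtain ⟨z, hzx, hzy, hz⟩ := exists_perp_notMem hr hk x y
  obtain ⟨z', hz0, hz1⟩ := SympO.exists_dual hr hz
  have hz'x := hz0 x (Submodule.subset_span (by simp))
  have hz'y := hz0 y (Submodule.subset_span (by simp))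
  have hxz : Pair D.f x z := ⟨hxy.1, fun hm => hz (Submodule.span_mono (by simp) hm),
    by rw [hr.skew, hzx, neg_zero]⟩
  have hyz : D.f y z = 0 := by rw [hr.skew, hzy, neg_zero]
  have hzy' : Pair D.f z' y := by
    refine ⟨fun h0 => ?_, fun hm => ?_, hz'y⟩
    · rw [h0, zero_left' hr] at hz1
      exact zero_ne_one hz1
    · obtain ⟨r, hr'⟩ := Submodule.mem_span_singleton.mp hm
      have e0 := hr.bilinear.smul_left r z' z
      rw [hr', hyz, hz1, mul_one] at e0
      exact hxy.2.1 (by rw [← hr', ← e0, zero_smul]; exact zero_mem _)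
  obtain ⟨U, hU, hU'⟩ := h1 x z hxz
  have hyx : D.f y x = 0 := by rw [hr.skew, hxy.2.2, neg_zero]
  have hUp : ∀ p q, U.val *ᵥ pt p q = pt p q + (D.f q x • pt (G₁ *ᵥ p) z + D.f q z • pt (D.adjR G₁ *ᵥ p) x) :=
    fun p q => by rw [hU', add_mulVec, one_mulVec, Duo.tm, add_mulVec, D.outer_pt, D.outer_pt, pt_smul_left, pt_smul_left]
  have := Duo.hasT_comm hM hU hyx hz'x hz'y (K := D.adjR G₁) (fun p => by
    rw [hUp, hyx, hyz, zero_smul, zero_smul, add_zero, add_zero]) (fun p => by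
    rw [hUp, hz'x, hz1, zero_smul, zero_add, one_smul]) (h2 z' y hzy')
  rwa [D.adjR_adjR] at this

/-- An isometry of the other factor has the adjoint as inverse. -/
theorem Duo.adjR_of_iso {A : GL (Fin n) F} (hk : 0 < k) (h : D.Iso (kr A (1 : GL (Fin k) F))) :
    D.adjR A.val = A⁻¹.val := by
  obtain ⟨v, hv⟩ : ∃ v : Fin k → F, v ≠ 0 := ⟨Pi.single ⟨0, hk⟩ 1, by simp⟩
  obtain ⟨v', hv'⟩ := D.exists_dual hv
  have e : D.adjR A.val ⊗ₖ adj D.f (1 : Matrix (Fin k) (Fin k) F) = A⁻¹.val ⊗ₖ (1 : Matrix (Fin k) (Fin k) F) := by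
    rw [← D.adjV_kron]
    exact h.adjV_eq
  rw [show adj D.f (1 : Matrix (Fin k) (Fin k) F) = 1 by simpa using adj_scalar D.symp (1 : F)] at e
  have e' := congrArg (D.cR v' v) e
  rw [D.cR_kron, D.cR_kron, one_mulVec] at e'
  exact smul_right_injective _ (show D.f v v' ≠ 0 by rw [hv']; exact one_ne_zero) e'

/-- A slot of the other slots full and the other slots permuted: all blocks. -/
theorem all_blocks {f : (Fin k → F) → (Fin k → F) → F} (hf : Cfsg.Geo.IsSymplecticForm f) (hc : (2 : F) = 0)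
    (hk : 5 ≤ k) {M : Subgroup (GL (Idx (t + 1) k) F)} (C : PCtx f M) (s : Fin (t + 1))
    (hperm : ∀ l l' : Fin t, l ≠ l' → ∃ g ∈ M, slotG s g = kr (flatG t k (permGL (Equiv.swap l l'))) (1 : GL (Fin k) F))
    (hbad : ¬ (pDuo hf t).NBad (M.map (slotG s).toMonoidHom)) (G : Matrix (Fin (k ^ t)) (Fin (k ^ t)) F) :
    Duo.HasAll (D := pDuo hf t) (M.map (slotG s).toMonoidHom) G := by
  classical
  have hM := side2_of hf hc C s
  obtain ⟨Z, hZ⟩ : ∃ Z : Submodule F (Matrix (Idx t k) (Idx t k) F), ∀ X, X ∈ Z ↔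
      Duo.HasAll (D := pDuo hf t) (M.map (slotG s).toMonoidHom) (flatA t k X) :=
    ⟨{ carrier := {X | Duo.HasAll (D := pDuo hf t) (M.map (slotG s).toMonoidHom) (flatA t k X)}
       zero_mem' := fun e w _ => by rw [map_zero]; exact Duo.hasT_zero e w
       add_mem' := fun h h' e w hp => by rw [map_add]; exact Duo.hasT_add hM hp.2.2 (h e w hp) (h' e w hp)
       smul_mem' := fun c X h e w hp => by
         rw [map_smul, ← one_mul (flatA t k X), ← smul_mul_assoc]
         exact Duo.hasAll_mul hk hM (fun e w hp => Duo.hasT_scalar hM hp.2.2 c) h e w hp }, fun X => Iff.rfl⟩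
  have hconj : ∀ (A : GL (Idx t k) F) g, g ∈ M → slotG s g = kr (flatG t k A) (1 : GL (Fin k) F) →
      ∀ X ∈ Z, A.val * X * A⁻¹.val ∈ Z := fun A g hg hgA X hX => (hZ _).mpr fun e w hp => by
    have hA : kr (flatG t k A) (1 : GL (Fin k) F) ∈ M.map (slotG s).toMonoidHom := ⟨g, hg, hgA⟩
    have h := Duo.hasT_conj hA (fun x y => by simp) (Duo.adjR_of_iso (by omega) (hM.iso _ hA)) ((hZ X).mp hX e w hp)
    rw [Units.val_one, one_mulVec, one_mulVec, ← map_inv, flatG_eq, flatG_eq, ← map_mul, ← map_mul] at h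
    exact h
  have hmul : ∀ X ∈ Z, ∀ Y ∈ Z, X * Y ∈ Z := fun X hX Y hY => (hZ _).mpr (by
    rw [map_mul]; exact Duo.hasAll_mul hk hM ((hZ X).mp hX) ((hZ Y).mp hY))
  have hone : (1 : Matrix (Idx t k) (Idx t k) F) ∈ Z := (hZ _).mpr fun e w hp => by
    rw [map_one, ← one_smul F (1 : Matrix (Fin (k ^ t)) (Fin (k ^ t)) F)]
    exact Duo.hasT_scalar hM hp.2.2 1
  have hst : Stab2 f Z := fun l u c X hX => by
    obtain ⟨τ, hτd⟩ : ∃ τ : GL (Idx t k) F, τ = tGL (Function.update (fun _ => 1) l (ptr f u c)) := ⟨_, rfl⟩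
    have hτe : τ.val = emb l (ptr f u c).val := mat_ext_pv fun xs => by
      rw [hτd, tGL_apply, emb_mulVec_pv]
      congr 1
      funext i
      by_cases hi : i = l
      · subst hi; simp
      · simp [hi]
    have hτ : τ.val = 1 + c • emb l (outer f u u) := by
      rw [hτe, ptr_val hf, emb_add, emb_one, emb_smul]
    have hinv : τ⁻¹.val = 1 + c • emb l (outer f u u) := by
      refine Units.inv_eq_of_mul_eq_one_right ?_
      rw [hτ, mul_add, mul_one, add_mul, one_mul, smul_mul_assoc, mul_smul_comm, ← emb_mul, outer_mul' hf,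
        hf.alternating, zero_smul, show emb l (0 : Matrix (Fin k) (Fin k) F) = 0 from (embL l).map_zero, smul_zero,
        smul_zero, add_zero, add_assoc, ← two_smul F (c • emb l (outer f u u)), hc, zero_smul, add_zero]
    have := hconj τ _ (C.root (s.succAbove l) u c) (slotG_other s l _ (by rw [flatG_eq, hτe])) X hX
    rwa [hτ, hinv] at this
  obtain ⟨X₀, hX₀, hns⟩ : ∃ X ∈ Z, ¬ ∃ c : F, X = c • 1 := by
    simp only [Duo.NBad, not_forall] at hbad
    obtain ⟨e, w, G, hp, hT, hns⟩ := hbad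
    obtain ⟨X, rfl⟩ := (flatA t k).surjective G
    exact ⟨X, (hZ X).mpr fun e' w' hp' => Duo.hasT_all_pairs hM hp hT hp',
      fun ⟨c, hX⟩ => hns ⟨c, by rw [hX, map_smul, map_one]⟩⟩
  obtain ⟨l₀, hl₀⟩ := slot_of_stable hf hc hk t Z hmul hone hst ⟨X₀, hX₀, hns⟩
  have hall : ∀ l W, emb l W ∈ Z := fun l W => by
    by_cases hl : l = l₀
    · exact hl ▸ hl₀ W
    obtain ⟨g, hg, hgA⟩ := hperm l₀ l (Ne.symm hl)
    have h := hconj _ g hg hgA _ (hl₀ W)
    rwa [show (permGL (F := F) (m := k) (Equiv.swap l₀ l)).val * emb l₀ W * (permGL (Equiv.swap l₀ l))⁻¹.val =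
      emb l W from ?_] at h
    refine mat_ext_pv fun xs => ?_
    have hP : (permGL (F := F) (m := k) (Equiv.swap l₀ l))⁻¹ = permGL (Equiv.swap l₀ l) :=
      inv_eq_of_mul_eq_one_right (ext_pv fun ys => by
        rw [Transvec.mul_mulVec, permGL_apply, permGL_apply, Units.val_one, one_mulVec]
        congr 1
        funext i
        simp [Equiv.symm_swap, Equiv.swap_apply_self])
    rw [hP, ← mulVec_mulVec, ← mulVec_mulVec, permGL_apply, emb_mulVec_pv, permGL_apply, emb_mulVec_pv]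
    congr 1
    funext i
    by_cases hi : i = l
    · subst hi; simp [Equiv.symm_swap]
    · by_cases hi0 : i = l₀
      · subst hi0; simp [Equiv.symm_swap, Ne.symm hl, hl]
      · simp [Equiv.symm_swap, Equiv.swap_apply_of_ne_of_ne hi0 hi, hi, hi0]
  obtain ⟨X, rfl⟩ := (flatA t k).surjective G
  exact (hZ X).mp (eq_top_of_slots hmul hone hall ▸ Submodule.mem_top)

end CfsgLib.Classical22.TPow
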