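/-
Characteristic two: a symplectic involution whose fixed space is its moved space, and slot-wise isometries.
-/
import Cfsg.Agent.Lib.Classical22.TensorPower.EvenFix
import Cfsg.Agent.Lib.Classical22.TensorPower.Full

set_option autoImplicit false
set_option linter.unusedSectionVars false
set_option linter.unusedSimpArgs false

namespace CfsgLib.Classical22.TPow

open Matrix Kronecker CfsgLib.Transvec CfsgLib.Classical22.TensorMax CfsgLib.Classical22.TensorMax.SympO
open CfsgLib.Classical22.TensorMax.SpO (kr kr_apply isKron_kr)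
open CfsgLib.Classical22.TWMax
open scoped MatrixGroups

variable {F : Type*} [Field F] {t k : ℕ} {f : (Fin k → F) → (Fin k → F) → F} (hf : Cfsg.Geo.IsSymplecticForm f)
include hf

/-- An involution in the group of the roots whose fixed vectors are moved vectors. -/
theorem exists_lagr (hc : (2 : F) = 0) (hk : 0 < k) :
    ∃ (B : GL (Fin k) F) (P : Matrix (Fin k) (Fin k) F),
      (∀ S : Subgroup (GL (Fin k) F), (∀ u c, ptr f u c ∈ S) → B ∈ S) ∧
      B * B = 1 ∧ B ≠ 1 ∧ (∀ x y, f (B.val *ᵥ x) (B.val *ᵥ y) = f x y) ∧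
      (B.val - 1) * P + P * (B.val - 1) = 1 := by
  classical
  have key : ∀ (n : ℕ) (W : Submodule F (Fin k → F)), Module.finrank F W ≤ n →
      (∀ x ∈ W, (∀ y ∈ W, f x y = 0) → x = 0) →
      ∃ (G : GL (Fin k) F) (P : (Fin k → F) →ₗ[F] (Fin k → F)),
        (∀ S : Subgroup (GL (Fin k) F), (∀ u c, ptr f u c ∈ S) → G ∈ S) ∧
        (∀ x y, f (G.val *ᵥ x) (G.val *ᵥ y) = f x y) ∧
        (∀ v, G.val *ᵥ v - v ∈ W ∧ P v ∈ W ∧ G.val *ᵥ (G.val *ᵥ v) = v) ∧
        (∀ v, (∀ w ∈ W, f v w = 0) → G.val *ᵥ v = v ∧ P v = 0) ∧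
        (∀ w ∈ W, G.val *ᵥ P w - P w + P (G.val *ᵥ w - w) = w) := by
    intro n
    induction n with
    | zero =>
      intro W hn _
      have hW : W = ⊥ := Submodule.finrank_eq_zero.mp (by omega)
      subst hW
      refine ⟨1, 0, fun S _ => S.one_mem, fun x y => by simp, fun v => ?_, fun v _ => by simp, fun w hw => ?_⟩
      · simp
      · rw [(Submodule.mem_bot F).mp hw]; simp
    | succ n ih =>
      intro W hn hW
      by_cases hW0 : W = ⊥
      · exact ih W (by rw [hW0, finrank_bot]; omega) hW
      obtain ⟨x, hxW, hx0⟩ := Submodule.exists_mem_ne_zero_of_ne_bot hW0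
      obtain ⟨y, hyW, hxy⟩ : ∃ y ∈ W, f x y = 1 := by
        by_contra h
        push Not at h
        refine hx0 (hW x hxW fun y hy => ?_)
        by_contra hne
        exact h _ (W.smul_mem (f x y)⁻¹ hy) (by rw [hf.bilinear.smul_right, inv_mul_cancel₀ hne])
      have hyx : f y x = 1 := by
        rw [hf.skew, hxy]
        linear_combination -hc
      obtain ⟨W', hW'⟩ : ∃ W' : Submodule F (Fin k → F), ∀ v, v ∈ W' ↔ v ∈ W ∧ f v x = 0 ∧ f v y = 0 :=
        ⟨{ carrier := {v | v ∈ W ∧ f v x = 0 ∧ f v y = 0}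
           zero_mem' := ⟨W.zero_mem, zero_left' hf x, zero_left' hf y⟩
           add_mem' := fun {a b} ha hb => ⟨W.add_mem ha.1 hb.1,
             by rw [add_left' hf, ha.2.1, hb.2.1, add_zero], by rw [add_left' hf, ha.2.2, hb.2.2, add_zero]⟩
           smul_mem' := fun c a ha => ⟨W.smul_mem c ha.1,
             by rw [smul_left' hf, ha.2.1, mul_zero], by rw [smul_left' hf, ha.2.2, mul_zero]⟩ }, fun v => Iff.rfl⟩
      have hlt : W' < W := lt_of_le_of_ne (fun v hv => ((hW' v).mp hv).1) fun e => by
        have := ((hW' x).mp (e ▸ hxW)).2.2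
        rw [hxy] at this
        exact one_ne_zero this
      have hsplit : ∀ w ∈ W, w - f w y • x - f w x • y ∈ W' := fun w hw => by
        rw [hW']
        refine ⟨W.sub_mem (W.sub_mem hw (W.smul_mem _ hxW)) (W.smul_mem _ hyW), ?_, ?_⟩
        · rw [sub_left' hf, sub_left' hf, smul_left' hf, smul_left' hf, hf.alternating, hyx]; ring
        · rw [sub_left' hf, sub_left' hf, smul_left' hf, smul_left' hf, hf.alternating, hxy]; ring
      obtain ⟨G, P, hS, hiso, hmem, hout, hid⟩ := ih W' (by have := Submodule.finrank_lt_finrank_of_lt hlt; omega)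
        fun v hv h => by
          have hv' := (hW' v).mp hv
          refine hW v hv'.1 fun w hw => ?_
          have := h _ (hsplit w hw)
          rw [sub_right' hf, sub_right' hf, smul_right' hf, smul_right' hf, hv'.2.1, hv'.2.2] at this
          simpa using this
      obtain ⟨hGx, hPx⟩ := hout x fun w hw => by rw [hf.skew, ((hW' w).mp hw).2.1, neg_zero]
      obtain ⟨hGy, hPy⟩ := hout y fun w hw => by rw [hf.skew, ((hW' w).mp hw).2.2, neg_zero]
      have hfG : ∀ v, f (G.val *ᵥ v) x = f v x := fun v => by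
        conv_lhs => rw [← hGx]
        exact hiso v x
      have hmul : ∀ v, (ptr f x 1 * G).val *ᵥ v = G.val *ᵥ v + f v x • x := fun v => by
        rw [Transvec.mul_mulVec, ptr_mulVec hf, hfG, one_mul]
      obtain ⟨Q, hQ⟩ : ∃ Q : (Fin k → F) →ₗ[F] (Fin k → F), ∀ v, Q v = P v + f v y • y :=
        ⟨P + { toFun := fun v => f v y • y
               map_add' := fun a b => by rw [add_left' hf, add_smul]
               map_smul' := fun c a => by rw [smul_left' hf, RingHom.id_apply, mul_smul] }, fun v => rfl⟩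
      refine ⟨ptr f x 1 * G, Q, fun S h => S.mul_mem (h _ _) (hS S h), fun a b => ?_, fun v => ⟨?_, ?_, ?_⟩,
        fun v hv => ⟨?_, ?_⟩, fun w hw => ?_⟩
      · rw [Transvec.mul_mulVec, Transvec.mul_mulVec, ptr_form hf, hiso]
      · rw [hmul, add_sub_right_comm]
        exact W.add_mem ((hW' _).mp (hmem v).1).1 (W.smul_mem _ hxW)
      · rw [hQ]
        exact W.add_mem ((hW' _).mp (hmem v).2.1).1 (W.smul_mem _ hyW)
      · rw [hmul, hmul, mulVec_add, mulVec_smul, (hmem v).2.2, hGx, add_left' hf, smul_left' hf, hfG, hf.alternating,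
          mul_zero, add_zero, add_assoc, ← add_smul, ← two_mul, hc, zero_mul, zero_smul, add_zero]
      · rw [hmul, (hout v fun w hw => hv w ((hW' w).mp hw).1).1, hv x hxW, zero_smul, add_zero]
      · rw [hQ, (hout v fun w hw => hv w ((hW' w).mp hw).1).2, hv y hyW, zero_smul, add_zero]
      · have e0 := hid _ (hsplit w hw)
        simp only [mulVec_sub, mulVec_smul, map_sub, map_smul, hGx, hGy, hPx, hPy, smul_zero, sub_zero] at e0
        have h1 : f (G.val *ᵥ w) y = f w y := by
          conv_lhs => rw [← hGy]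
          exact hiso w y
        simp only [hQ, hmul, mulVec_add, mulVec_smul, map_sub, map_add, map_smul, hGy, hPx, smul_zero, add_zero,
          ((hW' _).mp (hmem w).2.1).2.1, add_left' hf, sub_left' hf, smul_left' hf, hyx, h1, hxy]
        linear_combination (norm := module) e0
  obtain ⟨G, P, hS, hiso, hmem, -, hid⟩ := key k ⊤ (by rw [finrank_top, Module.finrank_fin_fun]) fun x _ h => by
    by_contra hx
    obtain ⟨y, hy⟩ := (hf.nondegenerate x hx).2
    exact hy (h y Submodule.mem_top)
  refine ⟨G, LinearMap.toMatrix' P, hS, gl_ext fun v => ?_, fun h1 => ?_, hiso,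
    Matrix.ext_iff_mulVec.2 fun v => ?_⟩
  · rw [Transvec.mul_mulVec, (hmem v).2.2, Units.val_one, one_mulVec]
  · have e := hid (Pi.single ⟨0, hk⟩ 1) Submodule.mem_top
    rw [h1, Units.val_one, one_mulVec, one_mulVec, sub_self, sub_self, map_zero, add_zero] at e
    simpa using congrFun e ⟨0, hk⟩
  · simp only [add_mulVec, ← mulVec_mulVec, sub_mulVec, one_mulVec, mulVec_sub, LinearMap.toMatrix'_mulVec]
    have e := hid v Submodule.mem_top
    rw [map_sub] at e
    exact e

/-- The factors of an isometry in the tensor wreath group are similitudes. -/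
theorem sim_of_tw {g : GL (Idx (t + 1) k) F} {σ : Equiv.Perm (Fin (t + 1))} {gs : Fin (t + 1) → GL (Fin k) F}
    (hd : TWData g σ gs) (hg : PIso f g) (r : Fin (t + 1)) :
    ∃ μ : F, μ ≠ 0 ∧ ∀ x y, f ((gs r).val *ᵥ x) ((gs r).val *ᵥ y) = μ * f x y := by
  classical
  by_cases hz : ∀ a b, f a b = 0
  · exact ⟨1, one_ne_zero, fun x y => by rw [hz, hz, mul_zero]⟩
  push Not at hz
  obtain ⟨a, b', hab'⟩ := hz
  obtain ⟨b, hab⟩ : ∃ b, f a b = 1 :=
    ⟨(f a b')⁻¹ • b', by rw [smul_right' hf, inv_mul_cancel₀ hab']⟩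
  have e : ∀ xs ys : Fin (t + 1) → Fin k → F,
      ∏ l, f ((gs l).val *ᵥ xs (σ l)) ((gs l).val *ᵥ ys (σ l)) = ∏ l, f (xs l) (ys l) := fun xs ys => by
    rw [← pForm_pv hf, ← hd xs, ← hd ys, (iso_pForm_iff g).mp hg (pv xs) (pv ys), pForm_pv hf]
  obtain ⟨K, hK⟩ : ∃ K : F, K = ∏ l ∈ Finset.univ.erase r, f ((gs l).val *ᵥ a) ((gs l).val *ᵥ b) := ⟨_, rfl⟩
  have key : ∀ x y, K * f ((gs r).val *ᵥ x) ((gs r).val *ᵥ y) = f x y := fun x y => by
    have h := e (Function.update (fun _ => a) (σ r) x) (Function.update (fun _ => b) (σ r) y)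
    rw [← Finset.prod_erase_mul _ _ (Finset.mem_univ r), Function.update_self, Function.update_self,
      Finset.prod_congr rfl (fun l hl => by
        rw [Function.update_of_ne (fun he => Finset.ne_of_mem_erase hl (σ.injective he)),
          Function.update_of_ne (fun he => Finset.ne_of_mem_erase hl (σ.injective he))]), ← hK,
      ← Finset.prod_erase_mul _ _ (Finset.mem_univ (σ r)), Function.update_self, Function.update_self,
      Finset.prod_eq_one (fun l hl => by
        rw [Function.update_of_ne (Finset.ne_of_mem_erase hl), Function.update_of_ne (Finset.ne_of_mem_erase hl),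
          hab]), one_mul] at h
    exact h
  have hK0 : K ≠ 0 := fun h0 => one_ne_zero ((hab.symm.trans ((key a b).symm.trans (by rw [h0, zero_mul]))))
  exact ⟨K⁻¹, inv_ne_zero hK0, fun x y => by rw [← key x y, inv_mul_cancel_left₀ hK0]⟩

/-- An isometry in a single slot. -/
theorem iso_of_slot {s : Fin (t + 1)} {A : GL (Fin k) F} (hg : PIso f (slotEl s A)) (x y : Fin k → F) :
    f (A.val *ᵥ x) (A.val *ᵥ y) = f x y := by
  classical
  by_cases hz : ∀ a b, f a b = 0
  · rw [hz, hz]
  push Not at hz
  obtain ⟨a, b, hab⟩ := hz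
  have h := (pForm_pv hf (fun l => (Function.update (fun _ => (1 : GL (Fin k) F)) s A l).val *ᵥ
    Function.update (fun _ => a) s x l) (fun l => (Function.update (fun _ => (1 : GL (Fin k) F)) s A l).val *ᵥ
    Function.update (fun _ => b) s y l)).symm
  have hd := slotEl_data s A
  rw [show pv (fun l => (Function.update (fun _ => (1 : GL (Fin k) F)) s A l).val *ᵥ
      Function.update (fun _ => a) s x l) = (slotEl s A).val *ᵥ pv (Function.update (fun _ => a) s x) from
      (by simpa using (hd (Function.update (fun _ => a) s x)).symm), show pv (fun l => (Function.update (fun _ => (1 : GL (Fin k) F)) s A l).val *ᵥ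
      Function.update (fun _ => b) s y l) = (slotEl s A).val *ᵥ pv (Function.update (fun _ => b) s y) from
      (by simpa using (hd (Function.update (fun _ => b) s y)).symm), (iso_pForm_iff _).mp hg (pv (Function.update (fun _ => a) s x)) (pv (Function.update (fun _ => b) s y)), pForm_pv hf,
    ← Finset.mul_prod_erase _ _ (Finset.mem_univ s), ← Finset.mul_prod_erase _ _ (Finset.mem_univ s),
    Finset.prod_congr rfl (fun l hl => by
      rw [Function.update_of_ne (Finset.ne_of_mem_erase hl), Function.update_of_ne (Finset.ne_of_mem_erase hl),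
        Function.update_of_ne (Finset.ne_of_mem_erase hl), Units.val_one, one_mulVec, one_mulVec])] at h
  have hP : ∀ l ∈ Finset.univ.erase s, f (Function.update (fun _ => a) s x l) (Function.update (fun _ => b) s y l) =
      f a b := fun l hl => by
    rw [Function.update_of_ne (Finset.ne_of_mem_erase hl), Function.update_of_ne (Finset.ne_of_mem_erase hl)]
  rw [Finset.prod_congr rfl hP] at h
  simp only [Function.update_self] at h
  exact mul_right_cancel₀ (Finset.prod_ne_zero_iff.mpr fun l _ => hab) h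

end CfsgLib.Classical22.TPow
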