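/-
Characteristic two: the product of a symplectic root and a conjugate root outside the group has odd order.
-/
import Cfsg.Agent.Lib.Classical22.TensorPower.EvenFix
import Cfsg.Agent.Lib.Classical22.TensorWreathMax.OddPairs

set_option autoImplicit false
set_option linter.unusedSectionVars false
set_option linter.unusedSimpArgs false
set_option maxHeartbeats 800000

namespace CfsgLib.Classical22.TPow

open Matrix Kronecker CfsgLib.Transvec CfsgLib.Classical22.TensorMax CfsgLib.Classical22.TensorMax.SympO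
open CfsgLib.Classical22.TensorMax.SpO (kr kr_apply isKron_kr)
open CfsgLib.Classical22.TWMax
open scoped MatrixGroups

variable {F : Type*} [Field F] [Fintype F] {T k : ℕ} {f : (Fin k → F) → (Fin k → F) → F}
  {M : Subgroup (GL (Idx (T + 2) k) F)}

/-- Where the root acts, a related root gives an even pair. -/
theorem EHyp.exists_even (H : EHyp f M) {s : Fin (T + 2)} {u φ : Fin k → F} (hax : SAx f u φ)
    {u'' : Fin k → F} (hperp : f u'' u = 0) (hout : u'' ∉ Submodule.span F ({u} : Set (Fin k → F)))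
    {S y : GL (Idx (T + 2) k) F} (hS : Odd (orderOf S))
    (hinv : rs s u φ * S * rs s u φ = S⁻¹)
    (hy : ∀ a, S.val *ᵥ a = a → y.val *ᵥ a = (rs s u φ).val *ᵥ a) {f₀ : Idx (T + 2) k → F}
    (hf : S.val *ᵥ f₀ = f₀) (hXf : (rs s u φ).val *ᵥ f₀ ≠ f₀) :
    Even (orderOf (rs s u'' (gram f *ᵥ u'') * y)) := by
  have hm := H.dim
  have hc := H.two
  have hu := hax.1
  have hφ := H.ax_dot hax
  have hφ0 := H.ax_ne hax
  obtain ⟨b, hb0, hb1⟩ := SympO.exists_dual H.symp hout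
  have hb : φ ⬝ᵥ b = 0 := by
    obtain ⟨c, -, hφe⟩ := hax.2
    rw [hφe, smul_dotProduct, ← form_eq_dot H.symp, hb0 u (Submodule.mem_span_singleton_self u), smul_zero]
  have hψb : (gram f *ᵥ u'') ⬝ᵥ b = 1 := by rw [← form_eq_dot H.symp, hb1]
  have hψ'' : (gram f *ᵥ u'') ⬝ᵥ u'' = 0 := by rw [← form_eq_dot H.symp, H.symp.alternating]
  have hfixW : ∀ w ∈ slotW s u, (rs s u'' (gram f *ᵥ u'')).val *ᵥ w = w := fun w hw => by
    refine (slotE s).symm.surjective.injective_comp_right ?_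
    simp only
    obtain ⟨x, hx⟩ := mem_slotW.mp hw
    rw [rs_mulVec hψ'', ← hx, ptL_apply, sl_pt, ← form_eq_dot H.symp, H.symp.skew u u'', hperp, neg_zero, zero_smul,
      pt_zero_left, add_zero]
  have hxsq := rs_sq (s := s) hφ
  obtain ⟨x, hx⟩ : ∃ x, x = rs s u φ := ⟨_, rfl⟩
  obtain ⟨x', hx'⟩ : ∃ x', x' = rs s u'' (gram f *ᵥ u'') := ⟨_, rfl⟩
  rw [← hx] at hinv hy hXf hxsq
  rw [← hx']
  obtain ⟨r, hr⟩ : ∃ r, r = sl (gram f *ᵥ u'') (f₀ ∘ (slotE s).symm) := ⟨_, rfl⟩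
  obtain ⟨v₀, hv₀⟩ : ∃ v₀ : Idx (T + 2) k → F, v₀ ∘ (slotE s).symm = pt r b :=
    ⟨pt r b ∘ slotE s, by rw [Function.comp_assoc, Equiv.self_comp_symm, Function.comp_id]⟩
  have hinj := (slotE (m := k) s).symm.surjective.injective_comp_right (γ := F)
  have hxv : x.val *ᵥ v₀ = v₀ := hinj (by
    simp only
    rw [hx, rs_mulVec hφ, hv₀, sl_pt, hb, zero_smul, pt_zero_left, add_zero])
  have hsub : x'.val *ᵥ v₀ - v₀ = x'.val *ᵥ f₀ - f₀ := hinj (by
    simp only [Pi.sub_comp]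
    rw [hx', rs_mulVec hψ'', rs_mulVec hψ'', add_sub_cancel_left, add_sub_cancel_left, hv₀, sl_pt, hψb, one_smul, hr])
  -- components
  obtain ⟨a, ha⟩ : ∃ a, a = prC S v₀ := ⟨_, rfl⟩
  have hSa : S.val *ᵥ a = a := ha ▸ fix_prC v₀
  have hxa : x.val *ᵥ a = a := by rw [ha, ← prC_x hS hc hxsq hinv, hxv]
  have hb₀ : v₀ - a ∈ mv x := mem_mv_of_moved hS hc hxsq hinv (ha ▸ sub_prC_mem hS hc v₀)
    (by rw [mulVec_sub, hxv, hxa])
  rw [hx, mv_rs hφ hφ0] at hb₀
  obtain ⟨g₀, hg₀⟩ : ∃ g₀, g₀ = f₀ - a := ⟨_, rfl⟩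
  have hg₀' : x'.val *ᵥ g₀ = g₀ := by
    have e : x'.val *ᵥ (v₀ - a) = v₀ - a := (hx' ▸ hfixW _ hb₀)
    rw [mulVec_sub] at e
    rw [hg₀, mulVec_sub]
    linear_combination (norm := abel) e - hsub
  obtain ⟨p, hp⟩ : ∃ p, p = x.val *ᵥ f₀ - f₀ := ⟨_, rfl⟩
  have hp0 : p ≠ 0 := fun h => hXf (sub_eq_zero.mp (hp.symm.trans h))
  have hpW : p ∈ slotW s u := by rw [hp, ← mv_rs (s := s) hφ hφ0, ← hx]; exact sub_mem_mv _ _
  have hSp : S.val *ᵥ p = p := by
    rw [hp, mulVec_sub, hf, fix_x_of_fix hS hc hxsq hinv hf]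
  have hxp : x.val *ᵥ p = p := hx ▸ rs_fix hφ hpW
  have hx'p : x'.val *ᵥ p = p := (hx' ▸ hfixW _ hpW)
  have hyg : y.val *ᵥ g₀ = g₀ + p := by
    rw [hy g₀ (by rw [hg₀, mulVec_sub, hf, hSa]), hg₀, mulVec_sub, hxa, hp]
    abel
  obtain ⟨w, hw⟩ : ∃ w, w = x' * y := ⟨_, rfl⟩
  rw [← hw]
  have hwg : w.val *ᵥ g₀ = g₀ + p := by rw [hw, Transvec.mul_mulVec, hyg, mulVec_add, hg₀', hx'p]
  have hwp : w.val *ᵥ p = p := by rw [hw, Transvec.mul_mulVec, hy p hSp, hxp, hx'p]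
  have hpow : ∀ n : ℕ, (w ^ n).val *ᵥ g₀ = g₀ + (n : F) • p := fun n => by
    induction n with
    | zero => simp
    | succ n ih =>
      rw [pow_succ', Transvec.mul_mulVec, ih, mulVec_add, mulVec_smul, hwg, hwp, Nat.cast_succ, add_smul, one_smul]
      abel
  rw [← Nat.not_odd_iff_even]
  intro hodd
  have := hpow (orderOf w)
  rw [pow_orderOf_eq_one, Units.val_one, one_mulVec, natCast_odd hc hodd, one_smul] at this
  exact hp0 (by simpa using this.symm)

/-- An even pair yields a partner root of another slot. -/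
theorem EHyp.partner (H : EHyp f M) {g : GL (Idx (T + 2) k) F} (hg : g ∈ M) (hne : ¬ IsTW g)
    {s r : Fin (T + 2)} {u φ v ψ : Fin k → F} (hax : SAx f u φ)
    (hbx : SAx f v ψ)
    (heven : Even (orderOf (rs s u φ * (g * rs r v ψ * g⁻¹)))) :
    ∃ (s' : Fin (T + 2)) (u' φ' : Fin k → F) (l : ℕ), s' ≠ s ∧ u' ≠ 0 ∧ φ' ⬝ᵥ u' = 0 ∧ φ' ≠ 0 ∧
      orderOf (rs s u φ * (g * rs r v ψ * g⁻¹)) = 2 * (2 * l + 1) ∧
      (rs s u φ * (g * rs r v ψ * g⁻¹)) ^ (2 * l + 1) = rs s u φ * rs s' u' φ' ∧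
      mv (rs s' u' φ') ≤ mv (rs s u φ) ⊔ mv (g * rs r v ψ * g⁻¹) := by
  classical
  have hm := H.dim
  have hc := H.two
  have hu := hax.1
  have hφ := H.ax_dot hax
  have hφ0 := H.ax_ne hax
  have hv := hbx.1
  have hψ := H.ax_dot hbx
  have hψ0 := H.ax_ne hbx
  obtain ⟨x, hxdef⟩ : ∃ x, x = rs s u φ := ⟨_, rfl⟩
  obtain ⟨z, hzdef⟩ : ∃ z, z = g * rs r v ψ * g⁻¹ := ⟨_, rfl⟩
  rw [← hxdef, ← hzdef] at heven ⊢
  have hxsq : (x.val - 1) * (x.val - 1) = 0 := hxdef ▸ rs_sq hφ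
  have hzsq : (z.val - 1) * (z.val - 1) = 0 := hzdef ▸ conj_sq g _ (rs_sq hψ)
  have hxx := invol_of_sq hc hxsq
  have hzz := invol_of_sq hc hzsq
  have hxM : x ∈ M := hxdef ▸ H.rs_mem s hax
  have hzM : z ∈ M := hzdef ▸ mul_mem (mul_mem hg (H.rs_mem r hbx)) (inv_mem hg)
  have hzTW : ¬ IsTW z := fun h => hne (H.tw_of_conj hg hbx (hzdef ▸ h))
  obtain ⟨i, l, hord, hvpow, hvord, hP⟩ := two_part hxx hzz
  obtain ⟨w, hw⟩ : ∃ w, w = x * z := ⟨_, rfl⟩
  rw [← hw] at hord hvpow hvord hP heven ⊢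
  obtain ⟨v', hv'⟩ : ∃ v', v' = w ^ (2 * l + 1) := ⟨_, rfl⟩
  rw [← hv'] at hvpow hvord hP
  have hi : i ≠ 0 := by
    rintro rfl
    rw [hord, pow_zero, one_mul] at heven
    exact absurd heven (by rw [Nat.not_even_iff_odd]; exact ⟨l, rfl⟩)
  have hwM : w ∈ M := hw ▸ mul_mem hxM hzM
  -- the conjugate of `z` in the 2-group
  obtain ⟨c, hcdef⟩ : ∃ c, c = (w ^ l)⁻¹ * g := ⟨_, rfl⟩
  have hcz : x * v' = c * rs r v ψ * c⁻¹ := by
    rw [hv', hw, mul_odd_pow_conj hxx hzz, ← hw, hcdef, _root_.mul_inv_rev, inv_inv, hzdef]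
    simp only [mul_assoc]
  haveI : Fact (Nat.Prime 2) := ⟨Nat.prime_two⟩
  have hQ : Subgroup.closure ({x, v'} : Set (GL (Idx (T + 2) k) F)) ≤ M :=
    (Subgroup.closure_le M).mpr (by rintro _ (rfl | rfl); exacts [hxM, hv' ▸ pow_mem hwM _])
  have hTW : IsTW (x * v') := H.tw_of_pGroup hQ hP (s := s) hax
    (by rw [← hxdef]; exact Subgroup.subset_closure (by simp)) _
    (mul_mem (Subgroup.subset_closure (by simp)) (Subgroup.subset_closure (by simp)))
  have hcM : c ∈ M := hcdef ▸ mul_mem (inv_mem (pow_mem hwM _)) hg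
  obtain ⟨s', u', φ', hu', hφ', hφ'0, hx'⟩ := TWMax.root_of_tw (H.tw_of_conj hcM hbx (hcz ▸ hTW)) hv hψ hψ0
  rw [← hcz] at hx'
  have hvx : v' = x * rs s' u' φ' := by rw [← hx', ← mul_assoc, hxx, one_mul]
  -- nothing of the form of a root commutes with `z`
  have hzw : ∀ k : ℕ, z * w ^ k * z = (w ^ k)⁻¹ := fun k => by
    have e := congrArg (·⁻¹) (invol_conj_pow hzz hxx k)
    simp only [inv_inv] at e
    have hzx : z * x = w⁻¹ := by
      rw [hw, _root_.mul_inv_rev, inv_eq_of_mul_eq_one_right hzz, inv_eq_of_mul_eq_one_right hxx]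
    rw [hzx, inv_pow, _root_.mul_inv_rev, _root_.mul_inv_rev, inv_inv, inv_eq_of_mul_eq_one_right hzz,
      ← mul_assoc] at e
    calc z * w ^ k * z = z * (z * (w ^ k)⁻¹ * z) * z := by
          conv_lhs => rw [← inv_inv (w ^ k), ← e]
          simp only [_root_.mul_inv_rev, inv_inv, inv_eq_of_mul_eq_one_right hzz, mul_assoc]
      _ = (w ^ k)⁻¹ := by rw [← mul_assoc, ← mul_assoc, hzz, one_mul, mul_assoc, hzz, mul_one]
  have hroot : ∀ (s'' : Fin (T + 2)) (a b : Fin k → F), a ≠ 0 → b ⬝ᵥ a = 0 → b ≠ 0 →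
      z * rs s'' a b * z = (rs s'' a b)⁻¹ → False := by
    intro s'' a b ha hb hb0 he
    have hR : rs s'' a b * rs s'' a b = 1 := invol_of_sq hc (rs_sq hb)
    rw [inv_eq_of_mul_eq_one_right hR] at he
    refine hzTW (H.tw_of_fix (s := s'') hzM ha ?_)
    rw [← mv_rs hb hb0, ← mv_conj, inv_eq_of_mul_eq_one_right hzz, he]
  -- the partner lies in another slot
  have hs' : s' ≠ s := by
    intro hss
    subst hss
    obtain ⟨t, ht⟩ : ∃ t, t = transv u φ := ⟨_, rfl⟩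
    obtain ⟨t', ht'⟩ : ∃ t', t' = transv u' φ' := ⟨_, rfl⟩
    have hvB : v' = slotEl s' (t * t') := by rw [hvx, hxdef, rs, rs, slotEl_mul, ht, ht']
    have hpow : (t * t') ^ 2 ^ i = 1 := slotEl_injective (by omega) s'
      (by rw [← slotEl_pow, ← hvB, hvpow, slotEl_one])
    have hv2 : v' * v' = w ^ (2 * (2 * l + 1)) := by rw [hv', ← pow_add, ← two_mul]
    by_cases hl : φ ⬝ᵥ u' = 0
    swap
    · by_cases hl' : φ' ⬝ᵥ u = 0
      swap
      · exact transv_pair_pow_ne hc hu hφ hφ' hl hl' i (ht ▸ ht' ▸ hpow)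
      have hd : ((φ ⬝ᵥ u') • φ') ⬝ᵥ u = 0 := by rw [smul_dotProduct, hl', smul_zero]
      refine hroot s' u ((φ ⬝ᵥ u') • φ') hu hd (smul_ne_zero hl hφ'0) ?_
      have e : rs s' u ((φ ⬝ᵥ u') • φ') = (v' * v')⁻¹ := by
        rw [rs, ← transv_pair_sq hc hφ' hφ hl', ← slotEl_mul, ← slotEl_mul, hvx, hxdef, rs, rs]
        have h1 : slotEl s' (transv u φ) * slotEl s' (transv u φ) = 1 := invol_of_sq hc (rs_sq hφ)
        have h2 : slotEl s' (transv u' φ') * slotEl s' (transv u' φ') = 1 := invol_of_sq hc (rs_sq hφ')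
        rw [_root_.mul_inv_rev, _root_.mul_inv_rev, inv_eq_of_mul_eq_one_right h1, inv_eq_of_mul_eq_one_right h2]
      rw [e, inv_inv, hv2]
      calc z * (w ^ (2 * (2 * l + 1)))⁻¹ * z = (z * w ^ (2 * (2 * l + 1)) * z)⁻¹ := by
            rw [_root_.mul_inv_rev, _root_.mul_inv_rev, inv_eq_of_mul_eq_one_right hzz, mul_assoc]
        _ = _ := by rw [hzw, inv_inv]
    have hsq : t * t' * (t * t') = transv u' ((φ' ⬝ᵥ u) • φ) := ht ▸ ht' ▸ transv_pair_sq hc hφ hφ' hl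
    by_cases hl' : φ' ⬝ᵥ u = 0
    swap
    · refine hroot s' u' ((φ' ⬝ᵥ u) • φ) hu' (by rw [smul_dotProduct, hl, smul_zero]) (smul_ne_zero hl' hφ0) ?_
      rw [show rs s' u' ((φ' ⬝ᵥ u) • φ) = w ^ (2 * (2 * l + 1)) from by
        rw [← hv2, hvB, slotEl_mul, hsq]; rfl, hzw]
    -- an involution with commuting factors
    have hv1 : v' * v' = 1 := by
      rw [hvB, slotEl_mul, hsq, hl', zero_smul, transv_zero, slotEl_one]
    have hi1 : i = 1 := by
      have := Nat.le_of_dvd two_pos (hvord ▸ orderOf_dvd_of_pow_eq_one (by rw [pow_two]; exact hv1))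
      have h2 : 2 ^ i ≤ 2 ^ 1 := by simpa using this
      have := (Nat.pow_le_pow_iff_right (by norm_num : 1 < 2)).mp h2
      omega
    have hv'ne : v' ≠ 1 := fun h => by
      rw [h, orderOf_one, hi1] at hvord; norm_num at hvord
    have hvinv : z * v' * z = v'⁻¹ := by rw [hv', hzw]
    by_cases hu'u : u' ∈ Submodule.span F ({u} : Set (Fin k → F))
    · obtain ⟨d, hd⟩ := Submodule.mem_span_singleton.mp hu'u
      have hd' : (d • φ') ⬝ᵥ u = 0 := by rw [smul_dotProduct, hl', smul_zero]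
      have e : v' = rs s' u (φ + d • φ') := by
        rw [hvB, ht, ht', ← hd, transv_smul_left d hl', transv_mul hφ hd']; rfl
      refine hroot s' u (φ + d • φ') hu (by rw [add_dotProduct, hφ, hd', add_zero]) (fun h => ?_) (e ▸ hvinv)
      rw [h, rs, transv_zero, slotEl_one] at e
      exact hv'ne e
    by_cases hφφ : φ ∈ Submodule.span F ({φ'} : Set (Fin k → F))
    · obtain ⟨d, hd⟩ := Submodule.mem_span_singleton.mp hφφ
      have hd0 : d ≠ 0 := fun h0 => hφ0 (by rw [← hd, h0, zero_smul])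
      have hd' : φ' ⬝ᵥ (d • u) = 0 := by rw [dotProduct_smul, hl', smul_zero]
      have e : v' = rs s' (d • u + u') φ' := by
        rw [hvB, ht, ht', ← hd, rs, ← transv_smul_left d hl']
        congr 1
        refine gl_ext fun y => ?_
        rw [Transvec.mul_mulVec, transv_mulVec hφ', transv_mulVec hd',
          transv_mulVec (by rw [dotProduct_add, hd', hφ', add_zero]), dotProduct_add, dotProduct_smul, hφ',
          smul_zero, add_zero, smul_add]
        abel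
      refine hroot s' (d • u + u') φ' (fun h => hu'u ?_) (by rw [dotProduct_add, hd', hφ', add_zero]) hφ'0 (e ▸ hvinv)
      rw [eq_neg_of_add_eq_zero_right h, ← neg_smul]
      exact Submodule.smul_mem _ _ (Submodule.mem_span_singleton_self u)
    · obtain ⟨e₀, he₀, he₁⟩ := exists_functional hφφ
      have hφb : φ ⬝ᵥ e₀ = 1 := by rw [dotProduct_comm]; exact he₁
      have hφ'b : φ' ⬝ᵥ e₀ = 0 := by rw [dotProduct_comm]; exact he₀ _ (Submodule.mem_span_singleton_self φ')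
      -- the pure subspace is moved
      have hW : slotW s' u ≤ mv v' := slotW_le fun xs hxs => by
        have e : v'.val *ᵥ pv (Function.update xs s' e₀) =
            pv (Function.update xs s' e₀) + pv xs := by
          rw [hvB, slotEl_apply, Function.update_idem, Function.update_self, Transvec.mul_mulVec, ht, ht',
            transv_mulVec hφ', hφ'b, zero_smul, add_zero, transv_mulVec hφ, hφb, one_smul, pv_update_add]
          congr 2
          rw [← hxs, Function.update_eq_self]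
        exact mem_mv.mpr ⟨_, by rw [e, add_sub_cancel_left]⟩
      obtain ⟨S, hSdef⟩ : ∃ S, S = w ^ 2 := ⟨_, rfl⟩
      have hSodd : Odd (orderOf S) := by
        rw [hSdef, orderOf_pow' _ (by norm_num), hord, hi1, pow_one, Nat.gcd_mul_right_left,
          Nat.mul_div_cancel_left _ two_pos]
        exact ⟨l, rfl⟩
      have hinv : x * S * x = S⁻¹ := by rw [hSdef, hw]; exact invol_conj_pow hxx hzz 2
      have hcomm : Commute v' S := by rw [hv', hSdef]; exact Commute.pow_pow_self w _ _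
      have hfixW : ∀ p ∈ mv x, v'.val *ᵥ p = p := fun p hp => by
        rw [hxdef, mv_rs hφ hφ0] at hp
        have e1 : (rs s' u' φ').val *ᵥ p = p := (slotE s').symm.surjective.injective_comp_right (by
          simp only
          obtain ⟨q, hq⟩ := mem_slotW.mp hp
          rw [rs_mulVec hφ', ← hq, ptL_apply, sl_pt, hl', zero_smul, pt_zero_left, add_zero])
        rw [hvx, Transvec.mul_mulVec, e1, hxdef, rs_fix hφ hp]
      have hzero : ∀ p ∈ mv x ⊓ mv S, p = 0 := fun p hp => by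
        have hpW : p ∈ mv v' := hW (by have := hp.1; rwa [hxdef, mv_rs hφ hφ0] at this)
        obtain ⟨e, he⟩ := mem_mv.mp hpW
        have hpr : prC S p = 0 := prC_eq_zero hSodd hc hp.2
        have he' : p = v'.val *ᵥ (e - prC S e) - (e - prC S e) := by
          rw [mulVec_sub, ← prC_comm hcomm, ← sub_zero p, ← hpr]
          conv_lhs => rw [← he, map_sub]
          abel
        obtain ⟨p₁, hp₁, q, hq, hpq⟩ := moved_eq_pair hSodd hc hxsq hinv (sub_prC_mem hSodd hc e)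
        rw [he', hpq, mulVec_add, hfixW p₁ hp₁.1, ← Transvec.mul_mulVec v' S, hcomm.eq, Transvec.mul_mulVec,
          hfixW q hq.1, sub_self]
      have hS1 : S = 1 := gl_ext fun p => by
        obtain ⟨p₁, hp₁, q, hq, hpq⟩ := moved_eq_pair hSodd hc hxsq hinv (sub_mem_mv S p)
        rw [hzero p₁ hp₁, hzero q hq, mulVec_zero, add_zero, sub_eq_zero] at hpq
        rw [hpq, Units.val_one, one_mulVec]
      have hP' := isPGroup_dihedral (v := w) hxx
        (by rw [hw]; have := invol_conj_pow hxx hzz 1; rwa [pow_one] at this) (i := 1)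
        (by rw [pow_one, ← hSdef, hS1])
      have hQ' : Subgroup.closure ({x, w} : Set (GL (Idx (T + 2) k) F)) ≤ M :=
        (Subgroup.closure_le M).mpr (by rintro _ (rfl | rfl); exacts [hxM, hwM])
      refine hzTW ?_
      have hzmem : z ∈ Subgroup.closure ({x, w} : Set (GL (Idx (T + 2) k) F)) := by
        rw [show z = x * w by rw [hw, ← mul_assoc, hxx, one_mul]]
        exact mul_mem (Subgroup.subset_closure (by simp)) (Subgroup.subset_closure (by simp))
      exact H.tw_of_pGroup hQ' hP' (s := s') hax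
        (by rw [← hxdef]; exact Subgroup.subset_closure (by simp)) z hzmem
  have hv1 : v' * v' = 1 := by
    have h2 : rs s' u' φ' * rs s' u' φ' = 1 := invol_of_sq hc (rs_sq hφ')
    rw [hvx, mul_assoc, ← mul_assoc (rs s' u' φ'), hxdef, rs_comm hs', mul_assoc, h2, mul_one, ← hxdef, hxx]
  have hi1 : i = 1 := by
    have := Nat.le_of_dvd two_pos (hvord ▸ orderOf_dvd_of_pow_eq_one (by rw [pow_two]; exact hv1))
    have h2 : 2 ^ i ≤ 2 ^ 1 := by simpa using this
    have := (Nat.pow_le_pow_iff_right (by norm_num : 1 < 2)).mp h2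
    omega
  refine ⟨s', u', φ', l, hs', hu', hφ', hφ'0, by rw [hord, hi1, pow_one], hv' ▸ hvx, ?_⟩
  rw [show rs s' u' φ' = x * v' from hx'.symm, hv']
  refine (mv_mul_le _ _).trans (sup_le le_sup_left ((mv_inf_mv_pow w _).trans ?_))
  rw [hw]
  exact mv_mul_le _ _

/-- No pair has even order. -/
theorem EHyp.no_even (H : EHyp f M) {g : GL (Idx (T + 2) k) F} (hg : g ∈ M) (hne : ¬ IsTW g)
    {s r : Fin (T + 2)} {u φ v ψ : Fin k → F} (hax : SAx f u φ)
    (hbx : SAx f v ψ) :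
    ¬ Even (orderOf (rs s u φ * (g * rs r v ψ * g⁻¹))) := by
  classical
  intro heven
  have hm := H.dim
  have hc := H.two
  have hu := hax.1
  have hφ := H.ax_dot hax
  have hφ0 := H.ax_ne hax
  have hv := hbx.1
  have hψ := H.ax_dot hbx
  have hψ0 := H.ax_ne hbx
  obtain ⟨s', u', φ', l, hs', hu', hφ', hφ'0, hord, hv', -⟩ := H.partner hg hne hax hbx heven
  obtain ⟨x, hxdef⟩ : ∃ x, x = rs s u φ := ⟨_, rfl⟩
  obtain ⟨x', hx'def⟩ : ∃ x', x' = rs s' u' φ' := ⟨_, rfl⟩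
  obtain ⟨z, hzdef⟩ : ∃ z, z = g * rs r v ψ * g⁻¹ := ⟨_, rfl⟩
  rw [← hxdef, ← hzdef] at hord hv'
  rw [← hx'def] at hv'
  obtain ⟨w, hw⟩ : ∃ w, w = x * z := ⟨_, rfl⟩
  rw [← hw] at hord hv'
  obtain ⟨h, hh⟩ : ∃ h, h = x * x' := ⟨_, rfl⟩
  rw [← hh] at hv'
  obtain ⟨S, hSdef⟩ : ∃ S, S = w ^ 2 := ⟨_, rfl⟩
  have hxsq : (x.val - 1) * (x.val - 1) = 0 := hxdef ▸ rs_sq hφ
  have hxx := invol_of_sq hc hxsq
  have hzz : z * z = 1 := invol_of_sq hc (hzdef ▸ conj_sq g _ (rs_sq hψ))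
  have hxM : x ∈ M := hxdef ▸ H.rs_mem s hax
  have hzM : z ∈ M := hzdef ▸ mul_mem (mul_mem hg (H.rs_mem r hbx)) (inv_mem hg)
  have hwM : w ∈ M := hw ▸ mul_mem hxM hzM
  have hwTW : ¬ IsTW w := fun hwt => by
    refine hne (H.tw_of_conj (s := r) hg hbx ?_)
    rw [← hzdef, show z = x * w by rw [hw, ← mul_assoc, hxx, one_mul]]
    exact tw_mul (by rw [hxdef]; exact ⟨_, _, slotEl_data s (transv u φ)⟩) hwt
  have hSodd : Odd (orderOf S) := by
    rw [hSdef, orderOf_pow' _ (by norm_num), hord, Nat.gcd_mul_right_left, Nat.mul_div_cancel_left _ two_pos]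
    exact ⟨l, rfl⟩
  have hinv : x * S * x = S⁻¹ := by rw [hSdef, hw]; exact invol_conj_pow hxx hzz 2
  have hxx' : x * x' = x' * x := by rw [hxdef, hx'def]; exact rs_comm hs'.symm u φ u' φ'
  have hhS : Commute h S := by rw [← hv', hSdef]; exact Commute.pow_pow_self w _ _
  have hhw : Commute h w := by rw [← hv']; exact Commute.pow_self w _
  have hhx : Commute h x := by
    rw [hh]
    change x * x' * x = x * (x * x')
    rw [mul_assoc, ← hxx']
  obtain ⟨W, hW⟩ : ∃ W : Submodule F (Idx (T + 2) k → F), W = slotW s u := ⟨_, rfl⟩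
  have hWx : mv x = W := by rw [hW, hxdef, mv_rs hφ hφ0]
  obtain ⟨Wv, hWv⟩ : ∃ Wv : Submodule F (Idx (T + 2) k → F), Wv = W ⊓ mv S := ⟨_, rfl⟩
  have hWmem : ∀ p ∈ Wv, p ∈ mv x ⊓ mv S := fun p hp => by rw [hWx, ← hWv]; exact hp
  have hxfix : ∀ p ∈ W, x.val *ᵥ p = p := fun p hp => fix_mv_of_sq hxsq (hWx.symm ▸ hp)
  have hhW : ∀ p ∈ W, h.val *ᵥ p ∈ W := fun p hp => hWx ▸ comm_moved hhx (hWx.symm ▸ hp)
  have hx'W : ∀ p ∈ W, x'.val *ᵥ p = h.val *ᵥ p := fun p hp => by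
    rw [hh, hxx', Transvec.mul_mulVec, hxfix p hp]
  have hWvmem : ∀ q, q ∈ Wv ↔ q ∈ W ∧ q ∈ mv S := fun q => by rw [hWv]; rfl
  -- the map `h - 1` on `Wv`
  obtain ⟨N, hN⟩ : ∃ N : Wv →ₗ[F] (Idx (T + 2) k → F), ∀ p : Wv, N p = h.val *ᵥ p.1 - p.1 :=
    ⟨(Matrix.mulVecLin h.val - LinearMap.id).comp Wv.subtype, fun p => rfl⟩
  have hNmem : ∀ p : Wv, N p ∈ Wv := fun p => by
    rw [hN, hWvmem]
    have hp := (hWvmem _).mp p.2
    exact ⟨sub_mem (hhW _ hp.1) hp.1, sub_mem (comm_moved hhS hp.2) hp.2⟩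
  obtain ⟨A, hA⟩ := rs_other (m := k) hs' u' φ'
  have hcrit : ∀ p : Wv, N p = 0 → ∃ q : Wv, N q = p.1 := by
    intro p hp
    have hp' := ((hWvmem _).mp p.2)
    rw [hN, sub_eq_zero, ← hx'W _ hp'.1] at hp
    obtain ⟨rr, hrr⟩ := mem_slotW.mp (hW ▸ hp'.1)
    obtain ⟨j, hj⟩ := Function.ne_iff.mp hφ0
    obtain ⟨e, he⟩ : ∃ e : Idx (T + 2) k → F, e ∘ (slotE s).symm = pt rr (Pi.single j (φ j)⁻¹) :=
      ⟨pt rr (Pi.single j (φ j)⁻¹) ∘ slotE s,
        by rw [Function.comp_assoc, Equiv.self_comp_symm, Function.comp_id]⟩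
    have hinj := (slotE (m := k) s).symm.surjective.injective_comp_right (γ := F)
    have hx' : ∀ k : Idx (T + 2) k → F, (x'.val *ᵥ k) ∘ (slotE s).symm = (kr A 1).val *ᵥ (k ∘ (slotE s).symm) :=
      fun k => by rw [← glReindex_mulVec, ← slotG, hx'def, hA]
    have hAr : A.val *ᵥ rr = rr := by
      have e1 := hx' p.1
      rw [hp, ← hrr, ptL_apply, kr_apply, Units.val_one, one_mulVec] at e1
      exact (pt_injective hu e1).symm
    have hxe : x'.val *ᵥ e = e := hinj (by simp only; rw [hx', he, kr_apply, hAr, Units.val_one, one_mulVec])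
    have he' : h.val *ᵥ e - e = p.1 := by
      rw [hh, Transvec.mul_mulVec, hxe]
      refine hinj ?_
      simp only [Pi.sub_comp]
      rw [hxdef, rs_mulVec hφ, add_sub_cancel_left, he, sl_pt, dotProduct_single, mul_inv_cancel₀ hj, one_smul,
        ← hrr, ptL_apply]
    have hpr : prC S p.1 = 0 := prC_eq_zero hSodd hc hp'.2
    have he'' : p.1 = h.val *ᵥ (e - prC S e) - (e - prC S e) := by
      rw [mulVec_sub, ← prC_comm hhS, ← sub_zero p.1, ← hpr]
      conv_lhs => rw [← he', map_sub]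
      abel
    obtain ⟨p₁, hp₁, q, hq, hpq⟩ := moved_eq_pair hSodd hc hxsq hinv (sub_prC_mem hSodd hc e)
    have hp₁W : p₁ ∈ Wv := by rw [hWv, ← hWx]; exact hp₁
    have hqW : q ∈ Wv := by rw [hWv, ← hWx]; exact hq
    have e3 : p.1 - N ⟨p₁, hp₁W⟩ = S.val *ᵥ N ⟨q, hqW⟩ := by
      rw [hN, hN, he'', hpq, mulVec_add, ← Transvec.mul_mulVec h S, hhS.eq, Transvec.mul_mulVec, mulVec_sub]
      simp only
      abel
    exact ⟨⟨p₁, hp₁W⟩, (sub_eq_zero.mp (pair_inf hSodd hc hxsq hinv (hWmem _ (sub_mem p.2 (hNmem _)))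
      (hWmem _ (hNmem _)) e3)).symm⟩
  have ho : 0 < k ^ T := Nat.pow_pos (by omega)
  have hdimW : Module.finrank F W = k * k ^ T := by rw [hW, finrank_slotW _ hu, pow_succ']
  have hNle : LinearMap.range N ≤ W ⊓ mv x' := by
    rintro _ ⟨p, rfl⟩
    have hp := hNmem p
    rw [hWvmem] at hp
    refine ⟨hp.1, ?_⟩
    rw [hN, ← hx'W p.1 ((hWvmem _).mp p.2).1]
    exact sub_mem_mv _ _
  have hrkN : Module.finrank F (LinearMap.range N) ≤ k ^ T :=
    (Submodule.finrank_mono hNle).trans (by rw [hW, hx'def, mv_rs hφ' hφ'0]; exact finrank_inf_slotW hs' hu hu')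
  have hdim : Module.finrank F Wv ≤ 2 * Module.finrank F (LinearMap.range N) := by
    have h1 : (LinearMap.ker N).map Wv.subtype ≤ LinearMap.range N := by
      rintro _ ⟨p, hp, rfl⟩
      obtain ⟨q, hq⟩ := hcrit p hp
      exact ⟨q, hq⟩
    have h2 := Submodule.finrank_mono h1
    rw [Submodule.finrank_map_subtype_eq] at h2
    have h3 := LinearMap.finrank_range_add_finrank_ker N
    omega
  -- a fixed vector moved by the root
  obtain ⟨f₀, hSf, hxf⟩ : ∃ f₀, S.val *ᵥ f₀ = f₀ ∧ x.val *ᵥ f₀ ≠ f₀ := by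
    by_contra hall
    push Not at hall
    have hle : W ≤ Wv := fun p hp => by
      rw [hWv]
      refine ⟨hp, ?_⟩
      obtain ⟨e, he⟩ := mem_mv.mp (hWx.symm ▸ hp)
      have : prC S p = 0 := by
        rw [← he, map_sub, prC_x hSodd hc hxsq hinv, hall _ (fix_prC e), sub_self]
      have h2 := sub_prC_mem (s := S) hSodd hc p
      rwa [this, sub_zero] at h2
    have := Submodule.finrank_mono hle
    have : 6 * k ^ T ≤ k * k ^ T := Nat.mul_le_mul_right _ hm
    omega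
  -- a second even pair
  have hyS : w * x * w⁻¹ = S * x := by
    have e1 : x * w * x = w⁻¹ := by have := invol_conj_pow hxx hzz 1; rwa [pow_one, ← hw] at this
    rw [← e1, hSdef, pow_two]
    simp only [mul_assoc]
    rw [← mul_assoc x x, hxx, one_mul]
  obtain ⟨u'', hperp, -, hout⟩ := exists_perp_notMem H.symp (by omega) u u
  rw [Set.pair_eq_singleton] at hout
  have hu'' : u'' ≠ 0 := fun h0 => hout (h0 ▸ Submodule.zero_mem _)
  have hax'' : SAx f u'' (gram f *ᵥ u'') := ⟨hu'', 1, one_ne_zero, (one_smul _ _).symm⟩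
  have heven' : Even (orderOf (rs s u'' (gram f *ᵥ u'') * (w * rs s u φ * w⁻¹))) :=
    H.exists_even hax hperp hout (y := w * rs s u φ * w⁻¹) hSodd (hxdef ▸ hinv)
      (fun a ha => by rw [← hxdef, hyS, Transvec.mul_mulVec, fix_x_of_fix hSodd hc hxsq hinv ha]) hSf (hxdef ▸ hxf)
  obtain ⟨r', u₃, φ₃, l', hr', hu₃, hφ₃, hφ₃0, -, -, hle⟩ := H.partner hwM hwTW hax'' hax heven'
  rw [mv_rs (H.ax_dot hax'') (H.ax_ne hax''), mv_rs hφ₃ hφ₃0, mv_conj, mv_rs hφ hφ0, ← hW] at hle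
  obtain ⟨P, hP⟩ : ∃ P : Submodule F (Idx (T + 2) k → F), P = slotW r' u₃ := ⟨_, rfl⟩
  rw [← hP] at hle
  have hwa : ∀ a, S.val *ᵥ a = a → w.val *ᵥ a = h.val *ᵥ a := fun a ha => by
    have e : ∀ j : ℕ, (S ^ j).val *ᵥ a = a := fun j => by
      induction j with
      | zero => simp
      | succ j ih => rw [pow_succ, Transvec.mul_mulVec, ha, ih]
    rw [← hv', pow_succ', pow_mul, ← hSdef, Transvec.mul_mulVec, e]
  have hgW : gim w W ≤ W ⊔ gim w Wv := by
    intro q hq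
    obtain ⟨p, hp, rfl⟩ := mem_gim.mp hq
    obtain ⟨e, he⟩ := mem_mv.mp (hWx.symm ▸ hp)
    have hpC : prC S p ∈ W := by
      rw [← he, map_sub, prC_x hSodd hc hxsq hinv, ← hWx]; exact sub_mem_mv _ _
    rw [show w.val *ᵥ p = w.val *ᵥ prC S p + w.val *ᵥ (p - prC S p) by rw [← mulVec_add, add_sub_cancel]]
    refine Submodule.add_mem_sup ?_ (mem_gim.mpr ⟨_, ?_, rfl⟩)
    · rw [hwa _ (fix_prC p)]; exact hhW _ hpC
    · rw [hWv]; exact ⟨sub_mem hp hpC, sub_prC_mem hSodd hc p⟩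
  obtain ⟨A₂, hA₂⟩ : ∃ A₂ : Submodule F (Idx (T + 2) k → F), A₂ = slotW s u'' ⊔ W := ⟨_, rfl⟩
  have hPle : P ⊔ A₂ ≤ A₂ ⊔ gim w Wv := by
    refine sup_le ?_ le_sup_left
    rw [hA₂, sup_assoc]
    exact hle.trans (sup_le le_sup_left (hgW.trans le_sup_right))
  -- the intersection with two pure subspaces of the first slot
  have hinter : Module.finrank F (P ⊓ A₂ : Submodule F (Idx (T + 2) k → F)) ≤ 2 * k ^ T := by
    obtain ⟨ψ', hψ'0, hψ'1⟩ := exists_functional (E := Submodule.span F ({u''} : Set (Fin k → F))) (u := u) fun hm => by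
      obtain ⟨c, hc'⟩ := Submodule.mem_span_singleton.mp hm
      have hc0 : c ≠ 0 := fun h0 => hu (by rw [← hc', h0, zero_smul])
      exact hout (Submodule.mem_span_singleton.mpr ⟨c⁻¹, by rw [← hc', inv_smul_smul₀ hc0]⟩)
    have hψd : ψ' ⬝ᵥ u'' = 0 := hψ'0 _ (Submodule.mem_span_singleton_self _)
    obtain ⟨τ, hτ⟩ : ∃ τ : (P ⊓ A₂ : Submodule F (Idx (T + 2) k → F)) →ₗ[F] (Idx (T + 2) k → F),
        ∀ v, τ v = (rs s u'' ψ').val *ᵥ v.1 - v.1 :=
      ⟨(Matrix.mulVecLin (rs s u'' ψ').val - LinearMap.id).comp (Submodule.subtype _), fun v => rfl⟩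
    have hP' : ∀ v ∈ P, (rs s u'' ψ').val *ᵥ v ∈ P := fun v hv => by
      have := (slotEl_data s (transv u'' ψ')).gim_slotW r' hu₃
      rw [Function.update_of_ne hr', Units.val_one, one_mulVec] at this
      rw [Equiv.Perm.one_apply] at this
      rw [hP] at hv ⊢
      exact this ▸ mem_gim.mpr ⟨v, hv, rfl⟩
    have hrange : LinearMap.range τ ≤ slotW s u'' ⊓ P := by
      rintro _ ⟨v, rfl⟩
      rw [hτ]
      refine ⟨?_, sub_mem (hP' _ v.2.1) v.2.1⟩
      refine mem_slotW.mpr ?_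
      rw [show ((rs s u'' ψ').val *ᵥ v.1 - v.1) ∘ (slotE s).symm =
        ((rs s u'' ψ').val *ᵥ v.1) ∘ (slotE s).symm - v.1 ∘ (slotE s).symm from rfl, rs_mulVec hψd, add_sub_cancel_left]
      exact pt_mem_pureW _ _
    have hker : (LinearMap.ker τ).map (Submodule.subtype _) ≤ slotW s u'' ⊓ P := by
      rintro _ ⟨v, hv, rfl⟩
      refine ⟨?_, v.2.1⟩
      have h0 : (rs s u'' ψ').val *ᵥ v.1 = v.1 := sub_eq_zero.mp ((hτ v).symm.trans hv)
      have hv2 : v.1 ∈ slotW s u'' ⊔ W := by rw [← hA₂]; exact v.2.2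
      obtain ⟨a, ha, b, hb, hab⟩ := Submodule.mem_sup.mp hv2
      have hb' : (rs s u'' ψ').val *ᵥ b = b := by
        skip
        rw [← hab, mulVec_add, rs_fix hψd ha] at h0
        exact add_left_cancel h0
      obtain ⟨x₁, hx₁⟩ := mem_slotW.mp (hW ▸ hb)
      have e := congrArg (fun z : Idx (T + 2) k → F => z ∘ (slotE s).symm) hb'
      simp only [rs_mulVec hψd] at e
      rw [add_eq_left, ← hx₁, ptL_apply, sl_pt, hψ'1, one_smul] at e
      have hb0 : b = 0 := (slotE s).symm.surjective.injective_comp_right (by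
        simp only
        rw [← hx₁, pt_eq_zero hu'' e, map_zero]
        rfl)
      simpa [← hab, hb0] using ha
    have e1 := LinearMap.finrank_range_add_finrank_ker τ
    have e2 := Submodule.finrank_mono hrange
    have e3 := Submodule.finrank_mono hker
    rw [Submodule.finrank_map_subtype_eq] at e3
    have e4 : Module.finrank F (slotW s u'' ⊓ P : Submodule F (Idx (T + 2) k → F)) ≤ k ^ T := by
      rw [hP]; exact finrank_inf_slotW hr' hu'' hu₃
    omega
  have d1 := Submodule.finrank_sup_add_finrank_inf_eq P A₂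
  have d2 := Submodule.finrank_mono hPle
  have d3 := Submodule.finrank_sup_add_finrank_inf_eq A₂ (gim w Wv)
  rw [finrank_gim] at d3
  have d4 : Module.finrank F P = k * k ^ T := by rw [hP, finrank_slotW _ hu₃, pow_succ']
  have : 6 * k ^ T ≤ k * k ^ T := Nat.mul_le_mul_right _ hm
  omega

/-- The composite of a root and a conjugate root is injective on the pure subspace. -/
theorem EHyp.composite_inj (H : EHyp f M) {g : GL (Idx (T + 2) k) F} (hg : g ∈ M) (hne : ¬ IsTW g)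
    {s r : Fin (T + 2)} {u φ v ψ : Fin k → F} (hax : SAx f u φ)
    (hbx : SAx f v ψ) {p : Idx (T + 2) k → F} (hp : p ∈ slotW s u)
    (hxz : (rs s u φ).val *ᵥ ((g * rs r v ψ * g⁻¹).val *ᵥ p - p) = (g * rs r v ψ * g⁻¹).val *ᵥ p - p) :
    p = 0 := by
  have hm := H.dim
  have hc := H.two
  have hu := hax.1
  have hφ := H.ax_dot hax
  have hφ0 := H.ax_ne hax
  have hψ := H.ax_dot hbx
  have hodd := Nat.not_even_iff_odd.mp (H.no_even hg hne (s := s) (r := r) hax hbx)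
  obtain ⟨x, hxdef⟩ : ∃ x, x = rs s u φ := ⟨_, rfl⟩
  obtain ⟨z, hzdef⟩ : ∃ z, z = g * rs r v ψ * g⁻¹ := ⟨_, rfl⟩
  obtain ⟨w, hw⟩ : ∃ w, w = x * z := ⟨_, rfl⟩
  rw [← hzdef, ← hxdef] at hxz hodd
  rw [← hw] at hodd
  have hxsq : (x.val - 1) * (x.val - 1) = 0 := hxdef ▸ rs_sq hφ
  have hzsq : (z.val - 1) * (z.val - 1) = 0 := hzdef ▸ conj_sq g _ (rs_sq hψ)
  have hxp : x.val *ᵥ p = p := hxdef ▸ rs_fix hφ hp
  obtain ⟨d, hd⟩ : ∃ d, d = z.val *ᵥ p - p := ⟨_, rfl⟩
  rw [← hd] at hxz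
  have hzd : z.val *ᵥ d = d := fix_mv_of_sq hzsq (hd ▸ sub_mem_mv _ _)
  have hwp : w.val *ᵥ p = p + d := by
    rw [hw, Transvec.mul_mulVec, show z.val *ᵥ p = p + d by rw [hd]; abel, mulVec_add, hxp, hxz]
  have hwd : w.val *ᵥ d = d := by rw [hw, Transvec.mul_mulVec, hzd, hxz]
  have hpow : ∀ n : ℕ, (w ^ n).val *ᵥ p = p + (n : F) • d := fun n => by
    induction n with
    | zero => simp
    | succ n ih =>
      rw [pow_succ', Transvec.mul_mulVec, ih, mulVec_add, mulVec_smul, hwp, hwd, Nat.cast_succ, add_smul, one_smul]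
      abel
  have hd0 : d = 0 := by
    have := hpow (orderOf w)
    rw [pow_orderOf_eq_one, Units.val_one, one_mulVec, natCast_odd hc hodd, one_smul] at this
    simpa using this.symm
  rw [hd0, add_zero] at hwp
  by_contra hp0
  have hinv : x * w * x = w⁻¹ := by
    have := invol_conj_pow (invol_of_sq hc hxsq) (invol_of_sq hc hzsq) 1
    rwa [pow_one, ← hw] at this
  obtain ⟨e, he⟩ : p ∈ mv x := by rw [hxdef, mv_rs hφ hφ0]; exact hp
  have hxf : x.val *ᵥ prC w e ≠ prC w e := fun h0 => hp0 (by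
    rw [← prC_fixed hodd hc hwp, ← show x.val *ᵥ e - e = p from he, map_sub, prC_x hodd hc hxsq hinv, h0, sub_self])
  obtain ⟨u'', hperp, -, hout⟩ := exists_perp_notMem H.symp (by omega) u u
  rw [Set.pair_eq_singleton] at hout
  have hax'' : SAx f u'' (gram f *ᵥ u'') :=
    ⟨fun h0 => hout (h0 ▸ Submodule.zero_mem _), 1, one_ne_zero, (one_smul _ _).symm⟩
  have heven := H.exists_even hax hperp hout (y := z) hodd (hxdef ▸ hinv) (fun a ha => by
    rw [← hxdef]
    refine Transvec.mulVec_injective x ?_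
    simp only
    rw [← Transvec.mul_mulVec, ← Transvec.mul_mulVec x x, invol_of_sq hc hxsq, Units.val_one, one_mulVec, ← hw,
      ha]) (fix_prC e) (hxdef ▸ hxf)
  exact H.no_even hg hne hax'' hbx (hzdef ▸ heven)

end CfsgLib.Classical22.TPow
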