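/-
Characteristic two: every element lies in the tensor wreath group, by involutions.
-/
import Cfsg.Agent.Lib.Classical22.TensorPower.EvenPairs
import Cfsg.Agent.Lib.Classical22.TensorPower.EvenLagr
import Cfsg.Agent.Lib.Classical22.TensorWreathMax.CharTwo

set_option autoImplicit false
set_option linter.unusedSectionVars false
set_option linter.unusedSimpArgs false
set_option maxHeartbeats 800000

namespace CfsgLib.Classical22.TPow

open Matrix Kronecker CfsgLib.Transvec CfsgLib.Classical22.TensorMax CfsgLib.Classical22.TensorMax.SympO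
open CfsgLib.Classical22.TensorMax.SpO (kr kr_apply isKron_kr)
open CfsgLib.Classical22.TWMax
open scoped MatrixGroups

variable {F : Type*} [Field F] [Fintype F] {T k : ℕ} {f : (Fin k → F) → (Fin k → F) → F}
  {M : Subgroup (GL (Idx (T + 2) k) F)}

/-- Elements of `M` commuting with a slot-wise involution lie in the tensor wreath group. -/
theorem EHyp.tw_of_commute (H : EHyp f M) {h : GL (Idx (T + 2) k) F}
    {Bs : Fin (T + 2) → GL (Fin k) F} (hd : TWData h 1 Bs) {s : Fin (T + 2)} (hs1 : Bs s ≠ 1)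
    (hs2 : Bs s * Bs s = 1) (hiso : ∀ x y, f ((Bs s).val *ᵥ x) ((Bs s).val *ᵥ y) = f x y)
    (hfix : ∀ l, l ≠ s → HasFix (Bs l)) {c : GL (Idx (T + 2) k) F} (hcM : c ∈ M)
    (hcomm : Commute c h) : IsTW c := by
  classical
  by_contra hne
  have hm := H.dim
  have hc := H.two
  obtain ⟨N, hN⟩ : ∃ N : (Fin k → F) →ₗ[F] (Fin k → F), ∀ y, N y = (Bs s).val *ᵥ y - y :=
    ⟨Matrix.mulVecLin (Bs s).val - LinearMap.id, fun y => rfl⟩
  have hBB : ∀ y, (Bs s).val *ᵥ ((Bs s).val *ᵥ y) = y := fun y => by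
    rw [← Transvec.mul_mulVec, hs2, Units.val_one, one_mulVec]
  have hN2 : ∀ y, N (N y) = 0 := fun y => by
    rw [hN, hN, mulVec_sub, hBB, show y - (Bs s).val *ᵥ y - ((Bs s).val *ᵥ y - y) =
      (2 : F) • y - (2 : F) • ((Bs s).val *ᵥ y) by rw [two_smul, two_smul]; abel, hc, zero_smul, zero_smul, sub_zero]
  obtain ⟨y₀, hy₀⟩ : ∃ y, N y ≠ 0 := by
    by_contra hall
    push Not at hall
    exact hs1 (gl_ext fun y => by
      rw [Units.val_one, one_mulVec]; exact sub_eq_zero.mp ((hN y).symm.trans (hall y)))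
  obtain ⟨u, hu⟩ : ∃ u, u = N y₀ := ⟨_, rfl⟩
  have hu0 : u ≠ 0 := hu ▸ hy₀
  obtain ⟨φ, hφd⟩ : ∃ φ, φ = gram f *ᵥ u := ⟨_, rfl⟩
  have hax : SAx f u φ := ⟨hu0, 1, one_ne_zero, by rw [one_smul, hφd]⟩
  have hφ0 := H.ax_ne hax
  have hBu' : (Bs s).val *ᵥ u = u := sub_eq_zero.mp ((hN u).symm.trans (hu ▸ hN2 y₀))
  have hφN : ∀ y, φ ⬝ᵥ N y = 0 := fun y => by
    rw [hφd, ← form_eq_dot H.symp, hN, sub_left' H.symp]
    conv_lhs => arg 1; arg 2; rw [← hBu']
    rw [hiso, sub_self]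
  have hφu : φ ⬝ᵥ u = 0 := hu ▸ hφN y₀
  have hBu : (Bs s).val *ᵥ u = u := sub_eq_zero.mp ((hN u).symm.trans (hu ▸ hN2 y₀))
  have hφB : φ ᵥ* (Bs s).val = φ := funext fun i => by
    have e := hφN (Pi.single i 1)
    rw [hN, dotProduct_sub, sub_eq_zero, dotProduct_mulVec, dotProduct_single, dotProduct_single, mul_one,
      mul_one] at e
    exact e
  -- the root commutes with the involution
  obtain ⟨x, hx⟩ : ∃ x, x = rs s u φ := ⟨_, rfl⟩
  have hxh : Commute x h := by
    have e := hd.conj_slotEl s (transv u φ)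
    rw [Equiv.Perm.one_apply, conj_transv _ hφu, hBu] at e
    have hφB' : φ ᵥ* (Bs s)⁻¹.val = φ := by
      conv_lhs => rw [← hφB, vecMul_vecMul, Units.mul_inv, vecMul_one]
    rw [hφB'] at e
    rw [hx]
    exact (mul_inv_eq_iff_eq_mul.mp e).symm
  obtain ⟨z, hz⟩ : ∃ z, z = c * x * c⁻¹ := ⟨_, rfl⟩
  have hzh : Commute z h := hz ▸ (hcomm.mul_left hxh).mul_left hcomm.inv_left
  obtain ⟨K, hK⟩ : ∃ K : Submodule F (Idx (T + 2) k → F), ∀ q, q ∈ K ↔ q ∈ slotW s u ∧ q ∈ mv h :=
    ⟨slotW s u ⊓ mv h, fun q => Iff.rfl⟩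
  obtain ⟨τ, hτ⟩ : ∃ τ : (Idx (T + 2) k → F) →ₗ[F] (Idx (T + 2) k → F),
      ∀ q, τ q = x.val *ᵥ (z.val *ᵥ q - q) - (z.val *ᵥ q - q) :=
    ⟨(Matrix.mulVecLin x.val - LinearMap.id).comp (Matrix.mulVecLin z.val - LinearMap.id), fun q => rfl⟩
  have hτK : ∀ q ∈ K, τ q ∈ K := fun q hq => by
    rw [hK] at hq ⊢
    rw [hτ]
    refine ⟨?_, ?_⟩
    · rw [← mv_rs (s := s) hφu hφ0, ← hx]; exact sub_mem_mv _ _
    · have h1 := sub_mem (comm_moved hzh hq.2) hq.2
      exact sub_mem (comm_moved hxh h1) h1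
  have hinj : Function.Injective (τ.restrict hτK) := (injective_iff_map_eq_zero _).mpr fun q hq => by
    have h0 : τ q.1 = 0 := congrArg Subtype.val hq
    rw [hτ, sub_eq_zero, hz, hx] at h0
    exact Subtype.ext (H.composite_inj hcM hne hax hax ((hK _).mp q.2).1 h0)
  -- a pure vector outside the image
  have hfix' : ∀ l, ∃ n ν : Fin k → F, l ≠ s → ((Bs l).val *ᵥ n = n ∧ ν ᵥ* (Bs l).val = ν ∧ ν ⬝ᵥ n = 1) := fun l => by
    by_cases hk : l = s
    · exact ⟨0, 0, fun h => absurd hk h⟩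
    · obtain ⟨n, ν, h⟩ := hfix l hk; exact ⟨n, ν, fun _ => h⟩
  choose n ν hnν using hfix'
  obtain ⟨ψ, hψu⟩ : ∃ ψ : Fin k → F, ψ ⬝ᵥ u = 1 := by
    obtain ⟨i, hi⟩ := Function.ne_iff.mp hu0
    exact ⟨Pi.single i (u i)⁻¹, by rw [single_dotProduct, inv_mul_cancel₀ hi]⟩
  have hp₀K : pv (Function.update n s u) ∈ K := by
    rw [hK]
    refine ⟨?_, mem_mv.mpr ⟨pv (Function.update n s y₀), ?_⟩⟩
    · have := pv_mem_slotW s (Function.update n s u)
      rwa [Function.update_self] at this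
    · rw [hd, show (fun l => (Bs l).val *ᵥ Function.update n s y₀ ((1 : Equiv.Perm (Fin (T + 2))) l)) =
        Function.update n s (y₀ + u) from funext fun l => ?_, pv_update_add, add_sub_cancel_left]
      rw [Equiv.Perm.one_apply]
      by_cases hk : l = s
      · subst hk; rw [Function.update_self, Function.update_self, hu, hN]; abel
      · rw [Function.update_of_ne hk, Function.update_of_ne hk, (hnν l hk).1]
  obtain ⟨⟨q, hq⟩, hqp⟩ := (LinearMap.injective_iff_surjective.mp hinj) ⟨_, hp₀K⟩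
  have hqp' : τ q = pv (Function.update n s u) := congrArg Subtype.val hqp
  rw [hτ] at hqp'
  obtain ⟨d, hd'⟩ := mem_mv.mp (sub_mem (comm_moved hzh ((hK q).mp hq).2) ((hK q).mp hq).2)
  rw [← hd'] at hqp'
  have hone : pv (Function.update ν s ψ) ⬝ᵥ pv (Function.update n s u) = 1 := by
    rw [pv_dot]
    refine Finset.prod_eq_one fun l _ => ?_
    by_cases hk : l = s
    · subst hk; rw [Function.update_self, Function.update_self, hψu]
    · rw [Function.update_of_ne hk, Function.update_of_ne hk, (hnν l hk).2.2]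
  have hrow : pv (Function.update ν s ψ) ᵥ* x.val =
      pv (Function.update ν s ψ) + pv (Function.update ν s φ) := by
    rw [hx, rs, (slotEl_data s (transv u φ)).vecMul_pv, ← pv_update_add]
    congr 1
    funext l
    simp only [Equiv.Perm.one_symm, Equiv.Perm.one_apply]
    by_cases hk : l = s
    · subst hk
      simp only [Function.update_self]
      funext i
      rw [transv_val hφu, vecMul_add, vecMul_one, vecMul_vecMulVec, hψu, one_smul]
    · simp [hk]
  have hfixrow : pv (Function.update ν s φ) ᵥ* h.val = pv (Function.update ν s φ) := by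
    rw [hd.vecMul_pv]
    congr 1
    funext l
    simp only [Equiv.Perm.one_symm, Equiv.Perm.one_apply]
    by_cases hk : l = s
    · subst hk; rw [Function.update_self, hφB]
    · rw [Function.update_of_ne hk, (hnν l hk).2.1]
  rw [← hqp', dotProduct_sub, dotProduct_mulVec, hrow, add_dotProduct, add_sub_cancel_left, dotProduct_sub,
    dotProduct_mulVec, hfixrow, sub_self] at hone
  exact zero_ne_one hone


/-- An involution fixing a slot commutes with a root of that slot. -/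
lemma EHyp.exists_root_comm (H : EHyp f M) {j : GL (Idx (T + 2) k) F} {σ : Equiv.Perm (Fin (T + 2))}
    {gs : Fin (T + 2) → GL (Fin k) F} (hd : TWData j σ gs) (hiso : PIso f j) (hjj : j * j = 1) {r : Fin (T + 2)}
    (hr : σ r = r) :
    ∃ u φ : Fin k → F, SAx f u φ ∧ Commute j (rs r u φ) := by
  classical
  have hm := H.dim
  have hc := H.two
  have h1 := hd.mul hd
  rw [hjj] at h1
  obtain ⟨κ, hκ⟩ := (twData_one_unique (by omega) h1).2 r
  rw [hr] at hκ
  haveI : CharP F 2 := CharTwo.of_one_ne_zero_of_two_eq_zero one_ne_zero hc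
  haveI : Fact (Nat.Prime 2) := ⟨Nat.prime_two⟩
  obtain ⟨l, hl⟩ : ∃ l : F, l * l = κ := by
    obtain ⟨l, hl⟩ := (bijective_frobenius F 2).surjective κ
    exact ⟨l, by rw [← hl, frobenius_def, pow_two]⟩
  obtain ⟨N, hN⟩ : ∃ N : (Fin k → F) →ₗ[F] (Fin k → F), ∀ x, N x = (gs r).val *ᵥ x + l • x :=
    ⟨Matrix.mulVecLin (gs r).val + l • LinearMap.id, fun x => rfl⟩
  have hN2 : ∀ x, N (N x) = 0 := fun x => by
    have e := hκ x
    rw [Units.val_mul, ← mulVec_mulVec, ← hl] at e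
    rw [hN, hN, mulVec_add, mulVec_smul, e, smul_add, smul_smul,
      show ∀ A B : Fin k → F, A + B + (B + A) = (A + A) + (B + B) from fun A B => by abel, add_self_zero hc,
      add_self_zero hc, add_zero]
  obtain ⟨μ, -, hμ⟩ := sim_of_tw H.symp hd hiso r
  obtain ⟨u, hu, hNu⟩ : ∃ u, u ≠ 0 ∧ N u = 0 := by
    obtain ⟨w, hw⟩ : ∃ w : Fin k → F, w ≠ 0 := ⟨Pi.single ⟨0, by omega⟩ 1, by simp⟩
    by_cases h0 : N w = 0
    · exact ⟨w, hw, h0⟩
    · exact ⟨N w, h0, hN2 w⟩
  obtain ⟨φ, hφd⟩ : ∃ φ, φ = gram f *ᵥ u := ⟨_, rfl⟩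
  have hax : SAx f u φ := ⟨hu, 1, one_ne_zero, by rw [one_smul, hφd]⟩
  have hφ := H.ax_dot hax
  have hgu : (gs r).val *ᵥ u = l • u := by
    rw [eq_neg_of_add_eq_zero_left ((hN u).symm.trans hNu), neg_self_eq hc]
  have hκμ : κ = μ := by
    obtain ⟨u', hu'⟩ := (pDuo H.symp 0).exists_dual hu
    have e0 : f u u' ≠ 0 := by
      rw [show f u u' = 1 from hu']
      exact one_ne_zero
    have hk2 : ∀ x, (gs r).val *ᵥ ((gs r).val *ᵥ x) = κ • x := fun x => by
      rw [← Transvec.mul_mulVec]; exact hκ x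
    have h2 := hμ ((gs r).val *ᵥ u) ((gs r).val *ᵥ u')
    rw [hk2, hk2, hμ, smul_left' H.symp, smul_right' H.symp] at h2
    have h3 : (κ - μ) * (κ - μ) = 0 := by
      refine (mul_eq_zero.mp (show (κ - μ) * (κ - μ) * f u u' = 0 from ?_)).resolve_right e0
      linear_combination h2 + (μ * μ * f u u' - κ * μ * f u u') * hc
    exact sub_eq_zero.mp (mul_self_eq_zero.mp h3)
  have hφN : ∀ x, φ ⬝ᵥ N x = 0 := fun x => by
    have h2 := hμ x u
    rw [hgu, smul_right' H.symp, ← hκμ, ← hl] at h2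
    have hl0 : l ≠ 0 := fun h0 => Transvec.mulVec_ne_zero (gs r) hu (by rw [hgu, h0, zero_smul])
    rw [hN, hφd, ← form_eq_dot H.symp, add_left' H.symp, smul_left' H.symp,
      mul_left_cancel₀ hl0 (h2.trans (mul_assoc l l (f x u)))]
    linear_combination (l * f x u) * hc
  refine ⟨u, φ, hax, ?_⟩
  have e := hd.conj_slotEl r (transv u φ)
  rw [hr] at e
  have e' : gs r * transv u φ * (gs r)⁻¹ = transv u φ := by
    rw [mul_inv_eq_iff_eq_mul]
    refine gl_ext fun x => ?_
    rw [Transvec.mul_mulVec, Transvec.mul_mulVec, transv_mulVec hφ, transv_mulVec hφ, mulVec_add, mulVec_smul]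
    congr 1
    have e1 : (gs r).val *ᵥ u = l • u := by
      have h := hN u
      rw [hNu] at h
      rw [eq_neg_of_add_eq_zero_left h.symm, neg_self_eq hc]
    have e2 : φ ⬝ᵥ ((gs r).val *ᵥ x) = l * (φ ⬝ᵥ x) := by
      have h := hφN x
      rw [hN, dotProduct_add, dotProduct_smul, smul_eq_mul] at h
      linear_combination h - (l * (φ ⬝ᵥ x)) * hc
    rw [e1, e2, smul_smul, mul_comm]
  rw [e'] at e
  exact mul_inv_eq_iff_eq_mul.mp e


/-- Characteristic two: every element lies in the tensor wreath group. -/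
theorem EHyp.tw_of_even (H : EHyp f M) {g : GL (Idx (T + 2) k) F} (hg : g ∈ M) : IsTW g := by
  classical
  by_contra hne
  have hm := H.dim
  have hc := H.two
  -- the involution
  obtain ⟨B, P, hBmem, hBB, hB1, hBiso, hBP⟩ := exists_lagr H.symp hc (show 0 < k by omega)
  obtain ⟨Bs, hBs⟩ : ∃ Bs : Fin (T + 2) → GL (Fin k) F, Bs = Function.update (fun _ => 1) 0 B := ⟨_, rfl⟩
  have hB0 : Bs 0 = B := by rw [hBs, Function.update_self]
  have hBo : ∀ kk : Fin (T + 2), kk ≠ 0 → Bs kk = 1 := fun kk hk => by rw [hBs, Function.update_of_ne hk]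
  have hBfix : ∀ kk : Fin (T + 2), kk ≠ 0 → HasFix (Bs kk) := fun kk hk => by
    rw [hBo kk hk]; exact hasFix_one (by omega)
  obtain ⟨i, hi⟩ : ∃ i, i = slotEl (0 : Fin (T + 2)) B := ⟨_, rfl⟩
  have hid : TWData i 1 Bs := by rw [hi, hBs]; exact slotEl_data _ B
  have hiM : i ∈ M := by
    obtain ⟨φ₀, hφ₀⟩ : ∃ φ₀ : GL (Fin k) F →* GL (Idx (T + 2) k) F, ∀ C, φ₀ C = slotEl 0 C :=
      ⟨MonoidHom.mk' (fun C => slotEl 0 C) fun C D => (slotEl_mul 0 C D).symm, fun C => rfl⟩
    have := hBmem (M.comap φ₀) fun u c => by rw [Subgroup.mem_comap, hφ₀]; exact H.ctx.root 0 u c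
    rwa [Subgroup.mem_comap, hφ₀, ← hi] at this
  have hii : i * i = 1 := by
    rw [hi, slotEl_mul, hBB]
    exact Units.ext (by simp [slotEl_val, emb_one])
  have hDisc : Disc i := by
    obtain ⟨E, hE⟩ : ∃ E, E = emb (0 : Fin (T + 2)) (B.val - 1) := ⟨_, rfl⟩
    have hiv : i.val = 1 + E := by
      rw [hi, slotEl_val, hE, ← emb_one (0 : Fin (T + 2)), ← emb_add, add_sub_cancel]
    have hmov : ∀ v, i.val *ᵥ v = v → ∃ w, v = i.val *ᵥ w - w := fun v hv => by
      refine ⟨emb (0 : Fin (T + 2)) P *ᵥ v, ?_⟩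
      have h0 : E *ᵥ v = 0 := by
        rw [hiv, add_mulVec, one_mulVec, add_eq_left] at hv
        exact hv
      have e := congrArg (fun X => emb (0 : Fin (T + 2)) X *ᵥ v) hBP
      simp only [emb_add, emb_mul, emb_one, add_mulVec, ← mulVec_mulVec, ← hE, h0, mulVec_zero, add_zero,
        one_mulVec] at e
      rw [hiv, add_mulVec, one_mulVec, add_sub_cancel_left, e]
    have hz : ∀ L v : Idx (T + 2) k → F, L ᵥ* i.val = L → i.val *ᵥ v = v → L ⬝ᵥ v = 0 := fun L v hL hv => by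
      obtain ⟨w, rfl⟩ := hmov v hv
      rw [dotProduct_sub, dotProduct_mulVec, hL, sub_self]
    intro v w L N hv hw hL hN
    rw [hz L v hL hv, hz L w hL hw, zero_mul, zero_mul]
  -- the conjugate root
  obtain ⟨u, hu⟩ : ∃ u : Fin k → F, u ≠ 0 := ⟨Pi.single ⟨0, by omega⟩ 1, by simp⟩
  obtain ⟨φ, hax⟩ : ∃ φ, SAx f u φ := ⟨_, H.ax_one hu⟩
  have hφ := H.ax_dot hax
  have hφ0 := H.ax_ne hax
  have hBsq : ∀ kk, Bs kk * Bs kk = 1 := fun kk => by
    by_cases hk : kk = 0
    · subst hk; rw [hB0, hBB]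
    · rw [hBo kk hk, one_mul]
  obtain ⟨z, hz⟩ : ∃ z, z = g * rs (0 : Fin (T + 2)) u φ * g⁻¹ := ⟨_, rfl⟩
  have hzsq : (z.val - 1) * (z.val - 1) = 0 := hz ▸ conj_sq g _ (rs_sq hφ)
  have hzz := invol_of_sq hc hzsq
  have hzM : z ∈ M := hz ▸ mul_mem (mul_mem hg (H.rs_mem 0 hax)) (inv_mem hg)
  have hzTW : ¬ IsTW z := fun h => hne (H.tw_of_conj (s := (0 : Fin (T + 2))) hg hax (hz ▸ h))
  obtain ⟨w, hw⟩ : ∃ w, w = i * z := ⟨_, rfl⟩
  have hwM : w ∈ M := hw ▸ mul_mem hiM hzM
  obtain ⟨e, l, hord, hvpow, hvord, hP⟩ := two_part hii hzz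
  rw [← hw] at hord hvpow hvord hP
  obtain ⟨c, hcdef⟩ : ∃ c, c = (w ^ l)⁻¹ * g := ⟨_, rfl⟩
  obtain ⟨v, hv⟩ : ∃ v, v = w ^ (2 * l + 1) := ⟨_, rfl⟩
  rw [← hv] at hvpow hvord hP
  have hcz : i * v = c * rs (0 : Fin (T + 2)) u φ * c⁻¹ := by
    rw [hv, hw, mul_odd_pow_conj hii hzz, ← hw, hcdef, _root_.mul_inv_rev, inv_inv, hz]
    simp only [mul_assoc]
  have hcM : c ∈ M := hcdef ▸ mul_mem (inv_mem (pow_mem hwM _)) hg
  have he0 : e ≠ 0 := by
    rintro rfl
    rw [pow_zero, orderOf_eq_one_iff] at hvord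
    rw [hvord, mul_one] at hcz
    refine not_disc_rs (by omega) hu hφ (s := (0 : Fin (T + 2))) ?_
    have hD := hDisc.conj c⁻¹
    rwa [hcz, inv_inv, show c⁻¹ * (c * rs (0 : Fin (T + 2)) u φ * c⁻¹) * c = rs (0 : Fin (T + 2)) u φ by group] at hD
  haveI : Fact (Nat.Prime 2) := ⟨Nat.prime_two⟩
  -- the conjugating element lies in the group
  have hcTW : IsTW c := by
    by_contra hcne
    obtain ⟨Q, hQdef⟩ : ∃ Q, Q = (Subgroup.closure ({i, v} : Set (GL (Idx (T + 2) k) F))).map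
        (MulAut.conj c⁻¹).toMonoidHom := ⟨_, rfl⟩
    have hQM : Q ≤ M := by
      rw [hQdef, Subgroup.map_le_iff_le_comap, Subgroup.closure_le]
      rintro _ (rfl | rfl) <;>
        simp only [SetLike.mem_coe, Subgroup.mem_comap, MulEquiv.coe_toMonoidHom, MulAut.conj_apply, inv_inv]
      exacts [mul_mem (mul_mem (inv_mem hcM) hiM) hcM, mul_mem (mul_mem (inv_mem hcM) (hv ▸ pow_mem hwM _)) hcM]
    have hQP : IsPGroup 2 Q := hQdef ▸ hP.map _
    have hroot : rs (0 : Fin (T + 2)) u φ ∈ Q := by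
      rw [hQdef]
      refine ⟨i * v, mul_mem (Subgroup.subset_closure (by simp)) (Subgroup.subset_closure (by simp)), ?_⟩
      rw [MulEquiv.coe_toMonoidHom, MulAut.conj_apply, hcz]
      group
    obtain ⟨j, hjdef⟩ : ∃ j, j = c⁻¹ * i * c := ⟨_, rfl⟩
    have hjQ : j ∈ Q := by
      rw [hQdef]
      exact ⟨i, Subgroup.subset_closure (by simp), by simp [hjdef]⟩
    have hjj : j * j = 1 := by
      rw [hjdef]
      calc c⁻¹ * i * c * (c⁻¹ * i * c) = c⁻¹ * (i * i) * c := by group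
        _ = 1 := by rw [hii]; group
    obtain ⟨σ, gs, hj⟩ := H.tw_of_pGroup hQM hQP hax hroot j hjQ
    by_cases hσ : ∃ r, σ r = r
    · obtain ⟨r, hr⟩ := hσ
      obtain ⟨a, b, hab, hcomm⟩ := H.exists_root_comm hj (H.ctx.iso j (hQM hjQ)) hjj hr
      refine hcne (H.tw_of_conj (s := r) hcM hab ?_)
      refine H.tw_of_commute hid (s := 0) (by rw [hB0]; exact hB1) (by rw [hB0, hBB]) (by rw [hB0]; exact hBiso)
        hBfix (mul_mem (mul_mem hcM (H.rs_mem r hab)) (inv_mem hcM)) ?_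
      have hij : i = c * j * c⁻¹ := by rw [hjdef]; group
      change c * rs r a b * c⁻¹ * i = i * (c * rs r a b * c⁻¹)
      rw [hij]
      calc c * rs r a b * c⁻¹ * (c * j * c⁻¹) = c * (rs r a b * j) * c⁻¹ := by group
        _ = c * (j * rs r a b) * c⁻¹ := by rw [hcomm.eq]
        _ = _ := by group
    · push Not at hσ
      refine not_disc_free hc (by omega) hj hjj hσ ?_
      have := hDisc.conj c⁻¹
      rwa [inv_inv, ← hjdef] at this
  obtain ⟨r, a, b, ha, hb, hb0, hR⟩ := root_of_tw hcTW (r := (0 : Fin (T + 2))) hu hφ hφ0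
  rw [← hcz] at hR
  have hviR : v = i * rs r a b := by rw [← hR, ← mul_assoc, hii, one_mul]
  have hvne : v ≠ 1 := fun h => by
    rw [h, orderOf_one] at hvord
    exact he0 (by
      rcases Nat.eq_zero_or_pos e with h0 | h0
      · exact h0
      · have := Nat.one_lt_two_pow (n := e) (by omega); omega)
  have hzk : ∀ kk : ℕ, z * w ^ kk * z = (w ^ kk)⁻¹ := fun kk => hw ▸ invol_conj_pow_right hii hzz kk
  have hzcomm : ∀ kk : ℕ, w ^ kk * w ^ kk = 1 → Commute z (w ^ kk) := fun kk hk => by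
    have e1 := hzk kk
    rw [inv_eq_of_mul_eq_one_right hk] at e1
    change z * w ^ kk = w ^ kk * z
    conv_lhs => rw [← mul_one (z * w ^ kk), ← hzz, ← mul_assoc, e1]
  have hRR : rs r a b * rs r a b = 1 := invol_of_sq hc (rs_sq hb)
  have hconj : i * rs r a b * i⁻¹ = slotEl r (Bs r * transv a b * (Bs r)⁻¹) := by
    have := hid.conj_slotEl r (transv a b)
    rwa [Equiv.Perm.one_apply] at this
  by_cases hcm : Bs r * transv a b * (Bs r)⁻¹ = transv a b
  · -- commuting factors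
    have hv2 : v * v = 1 := by
      have hcm' : i * rs r a b = rs r a b * i := by
        rw [hcm] at hconj
        exact mul_inv_eq_iff_eq_mul.mp hconj
      rw [hviR, mul_assoc, ← mul_assoc (rs r a b), ← hcm', mul_assoc, hRR, mul_one, hii]
    obtain ⟨Cs, hCs⟩ : ∃ Cs, Cs = fun kk => Bs kk * Function.update (fun _ => (1 : GL (Fin k) F)) r (transv a b) kk :=
      ⟨_, rfl⟩
    have hvd : TWData v 1 Cs := by
      rw [hviR, hCs]
      have := hid.mul (slotEl_data r (transv a b))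
      simpa [rs] using this
    have hCsq : ∀ kk, Cs kk * Cs kk = 1 := fun kk => by
      rw [hCs]
      simp only
      by_cases hk : kk = r
      · subst hk
        rw [Function.update_self]
        have h2 : transv a b * transv a b = 1 := slotEl_injective (by omega) kk (by
          rw [← slotEl_mul]; exact hRR.trans (Units.ext (by simp [slotEl_val, emb_one])))
        rw [mul_assoc, ← mul_assoc (transv a b), ← mul_inv_eq_iff_eq_mul.mp hcm, mul_assoc, h2, mul_one, hBsq]
      · rw [Function.update_of_ne hk, mul_one, hBsq]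
    have hC0 : Cs 0 ≠ 1 := fun h0 => by
      by_cases hr : r = 0
      · subst hr
        refine hvne (ext_pv fun xs => ?_)
        rw [hvd, Units.val_one, one_mulVec]
        congr 1
        funext kk
        by_cases hk : kk = 0
        · subst hk; rw [h0]; simp
        · rw [hCs]; simp [hBo kk hk, hk]
      · rw [hCs] at h0
        simp [Ne.symm hr, hB0] at h0
        exact hB1 h0
    have hCiso : ∀ x y, f ((Cs 0).val *ᵥ x) ((Cs 0).val *ᵥ y) = f x y := by
      by_cases hr : r = 0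
      · subst hr
        refine iso_of_slot H.symp (s := (0 : Fin (T + 2))) ?_
        rw [show slotEl (0 : Fin (T + 2)) (Cs 0) = v from ?_]
        · exact H.ctx.iso v (hv ▸ pow_mem hwM _)
        · rw [hviR, hi, hCs, rs]
          simp only
          rw [Function.update_self, hB0, slotEl_mul]
      · rw [hCs]
        simp only [Function.update_of_ne (Ne.symm hr), mul_one, hB0]
        exact hBiso
    refine hzTW (H.tw_of_commute hvd hC0 (hCsq 0) hCiso (fun kk hk => ?_) hzM ?_)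
    · rw [hCs]
      by_cases hkr : kk = r
      · subst hkr; simp [hBo kk hk]; exact hasFix_transv (by omega) ha hb
      · simp [hBo kk hk, hkr]; exact hasFix_one (by omega)
    rw [hv] at hv2 ⊢
    exact hzcomm _ hv2
  · -- two roots of one slot
    obtain ⟨D, hD⟩ : ∃ D, D = Bs r * transv a b * (Bs r)⁻¹ * transv a b := ⟨_, rfl⟩
    have hvv : v * v = slotEl r D := by
      rw [hD, ← slotEl_mul, ← hconj, hviR, inv_eq_of_mul_eq_one_right hii, rs]
      simp only [mul_assoc]
    have he1 : 2 ≤ e := by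
      by_contra h
      have he : e = 1 := by omega
      refine hcm ?_
      have h2 : v * v = 1 := by have := hvpow; rwa [he, pow_one, pow_two] at this
      rw [hvv] at h2
      have hD1 : D = 1 := slotEl_injective (by omega) r (h2.trans (Units.ext (by simp [slotEl_val, emb_one])))
      rw [hD] at hD1
      have h3 : transv a b * transv a b = 1 := slotEl_injective (by omega) r (by
        rw [← slotEl_mul]; exact hRR.trans (Units.ext (by simp [slotEl_val, emb_one])))
      rw [eq_inv_of_mul_eq_one_left hD1, inv_eq_of_mul_eq_one_right h3]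
    obtain ⟨h, hh⟩ : ∃ h, h = slotEl r (D ^ 2 ^ (e - 2)) := ⟨_, rfl⟩
    have hhv : h = v ^ 2 ^ (e - 1) := by
      rw [hh, ← slotEl_pow, ← hvv, ← pow_two, ← pow_mul, ← pow_succ', show e - 2 + 1 = e - 1 by omega]
    have hh2 : h * h = 1 := by
      rw [hhv, ← pow_add, ← two_mul, ← pow_succ', show e - 1 + 1 = e by omega, hvpow]
    have hh1 : h ≠ 1 := fun h1 => by
      rw [hhv, ← orderOf_dvd_iff_pow_eq_one, hvord] at h1
      have := (Nat.pow_dvd_pow_iff_le_right (by norm_num : 1 < 2)).mp h1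
      omega
    have hhM : h ∈ M := by rw [hhv, hv]; exact pow_mem (pow_mem hwM _) _
    refine hzTW (H.tw_of_commute (hh ▸ slotEl_data r (D ^ 2 ^ (e - 2))) (s := r) ?_ ?_
      (by rw [Function.update_self]; exact iso_of_slot H.symp (s := r) (hh ▸ H.ctx.iso h hhM))
      (fun kk hk => ?_) hzM ?_)
    · rw [Function.update_self]
      intro h1
      exact hh1 (by rw [hh, h1]; exact Units.ext (by simp [slotEl_val, emb_one]))
    · rw [Function.update_self]
      refine slotEl_injective (by omega) r ?_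
      rw [← slotEl_mul, ← hh, hh2]
      exact Units.ext (by simp [slotEl_val, emb_one])
    · rw [Function.update_of_ne hk]; exact hasFix_one (by omega)
    · rw [hhv, hv, ← pow_mul] at hh2 ⊢
      exact hzcomm _ hh2


end CfsgLib.Classical22.TPow
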