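/-
An even tensor power: from a non-scalar shear to a nilpotent product on all slots but one.
-/
import Cfsg.Agent.Lib.Classical22.TensorPower.Full

set_option autoImplicit false
set_option linter.unusedSectionVars false
set_option linter.unusedSimpArgs false

namespace CfsgLib.Classical22.TPow

open Matrix Kronecker CfsgLib.Transvec CfsgLib.Classical22.TensorMax CfsgLib.Classical22.TensorMax.SympO
open CfsgLib.Classical22.TWMax
open scoped MatrixGroups

variable {F : Type*} [Field F] {t k : ℕ} {f : (Fin k → F) → (Fin k → F) → F}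

/-- The alternating combination of two outer products. -/
noncomputable def hMat (f : (Fin k → F) → (Fin k → F) → F) (a b : Fin k → F) : Matrix (Fin k) (Fin k) F :=
  outer f a b - outer f b a

variable (hf : Cfsg.Geo.IsSymplecticForm f)
include hf

lemma hMat_mulVec (a b x : Fin k → F) : hMat f a b *ᵥ x = f x b • a - f x a • b := by
  rw [hMat, sub_mulVec, outer_mulVec hf, outer_mulVec hf]

lemma hMat_add_right (a b c : Fin k → F) : hMat f a (b + c) = hMat f a b + hMat f a c :=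
  Matrix.ext_iff_mulVec.2 fun x => by
    rw [add_mulVec, hMat_mulVec hf, hMat_mulVec hf, hMat_mulVec hf, hf.bilinear.add_right]
    module

lemma hMat_smul_right (a b : Fin k → F) (c : F) : hMat f a (c • b) = c • hMat f a b :=
  Matrix.ext_iff_mulVec.2 fun x => by
    rw [smul_mulVec, hMat_mulVec hf, hMat_mulVec hf, hf.bilinear.smul_right]
    module

lemma hMat_conj {τ : GL (Fin k) F} (hτ : ∀ x y, f (τ.val *ᵥ x) (τ.val *ᵥ y) = f x y) (a b : Fin k → F) :
    τ.val * hMat f a b * τ⁻¹.val = hMat f (τ.val *ᵥ a) (τ.val *ᵥ b) := by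
  rw [hMat, hMat, mul_sub, sub_mul, conj_outer_gen hf hτ, conj_outer_gen hf hτ]

/-- Twice the identity is a combination of the alternating elements. -/
lemma two_one_eq_sum : ∃ μ : Matrix (Fin k) (Fin k) F,
    (2 : F) • (1 : Matrix (Fin k) (Fin k) F) = ∑ i, ∑ j, μ i j • hMat f (Pi.single j 1) (Pi.single i 1) := by
  obtain ⟨μ, -, hμs, hμ⟩ := exists_expansion hf
  refine ⟨μ, Matrix.ext_iff_mulVec.2 fun x => ?_⟩
  have h' : ∑ i, ∑ j, μ i j • (f x (Pi.single j 1) • (Pi.single i 1 : Fin k → F)) = -x := by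
    rw [Finset.sum_comm, ← Finset.sum_congr rfl fun j _ => Finset.sum_congr rfl fun i _ =>
      show (-μ j i) • (f x (Pi.single j 1) • (Pi.single i 1 : Fin k → F)) = μ i j • _ by rw [← hμs]]
    simp only [neg_smul, Finset.sum_neg_distrib, hμ x]
  rw [smul_mulVec, one_mulVec, two_smul]
  simp only [Matrix.sum_mulVec, smul_mulVec, hMat_mulVec hf, smul_sub, Finset.sum_sub_distrib]
  rw [hμ x, h', sub_neg_eq_add]

/-- Products of slot transvections move any vector to any other. -/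
lemma exists_move [Finite F] {M : Subgroup (GL (Idx (t + 1) k) F)} (C : PCtx f M) {u w : Fin k → F} (hu : u ≠ 0)
    (hw : w ≠ 0) : ∃ τ : GL (Fin k) F, τ.val *ᵥ u = w ∧ (∀ x y, f (τ.val *ᵥ x) (τ.val *ᵥ y) = f x y) ∧
      ∀ l, slotEl l τ ∈ M := by
  have h1 : ∀ u w : Fin k → F, f u w ≠ 0 → ∃ τ : GL (Fin k) F, τ.val *ᵥ u = w ∧
      (∀ x y, f (τ.val *ᵥ x) (τ.val *ᵥ y) = f x y) ∧ ∀ l, slotEl l τ ∈ M :=
    fun u w h => ⟨ptr f (w - u) (f u w)⁻¹, by
      rw [ptr_mulVec hf, Transvec.sub_right' hf, hf.alternating, sub_zero, inv_mul_cancel₀ h, one_smul,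
        add_sub_cancel], fun x y => ptr_form hf _ x y _, fun l => C.root l _ _⟩
  obtain ⟨z, -, hz1, hz2⟩ := exists_avoid ⊤ (φ := fun z => f u z) (ψ := fun z => f z w)
    (fun x y => hf.bilinear.add_right u x y) (fun x y => hf.bilinear.add_left x y w)
    (by obtain ⟨z, hz⟩ := (hf.nondegenerate u hu).2; exact ⟨z, trivial, hz⟩)
    (by obtain ⟨z, hz⟩ := (hf.nondegenerate w hw).1; exact ⟨z, trivial, hz⟩)
  obtain ⟨a, ha, ha'', ha'⟩ := h1 u z hz1
  obtain ⟨b, hb, hb'', hb'⟩ := h1 z w hz2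
  exact ⟨b * a, by rw [Transvec.mul_mulVec, ha, hb],
    fun x y => by rw [Transvec.mul_mulVec, Transvec.mul_mulVec, hb'', ha''],
    fun l => by rw [← slotEl_mul]; exact mul_mem (hb' l) (ha' l)⟩

variable {M : Subgroup (GL (Idx (t + 1) k) F)} (C : PCtx f M)
include C

/-- Nilpotent factors at every slot are impossible for an even number of slots. -/
theorem not_allN (h2 : (2 : F) ≠ 0) (ht : Even (t + 1)) {G : Fin (t + 1) → Matrix (Fin k) (Fin k) F}
    (hG : HasEl M G) : ∃ l, ¬ IsN f (G l) := by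
  by_contra hall
  push Not at hall
  obtain ⟨c, hc, h, hh, he⟩ := hG
  choose u hu hGu using hall
  choose x hx using fun l => (hf.nondegenerate (u l) (hu l)).1
  have hiso := (iso_pForm_iff _).mp (C.iso h hh) (pv x) (pv x)
  have hhx : h.val *ᵥ pv x = pv x + (c * ∏ l, f (x l) (u l)) • pv u := by
    rw [he, add_mulVec, one_mulVec, smul_mulVec, tmat_mulVec, mul_smul]
    congr 2
    funext a
    simp [pv, hGu, outer_mulVec hf, Finset.prod_mul_distrib]
  have hA : ∏ l, f (x l) (u l) ≠ 0 := Finset.prod_ne_zero_iff.mpr fun l _ => hx l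
  have hux : ∏ l, f (u l) (x l) = ∏ l, f (x l) (u l) := by
    rw [Finset.prod_congr rfl fun l _ => (hf.skew (u l) (x l)).trans (neg_eq_neg_one_mul _), Finset.prod_mul_distrib,
      Finset.prod_const, Finset.card_univ, Fintype.card_fin, ht.neg_one_pow, one_mul]
  have huu : ∏ l, f (u l) (u l) = 0 := Finset.prod_eq_zero (Finset.mem_univ 0) (hf.alternating _)
  have hxx : ∏ l, f (x l) (x l) = 0 := Finset.prod_eq_zero (Finset.mem_univ 0) (hf.alternating _)
  rw [hhx] at hiso
  simp only [pForm, mulVec_add, mulVec_smul, add_dotProduct, dotProduct_add, smul_dotProduct, dotProduct_smul,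
    smul_eq_mul] at hiso
  have e : ∀ a b : Fin (t + 1) → Fin k → F, (pG (t + 1) f *ᵥ pv b) ⬝ᵥ pv a = ∏ l, f (a l) (b l) := pForm_pv hf
  rw [e, e, e, e, huu, hxx, hux] at hiso
  have : 2 * c * (∏ l, f (x l) (u l)) ^ 2 = 0 := by linear_combination hiso
  exact mul_ne_zero (mul_ne_zero h2 hc) (pow_ne_zero _ hA) this

variable [Finite F]

/-- A full support: one slot carries every alternating element and the identity. -/
theorem slot_all (h2 : (2 : F) ≠ 0) (ht : Even (t + 1)) {G : Fin (t + 1) → Matrix (Fin k) (Fin k) F}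
    (hG : HasEl M G) (hpat : ∀ l, Pat f (G l)) (hfull : ∀ l, G l ≠ 1) {p s : Fin (t + 1)} (hP : IsP f (G p))
    (hN : IsN f (G s)) (hps : p ≠ s) :
    ∃ v : Fin (t + 1) → Fin k → F, (∀ l, l ≠ s → v l ≠ 0) ∧ ∀ Z, (Z = 1 ∨ ∃ a b, Z = hMat f a b) →
      ∃ h ∈ M, h.val = 1 + tmat (Function.update (fun l => outer f (v l) (v l)) s Z) := by
  classical
  obtain ⟨G', hG', -, hsq, hN', hx, hP'⟩ := exists_twins hf C hG hpat
  obtain ⟨htr, htr', vp, hvp, hp1, hp2⟩ := hP' p hP
  obtain ⟨u, hu, hGs⟩ := hN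
  obtain ⟨w, -, hG's⟩ := hN' s ⟨u, hu, hGs⟩
  choose x hxa hxb using fun l => hx l (hfull l)
  have hx0 : ∀ l, x l ≠ 0 := fun l h0 => hxa l (by rw [h0, mulVec_zero, hf.alternating])
  have hwu : f w u ≠ 0 := fun h0 => hxa s (by
    rw [hGs, hG's, outer_sq hf, h0, zero_smul, zero_mulVec, Transvec.zero_left' hf])
  obtain ⟨O, hO⟩ : ∃ O : Finset (Fin (t + 1)), O = (Finset.univ.erase p).erase s := ⟨_, rfl⟩
  obtain ⟨e, he, hmem⟩ := comm_sand hf C h2 hG hG' ⟨p, sq_zero_of_pat hf (Or.inr hP)⟩ ⟨p, hsq p (hfull p)⟩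
    ⟨p, htr⟩ ⟨p, htr'⟩ hp1 hp2 (O := O) (by simp [hO]) x (fun l _ => ⟨hxa l, hxb l⟩)
  obtain ⟨v, hv⟩ : ∃ v, v = Function.update x p vp := ⟨_, rfl⟩
  have hv0 : ∀ l, l ≠ s → v l ≠ 0 := fun l _ => by
    rw [hv]
    by_cases hl : l = p
    · subst hl; simpa using hvp
    · simpa [hl] using hx0 l
  obtain ⟨R, hR⟩ : ∃ R, R = fun l => outer f (v l) (v l) := ⟨_, rfl⟩
  have hmemO : ∀ l, l ≠ s → l ≠ p → l ∈ O := fun l hls hlp => by simp [hO, hls, hlp]
  have hsO : s ∉ O := by simp [hO]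
  have hpO : p ∉ O := by simp [hO]
  have e1 : O.piecewise (fun l => outer f (x l) (x l)) (fun l => G l * G' l) = Function.update R s (G s * G' s) :=
    funext fun l => by
      by_cases hls : l = s
      · subst hls; simp [hsO]
      by_cases hlp : l = p
      · subst hlp; simp [hpO, hls, hR, hv, hp1]
      simp [hmemO l hls hlp, hls, hlp, hR, hv]
  have e2 : O.piecewise (fun l => outer f (x l) (x l)) (Function.update (fun l => G' l * G l) p (outer f vp vp)) =
      Function.update R s (G' s * G s) := funext fun l => by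
    by_cases hls : l = s
    · subst hls; simp [hsO, hps.symm]
    by_cases hlp : l = p
    · subst hlp; simp [hpO, hls, hR, hv]
    simp [hmemO l hls hlp, hls, hlp, hR, hv]
  have hcard : Even O.card := by
    rw [hO, Finset.card_erase_of_mem (by simp [hps.symm]), Finset.card_erase_of_mem (Finset.mem_univ p),
      Finset.card_univ, Fintype.card_fin]
    obtain ⟨r, hr⟩ := ht
    exact ⟨r - 1, by omega⟩
  have hH : G s * G' s + G' s * G s = f w u • hMat f u w := by
    rw [hGs, hG's, outer_sq hf, outer_sq hf, hf.skew u w, hMat, neg_smul, smul_sub, sub_eq_add_neg]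
  rw [hcard.neg_one_pow, mul_one, neg_one_smul, sub_neg_eq_add, e1, e2, ← tmat_update_add, ← tmat_update_smul,
    hH, smul_smul] at hmem
  -- the elements at slot `s`
  obtain ⟨𝒦, h𝒦⟩ : ∃ 𝒦 : AddSubgroup (Matrix (Fin k) (Fin k) F),
      ∀ Z, Z ∈ 𝒦 ↔ tmat (Function.update R s Z) ∈ shG hf M p vp :=
    ⟨(shG hf M p vp).comap (AddMonoidHom.mk' (fun Z => tmat (Function.update R s Z))
      fun Z Z' => tmat_update_add s Z Z' R), fun Z => Iff.rfl⟩
  have hel : ∀ Z ∈ 𝒦, ∃ h ∈ M, h.val = 1 + tmat (Function.update R s Z) :=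
    fun Z hZ => ((mem_shG hf).mp ((h𝒦 Z).mp hZ)).2
  have hin : ∀ Z, (∃ h ∈ M, h.val = 1 + tmat (Function.update R s Z)) → Z ∈ 𝒦 := fun Z hZ =>
    (h𝒦 Z).mpr ((mem_shG hf).mpr ⟨⟨flatA t k (tmat fun j => Function.update R s Z (p.succAbove j)), by
      rw [slotA_tmat, Function.update_of_ne hps, hR, hv]; simp⟩, hZ⟩)
  have hconjT : ∀ gs : Fin (t + 1) → GL (Fin k) F, tGL gs ∈ M → ∀ Z ∈ 𝒦, ∃ h ∈ M,
      h.val = 1 + tmat fun l => (gs l).val * Function.update R s Z l * (gs l)⁻¹.val := by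
    intro gs hgs Z hZ
    obtain ⟨h, hh, he'⟩ := hel Z hZ
    refine ⟨tGL gs * h * (tGL gs)⁻¹, mul_mem (mul_mem hgs hh) (inv_mem hgs), ?_⟩
    rw [Units.val_mul, Units.val_mul, he', mul_add, mul_one, add_mul, Units.mul_inv,
      show (tGL gs)⁻¹.val = tmat fun l => (gs l)⁻¹.val from rfl,
      show (tGL gs).val = tmat fun l => (gs l).val from rfl, tmat_mul, tmat_mul]
  have hconj : ∀ τ : GL (Fin k) F, (∀ l, slotEl l τ ∈ M) → ∀ Z ∈ 𝒦, τ.val * Z * τ⁻¹.val ∈ 𝒦 := by
    intro τ hτ Z hZ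
    refine hin _ ?_
    convert hconjT (Function.update (fun _ => 1) s τ) (tGL_mem fun l => ?_) Z hZ using 6
    · funext l
      by_cases hl : l = s
      · rw [hl]; simp
      · simp [hl]
    · by_cases hl : l = s
      · rw [hl]; simpa using hτ s
      · simpa [hl] using slotEl_one_mem hf C l
  have hsqr : ∀ (a : F), ∀ Z ∈ 𝒦, (a * a) • Z ∈ 𝒦 := by
    intro a Z hZ
    by_cases ha : a = 0
    · simp [ha]
    obtain ⟨τ, hτ, hτi, hτM⟩ := exists_move hf C hvp (smul_ne_zero ha hvp)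
    refine hin _ ?_
    convert hconjT (Function.update (fun _ => 1) p τ) (tGL_mem fun l => ?_) Z hZ using 5
    · have e3 : (fun l => (Function.update (fun _ => (1 : GL (Fin k) F)) p τ l).val * Function.update R s Z l *
          (Function.update (fun _ => (1 : GL (Fin k) F)) p τ l)⁻¹.val) =
          Function.update (Function.update R s Z) p ((a * a) • R p) := funext fun l => by
        by_cases hl : l = p
        · subst hl
          simp only [Function.update_self, Function.update_of_ne hps, hR, hv, conj_outer_gen hf hτi, hτ]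
          exact Matrix.ext_iff_mulVec.2 fun y => by
            simp [outer_mulVec hf, smul_mulVec, hf.bilinear.smul_right, smul_smul, mul_comm, mul_assoc, mul_left_comm]
        · simp [hl]
      rw [e3, tmat_update_smul, tmat_update_smul, show Function.update (Function.update R s Z) p (R p) =
        Function.update R s Z by rw [← Function.update_of_ne hps Z R, Function.update_eq_self]]
    · by_cases hl : l = p
      · subst hl; simpa using hτM l
      · simpa [hl] using slotEl_one_mem hf C l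
  have h4 : (4 : F) ≠ 0 := by
    rw [show (4 : F) = 2 * 2 by norm_num]; exact mul_ne_zero h2 h2
  have hsmul : ∀ (c : F), ∀ Z ∈ 𝒦, c • Z ∈ 𝒦 := fun c Z hZ => by
    rw [show c = (c / 4 + 1) * (c / 4 + 1) + -((c / 4 - 1) * (c / 4 - 1)) by field_simp; ring, add_smul, neg_smul]
    exact add_mem (hsqr _ Z hZ) (neg_mem (hsqr _ Z hZ))
  have hstart : hMat f u w ∈ 𝒦 := by
    have h1 := hsmul (e * f w u)⁻¹ _ ((h𝒦 _).mpr hmem)
    rwa [smul_smul, inv_mul_cancel₀ (mul_ne_zero he hwu), one_smul] at h1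
  have hall : ∀ a b, hMat f a b ∈ 𝒦 := fun a => by
    by_cases ha : a = 0
    · intro b
      rw [show hMat f a b = 0 from Matrix.ext_iff_mulVec.2 fun y => by
        rw [hMat_mulVec hf, ha, Transvec.zero_right' hf]; simp]
      exact zero_mem _
    obtain ⟨τ, hτ, hτi, hτM⟩ := exists_move hf C hu ha
    obtain ⟨b₀, hb₀⟩ : ∃ b₀, b₀ = τ.val *ᵥ w := ⟨_, rfl⟩
    have hab : f b₀ a ≠ 0 := by rw [hb₀, ← hτ, hτi]; exact hwu
    have hb₀m : hMat f a b₀ ∈ 𝒦 := by
      rw [← hτ, hb₀, ← hMat_conj hf hτi]; exact hconj τ hτM _ hstart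
    have hperp : ∀ z, f a z = 0 → f b₀ z ≠ 0 → hMat f a z ∈ 𝒦 := fun z haz hbz => by
      have h1 := sub_mem (hconj _ (fun l => C.root l z 1) _ hb₀m) hb₀m
      rw [hMat_conj hf (fun x y => ptr_form hf z x y 1), ptr_mulVec hf, ptr_mulVec hf, one_mul, one_mul, haz,
        zero_smul, add_zero, hMat_add_right hf, add_sub_cancel_left, hMat_smul_right hf] at h1
      have h2 := hsmul (f b₀ z)⁻¹ _ h1
      rwa [smul_smul, inv_mul_cancel₀ hbz, one_smul] at h2
    have hperp' : ∀ z, f a z = 0 → hMat f a z ∈ 𝒦 := fun z haz => by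
      by_cases hbz : f b₀ z = 0
      · have h1 := hperp (z + a) (by rw [hf.bilinear.add_right, haz, hf.alternating, add_zero])
          (by rw [hf.bilinear.add_right, hbz, zero_add]; exact hab)
        rwa [hMat_add_right hf, show hMat f a a = 0 from sub_self _, add_zero] at h1
      · exact hperp z haz hbz
    intro z
    have hba : f a b₀ ≠ 0 := by rw [hf.skew]; exact neg_ne_zero.mpr hab
    obtain ⟨r, hr⟩ : ∃ r, r = f a z / f a b₀ := ⟨_, rfl⟩
    have h1 := hperp' (z + (-r) • b₀) (by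
      rw [hf.bilinear.add_right, hf.bilinear.smul_right, hr, neg_mul, div_mul_cancel₀ _ hba, add_neg_cancel])
    have h2 := add_mem h1 (hsmul r _ hb₀m)
    rwa [hMat_add_right hf, hMat_smul_right hf, neg_smul, neg_add_cancel_right] at h2
  refine ⟨v, hv0, fun Z hZ => ?_⟩
  rw [← hR]
  refine hel Z ?_
  rcases hZ with rfl | ⟨a, b, rfl⟩
  · obtain ⟨μ, hμ⟩ := two_one_eq_sum hf
    have h1 : (2 : F) • (1 : Matrix (Fin k) (Fin k) F) ∈ 𝒦 := hμ ▸ sum_mem fun i _ => sum_mem fun j _ =>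
      hsmul _ _ (hall _ _)
    have := hsmul (2 : F)⁻¹ _ h1
    rwa [smul_smul, inv_mul_cancel₀ h2, one_smul] at this
  · exact hall a b

variable (hperm : ∀ σ : Equiv.Perm (Fin (t + 1)), permGL σ ∈ M)
include hperm

/-- Nilpotent factors at all slots but one. -/
theorem exists_allButOne (h2 : (2 : F) ≠ 0) (ht : Even (t + 1)) (hns : NSShear f M) :
    ∃ (s : Fin (t + 1)) (G : Fin (t + 1) → Matrix (Fin k) (Fin k) F),
      HasEl M G ∧ NSet f G (Finset.univ.erase s) := by
  classical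
  obtain ⟨G, i, l, hG, hpat, hi, hli, hl⟩ := exists_start hf C h2 hns
  obtain ⟨S, hS⟩ : ∃ S : Finset (Fin (t + 1)), ∀ j, j ∈ S ↔ G j ≠ 1 :=
    ⟨Finset.univ.filter fun j => G j ≠ 1, fun j => by simp⟩
  by_cases hfull : S = Finset.univ
  · have hne : ∀ j, G j ≠ 1 := fun j => (hS j).mp (hfull ▸ Finset.mem_univ j)
    obtain ⟨p, hp⟩ := not_allN hf C h2 ht hG
    obtain ⟨v, hv, hall⟩ := slot_all hf C h2 ht hG hpat hne (p := p) (((hpat p).resolve_left (hne p)).resolve_left hp)
      hi (fun h => hp (h ▸ hi))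
    obtain ⟨h, hh, he⟩ := hall 1 (Or.inl rfl)
    refine ⟨i, _, ⟨1, one_ne_zero, h, hh, by rw [one_smul]; exact he⟩, fun j hj => ?_, fun j hj => ?_⟩
    · rw [Function.update_of_ne (Finset.ne_of_mem_erase hj)]
      exact ⟨v j, hv j (Finset.ne_of_mem_erase hj), rfl⟩
    · simp only [Finset.mem_erase, Finset.mem_univ, and_true, ne_eq, not_not] at hj
      rw [hj, Function.update_self]
  have h2S : 2 ≤ S.card := Finset.one_lt_card.mpr ⟨l, (hS l).mpr hl, i, (hS i).mpr (not_one_of_isN hf hi), hli⟩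
  obtain ⟨G', S', hG', hN', ho, -, hle⟩ := exists_grown hf C hperm h2 hG hpat hi hS h2S fun _ => hfull
  have hc : S'.card ≤ t + 1 := by simpa using Finset.card_le_univ S'
  have hc' : S'ᶜ.card = 1 := by
    rw [Finset.card_compl, Fintype.card_fin]
    obtain ⟨a, ha⟩ := ho
    obtain ⟨b, hb⟩ := ht
    omega
  obtain ⟨s, hs⟩ := Finset.card_eq_one.mp hc'
  refine ⟨s, G', hG', ?_⟩
  rwa [show Finset.univ.erase s = S' by rw [← compl_compl S', hs, Finset.compl_singleton]]

end CfsgLib.Classical22.TPow
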