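/-
A quadratic tensor power split at one slot: elements of Omega and the dichotomy for the split.
-/
import Cfsg.Agent.Lib.Classical22.TensorPower.Full
import Cfsg.Agent.Lib.Classical22.SympTensorStatement

set_option autoImplicit false
set_option linter.unusedSectionVars false
set_option linter.unusedSimpArgs false

namespace CfsgLib.Classical22.TPow

open Matrix Kronecker CfsgLib.Transvec CfsgLib.Classical CfsgLib.Classical22.TensorMax
  CfsgLib.Classical22.TensorMax.SympO
open CfsgLib.Classical22.TensorMax.SpO (kr kr_apply isKron_kr)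
open CfsgLib.Classical22.TWMax
open scoped MatrixGroups

variable {F : Type*} [Field F] {t k : ℕ} {f : (Fin k → F) → (Fin k → F) → F}

/-- A quadratic form with the tensor power as polar form and vanishing on pure vectors. -/
structure PForm (f : (Fin k → F) → (Fin k → F) → F) (Q : QuadraticForm F (Idx t k → F)) : Prop where
  polar : ∀ xs ys, QuadraticMap.polar Q (pv xs) (pv ys) = ∏ i, f (xs i) (ys i)
  pure : ∀ xs, Q (pv xs) = 0

/-- The flattened tensor power form. -/
noncomputable def fForm (f : (Fin k → F) → (Fin k → F) → F) (x y : Fin (k ^ t) → F) : F :=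
  pForm (t := t) f (x ∘ flatE t k) (y ∘ flatE t k)

lemma fv_comp (xs : Fin t → Fin k → F) : fv xs ∘ flatE t k = pv xs := by
  rw [fv, Function.comp_assoc, Equiv.symm_comp_self, Function.comp_id]

lemma isSymplectic_fForm (hg : Cfsg.Geo.IsSymplecticForm (pForm (t := t) f)) :
    Cfsg.Geo.IsSymplecticForm (fForm (t := t) f) := by
  have hc : ∀ v : Fin (k ^ t) → F, v ≠ 0 → v ∘ flatE t k ≠ 0 := fun v hv h =>
    hv ((flatE t k).surjective.injective_comp_right h)
  refine ⟨⟨fun x y v => hg.bilinear.add_left _ _ _, fun c x v => hg.bilinear.smul_left _ _ _,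
    fun v x y => hg.bilinear.add_right _ _ _, fun c v x => hg.bilinear.smul_right _ _ _⟩,
    fun v w => hg.skew _ _, fun v => hg.alternating _, fun v hv => ?_⟩
  obtain ⟨⟨x, hx⟩, ⟨y, hy⟩⟩ := hg.nondegenerate _ (hc v hv)
  refine ⟨⟨x ∘ (flatE t k).symm, ?_⟩, ⟨y ∘ (flatE t k).symm, ?_⟩⟩ <;>
    simpa [fForm, Function.comp_assoc]

/-- The slot first, then the others. -/
def eS (j : Fin (t + 1)) : Idx (t + 1) k ≃ Fin k × Fin (k ^ t) := (slotE j).trans (Equiv.prodComm _ _)

/-- Reindexing to slot-first coordinates. -/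
noncomputable def GS (j : Fin (t + 1)) : GL (Idx (t + 1) k) F ≃* GL (Fin k × Fin (k ^ t)) F :=
  Cfsg.Geo.glReindex (eS j)

lemma GS_eq_kr {j : Fin (t + 1)} {g : GL (Idx (t + 1) k) F} {A : GL (Fin k) F} {B : GL (Fin (k ^ t)) F}
    (h : slotG j g = kr B A) : GS j g = kr A B := by
  refine Units.ext (Matrix.ext fun p q => ?_)
  have e := congrFun (congrFun (congrArg (fun X : GL (Fin (k ^ t) × Fin k) F => X.val) h) (p.2, p.1)) (q.2, q.1)
  change g.val _ _ = B.val p.2 q.2 * A.val p.1 q.1 at e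
  change g.val _ _ = A.val p.1 q.1 * B.val p.2 q.2
  rw [mul_comm, ← e]
  rfl

lemma GS_slotEl (j : Fin (t + 1)) (A : GL (Fin k) F) : GS j (slotEl j A) = kr A (1 : GL (Fin (k ^ t)) F) :=
  GS_eq_kr (slotG_slotEl j A)

lemma GS_slotEl_other (j : Fin (t + 1)) (l : Fin t) (τ : GL (Fin k) F) :
    GS j (slotEl (j.succAbove l) τ) = kr (1 : GL (Fin k) F) (flatG t k (tGL (Function.update (fun _ => 1) l τ))) :=
  GS_eq_kr (slotG_other j l τ (by
    rw [flatG_eq, show (tGL (Function.update (fun _ => 1) l τ)).val = emb l τ.val from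
      mat_ext_pv fun xs => by
        rw [tGL_apply, emb_mulVec_pv]
        congr 1
        funext i
        by_cases hi : i = l
        · subst hi; simp
        · simp [hi]]))

lemma eS_vec (j : Fin (t + 1)) (x : Fin k → F) (zs : Fin t → Fin k → F) :
    pt x (fv zs) ∘ eS j = pv (Fin.insertNth j x zs) := by
  funext a
  simp [eS, slotE_apply, pt, fv, pv, Fin.prod_univ_succAbove _ j]

/-- The quadratic form in slot-first coordinates. -/
noncomputable def QS (Q : QuadraticForm F (Idx (t + 1) k → F)) (j : Fin (t + 1)) :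
    QuadraticForm F (Fin k × Fin (k ^ t) → F) := Q.comp (LinearMap.funLeft F F (eS j))

lemma single_flat (a : Fin (k ^ t)) :
    (Pi.single a 1 : Fin (k ^ t) → F) = fv fun i => Pi.single ((flatE t k).symm a i) 1 := by
  rw [fv, ← single_eq_pv]
  funext b
  rw [Function.comp_apply]
  by_cases h : b = a
  · subst h; simp
  · rw [Pi.single_eq_of_ne h, Pi.single_eq_of_ne fun e => h ((flatE t k).symm.injective e)]

theorem PForm.tens {Q : QuadraticForm F (Idx (t + 1) k → F)} (P : PForm f Q) (hf : Cfsg.Geo.IsSymplecticForm f)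
    (hg : Cfsg.Geo.IsSymplecticForm (pForm (t := t) f)) (j : Fin (t + 1)) : Tens (QS Q j) f (fForm (t := t) f) := by
  classical
  have hF := isSymplectic_fForm hg
  have hQ : ∀ x zs, QS Q j (pt x (fv zs)) = 0 := fun x zs => by
    rw [QS, QuadraticMap.comp_apply]
    change Q (pt x (fv zs) ∘ eS j) = 0
    rw [eS_vec]; exact P.pure _
  have hpol : ∀ x zs y ws, QuadraticMap.polar (QS Q j) (pt x (fv zs)) (pt y (fv ws)) =
      f x y * fForm f (fv zs) (fv ws) := fun x zs y ws => by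
    have e : QuadraticMap.polar (QS Q j) (pt x (fv zs)) (pt y (fv ws)) =
        QuadraticMap.polar Q (pt x (fv zs) ∘ eS j) (pt y (fv ws) ∘ eS j) := by
      simp only [QuadraticMap.polar, QS, QuadraticMap.comp_apply, map_add]
      rfl
    rw [e, eS_vec, eS_vec, P.polar, fForm, fv_comp, fv_comp, pForm_pv hf, Fin.prod_univ_succAbove _ j]
    simp
  have hfull : ∀ x u y w, QuadraticMap.polar (QS Q j) (pt x u) (pt y w) = f x y * fForm f u w := by
    intro x u y w
    have key : (QS Q j).polarBilin.compl₁₂ (ptR x) (ptR y) = f x y • Transvec.toBilin hF.bilinear :=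
      LinearMap.ext_basis (Pi.basisFun F _) (Pi.basisFun F _) fun a b => by
        simp only [Pi.basisFun_apply, LinearMap.compl₁₂_apply, LinearMap.smul_apply, QuadraticMap.polarBilin_apply_apply,
          smul_eq_mul, Transvec.toBilin_apply]
        rw [single_flat a, single_flat b]
        exact hpol _ _ _ _
    have := LinearMap.congr_fun₂ key u w
    simpa [ptR] using this
  refine ⟨hf, hF, hfull, fun x u => ?_⟩
  suffices ∀ S : Finset (Fin (k ^ t)), QS Q j (pt x (∑ a ∈ S, u a • Pi.single a 1)) = 0 by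
    simpa [← pi_eq_sum_univ' u] using this Finset.univ
  intro S
  induction S using Finset.induction_on with
  | empty => rw [Finset.sum_empty, pt_zero_right, QuadraticMap.map_zero]
  | insert a S ha ih =>
    rw [Finset.sum_insert ha, pt_add_right, QuadraticMap.map_add (QS Q j), ih, hfull, hf.alternating, pt_smul_right,
      QuadraticMap.map_smul, single_flat a, hQ]
    simp

variable [Fintype F] {Q : QuadraticForm F (Idx (t + 1) k → F)}

lemma omega_map (Q : QuadraticForm F (Idx (t + 1) k → F)) (j : Fin (t + 1)) :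
    (Cfsg.Geo.omegaGL ⇑Q).map (GS j).toMonoidHom = Cfsg.Geo.omegaGL ⇑(QS Q j) := by
  have hiso : (Cfsg.isometryGroup F ⇑Q).map (GS j).toMonoidHom = Cfsg.isometryGroup F ⇑(QS Q j) := by
    ext g
    obtain ⟨g₀, rfl⟩ := (GS j).surjective g
    have hact : ∀ x : Fin k × Fin (k ^ t) → F, (GS j g₀).val *ᵥ x = (g₀.val *ᵥ (x ∘ eS j)) ∘ (eS j).symm := fun x => by
      conv_lhs => rw [show x = (x ∘ eS j) ∘ (eS j).symm by
        rw [Function.comp_assoc, Equiv.self_comp_symm, Function.comp_id]]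
      rw [GS, glReindex_mulVec]
    constructor
    · rintro ⟨y, hy, he⟩
      obtain rfl := (GS j).injective he
      intro x x'
      change Q (((GS j y).val *ᵥ x) ∘ eS j) = Q (x ∘ eS j)
      rw [hact, Function.comp_assoc, Equiv.symm_comp_self, Function.comp_id]
      exact hy _ (x' ∘ eS j)
    · intro h
      refine ⟨g₀, fun x x' => ?_, rfl⟩
      have h1 : Q (((GS j g₀).val *ᵥ (x ∘ (eS j).symm)) ∘ eS j) = Q ((x ∘ (eS j).symm) ∘ eS j) :=
        h (x ∘ (eS j).symm) (x' ∘ (eS j).symm)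
      rw [hact] at h1
      simp only [Function.comp_assoc, Equiv.symm_comp_self, Function.comp_id] at h1
      exact h1
  rw [OrthSubfield.omegaGL_eq_commutator, OrthSubfield.omegaGL_eq_commutator, Subgroup.map_commutator, hiso]

variable (P : PForm f Q) (hf : Cfsg.Geo.IsSymplecticForm f) (hg : Cfsg.Geo.IsSymplecticForm (pForm (t := t) f))
  (h5 : 5 ≤ k ^ (t + 1))
include P hf hg h5

lemma omega_eich (j : Fin (t + 1)) :
    Cfsg.Geo.omegaGL ⇑(QS Q j) = (eichGroup (QS Q j)).map (qHom (QS Q j)) := by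
  refine omegaGL_eq_map _ (polarNondeg (P.tens hf hg j)) ?_
  rwa [Fintype.card_prod, Fintype.card_fin, Fintype.card_fin, ← pow_succ']

lemma mem_omega_of_eich (j : Fin (t + 1)) {g : GL (Idx (t + 1) k) F} {e : qAut (QS Q j)}
    (he : e ∈ eichGroup (QS Q j)) (h : qHom (QS Q j) e = GS j g) : g ∈ Cfsg.Geo.omegaGL ⇑Q := by
  have h1 : GS j g ∈ (Cfsg.Geo.omegaGL ⇑Q).map (GS j).toMonoidHom := by
    rw [omega_map, omega_eich P hf hg h5, ← h]
    exact ⟨e, he, rfl⟩
  obtain ⟨y, hy, hyg⟩ := h1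
  exact (GS j).injective hyg ▸ hy

/-- Isometries of the other slots lie in Omega. -/
theorem rest_mem_omega (j : Fin (t + 1)) {g : GL (Idx (t + 1) k) F} {B : GL (Fin (k ^ t)) F}
    (hB : Transvec.Iso (fForm (t := t) f) B) (h : GS j g = kr (1 : GL (Fin k) F) B) : g ∈ Cfsg.Geo.omegaGL ⇑Q := by
  have hF := isSymplectic_fForm hg
  obtain ⟨N, hN⟩ : ∃ N : Subgroup (GL (Fin (k ^ t)) F), ∀ B, B ∈ N ↔ kr (1 : GL (Fin k) F) B ∈
      (eichGroup (QS Q j)).map (qHom (QS Q j)) :=
    ⟨((eichGroup (QS Q j)).map (qHom (QS Q j))).comap (MonoidHom.mk' (fun B => kr (1 : GL (Fin k) F) B)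
      fun B B' => Units.ext (by simp [kr, ← mul_kronecker_mul])), fun B => Iff.rfl⟩
  have hall : ∀ u, Transvec.Full (fForm (t := t) f) N u := fun u c => by
    obtain ⟨e, he, hev, -⟩ := exists_root (P.tens hf hg j) u c
    refine (hN _).mpr ⟨e, he, Units.ext (TPow.mat_ext_pt fun x z => ?_)⟩
    rw [qHom_mulVec, hev, kr_apply, Units.val_one, one_mulVec, sT_mulVec hF, s2_pt (P.tens hf hg j), pt_add_right,
      pt_smul_left, smul_smul, pt_smul_right]
  obtain ⟨e, he, hee⟩ := (hN B).mp (iso_mem_of_full hF hall hB)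
  exact mem_omega_of_eich P hf hg h5 j he (hee.trans h.symm)

/-- Slot transvections lie in Omega. -/
theorem ptr_mem_omega (j : Fin (t + 1)) (u : Fin k → F) (c : F) :
    slotEl j (ptr f u c) ∈ Cfsg.Geo.omegaGL ⇑Q := by
  obtain ⟨e, he, hev, -⟩ := exists_transA (P.tens hf hg j) u c
  refine mem_omega_of_eich P hf hg h5 j he (Units.ext (TPow.mat_ext_pt fun x z => ?_))
  rw [qHom_mulVec, hev, GS_slotEl, kr_apply, Units.val_one, one_mulVec, tv_mulVec hf, ptr_mulVec hf]

/-- A group containing the split stabiliser is Omega or inside it. -/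
theorem omega_le_or_kron (j : Fin (t + 1)) (hk : 2 ≤ k) (hkb : k + 2 ≤ k ^ t) (hb : 5 ≤ k ^ t)
    (hq : 3 ≤ k ∨ ∃ s : F, s ≠ 0 ∧ s ≠ 1) {M : Subgroup (GL (Idx (t + 1) k) F)} (hM : M ≤ Cfsg.Geo.omegaGL ⇑Q)
    (hK : ∀ g ∈ Cfsg.Geo.omegaGL ⇑Q, IsKron (GS j g) → g ∈ M) :
    Cfsg.Geo.omegaGL ⇑Q ≤ M ∨ ∀ g ∈ M, IsKron (GS j g) := by
  obtain ⟨M', hM'⟩ : ∃ M' : Subgroup (qAut (QS Q j)), ∀ e, e ∈ M' ↔
      qHom (QS Q j) e ∈ M.map (GS j).toMonoidHom :=
    ⟨(M.map (GS j).toMonoidHom).comap (qHom (QS Q j)), fun e => Iff.rfl⟩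
  have hsub : M' ≤ eichGroup (QS Q j) := fun e he => by
    obtain ⟨g, hg', hge⟩ := (hM' e).mp he
    have h1 : GS j g ∈ Cfsg.Geo.omegaGL ⇑(QS Q j) := omega_map Q j ▸ ⟨g, hM hg', rfl⟩
    rw [omega_eich P hf hg h5] at h1
    obtain ⟨e', he', hee⟩ := h1
    rwa [show e = e' from qHom_injective _ (hge.symm.trans hee.symm)]
  have C : Ctx (QS Q j) f (fForm (t := t) f) M' :=
    { tens := P.tens hf hg j, two_le := hk, lt := hkb, hyp := hq, sub := hsub
      le := fun e he hk' => by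
        obtain ⟨g, hge⟩ := (GS j).surjective (qHom (QS Q j) e)
        exact (hM' e).mpr ⟨g, hK g (mem_omega_of_eich P hf hg h5 j he hge.symm) (hge ▸ hk'), hge⟩ }
  rcases le_or_kron C hb with h | h
  · left
    intro g hg'
    have h1 : GS j g ∈ Cfsg.Geo.omegaGL ⇑(QS Q j) := omega_map Q j ▸ ⟨g, hg', rfl⟩
    rw [omega_eich P hf hg h5] at h1
    obtain ⟨e, he, hee⟩ := h1
    obtain ⟨y, hy, hyg⟩ := (hM' e).mp (h he)
    exact (GS j).injective (hyg.trans hee) ▸ hy
  · right
    intro g hg'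
    have h1 : GS j g ∈ Cfsg.Geo.omegaGL ⇑(QS Q j) := omega_map Q j ▸ ⟨g, hM hg', rfl⟩
    rw [omega_eich P hf hg h5] at h1
    obtain ⟨e, he, hee⟩ := h1
    exact hee ▸ h e ((hM' e).mpr ⟨g, hg', hee.symm⟩)

omit P h5 in
/-- A similitude in one of the other slots scales their form. -/
lemma fForm_slot {l : Fin t} {A : GL (Fin k) F} {μ : F} (hA : ∀ x y, f (A.val *ᵥ x) (A.val *ᵥ y) = μ * f x y)
    (u w : Fin (k ^ t) → F) :
    fForm f ((flatG t k (tGL (Function.update (fun _ => 1) l A))).val *ᵥ u)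
      ((flatG t k (tGL (Function.update (fun _ => 1) l A))).val *ᵥ w) = μ * fForm f u w := by
  classical
  obtain ⟨G, hG⟩ : ∃ G, G = tGL (Function.update (fun _ : Fin t => (1 : GL (Fin k) F)) l A) := ⟨_, rfl⟩
  rw [← hG]
  have hgram : (A.val)ᵀ * gram f * A.val = μ • gram f := Matrix.ext fun i i' => by
    have e := hA (Pi.single i 1) (Pi.single i' 1)
    rw [form_eq_dot hf, form_eq_dot hf, mulVec_mulVec, dotProduct_mulVec, ← mulVec_transpose, mulVec_mulVec,
      ← mul_assoc] at e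
    simpa [dotProduct_single, mulVec_single_one] using e
  have hpG : (G.val)ᵀ * pG t f * G.val = μ • pG t f := by
    rw [hG, show (tGL (Function.update (fun _ : Fin t => (1 : GL (Fin k) F)) l A)).val = tmat fun i =>
      ((Function.update (fun _ : Fin t => (1 : GL (Fin k) F)) l A) i).val from rfl, pG, tmat_transpose, tmat_mul, tmat_mul,
      show (fun i => ((Function.update (fun _ : Fin t => (1 : GL (Fin k) F)) l A) i).valᵀ * gram f *
        ((Function.update (fun _ : Fin t => (1 : GL (Fin k) F)) l A) i).val) =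
        Function.update (fun _ => gram f) l (μ • gram f) from funext fun i => by
          by_cases hi : i = l
          · subst hi; simp [hgram]
          · simp [hi], tmat_update_smul, Function.update_eq_self]
  have hv : ∀ x : Fin (k ^ t) → F, ((flatG t k G).val *ᵥ x) ∘ flatE t k = G.val *ᵥ (x ∘ flatE t k) := fun x => by
    conv_lhs => rw [show x = (x ∘ flatE t k) ∘ (flatE t k).symm by
      rw [Function.comp_assoc, Equiv.self_comp_symm, Function.comp_id]]
    rw [flatG, glReindex_mulVec, Function.comp_assoc, Equiv.symm_comp_self, Function.comp_id]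
  rw [fForm, fForm, hv, hv, pForm, pForm, ← smul_eq_mul, ← smul_dotProduct, ← smul_mulVec, ← hpG, mul_assoc,
    ← mulVec_mulVec, ← mulVec_mulVec, mulVec_transpose (G.val), ← dotProduct_mulVec]

/-- The split stabiliser comes from the tensor wreath stabiliser and the isometries of the other slots. -/
theorem kron_mem (hk : 2 ≤ k) (j : Fin (t + 1)) (l : Fin t) {M : Subgroup (GL (Idx (t + 1) k) F)}
    (hstab : ∀ g ∈ Cfsg.Geo.omegaGL ⇑Q, IsTW g → g ∈ M)
    (hrest : ∀ g B, Transvec.Iso (fForm (t := t) f) B → GS j g = kr (1 : GL (Fin k) F) B → g ∈ M)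
    {g : GL (Idx (t + 1) k) F} (hgΩ : g ∈ Cfsg.Geo.omegaGL ⇑Q) (hK : IsKron (GS j g)) : g ∈ M := by
  classical
  obtain ⟨A, B, hAB⟩ := hK
  have hkr : GS j g = kr A B := Units.ext hAB
  have hF := isSymplectic_fForm hg
  have T := P.tens hf hg j
  have h1 : GS j g ∈ Cfsg.Geo.omegaGL ⇑(QS Q j) := omega_map Q j ▸ ⟨g, hgΩ, rfl⟩
  rw [omega_eich P hf hg h5] at h1
  obtain ⟨e, -, he⟩ := h1
  have hiso : ∀ x y u w, f (A.val *ᵥ x) (A.val *ᵥ y) * fForm f (B.val *ᵥ u) (B.val *ᵥ w) = f x y * fForm f u w := by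
    intro x y u w
    rw [← T.polar_pt, ← T.polar_pt, ← kr_apply, ← kr_apply, ← hkr, ← he, qHom_mulVec, qHom_mulVec, qAut_polar]
  obtain ⟨x₀, hx₀⟩ : ∃ x : Fin k → F, x ≠ 0 := ⟨Pi.single ⟨0, by omega⟩ 1, by simp⟩
  obtain ⟨y₀, hy₀⟩ := (hf.nondegenerate x₀ hx₀).2
  obtain ⟨μ, hμ⟩ : ∃ μ, μ = f (A.val *ᵥ x₀) (A.val *ᵥ y₀) / f x₀ y₀ := ⟨_, rfl⟩
  have hB : ∀ u w, μ * fForm f (B.val *ᵥ u) (B.val *ᵥ w) = fForm f u w := fun u w => by
    rw [hμ, div_mul_eq_mul_div, hiso, mul_div_cancel_left₀ _ hy₀]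
  obtain ⟨u₀, hu₀⟩ : ∃ u : Fin (k ^ t) → F, u ≠ 0 :=
    ⟨Pi.single ⟨0, Nat.pow_pos (by omega)⟩ 1, by simp⟩
  obtain ⟨w₀, hw₀⟩ := (hF.nondegenerate u₀ hu₀).2
  have hA : ∀ x y, f (A.val *ᵥ x) (A.val *ᵥ y) = μ * f x y := fun x y => by
    have e1 := hiso x y u₀ w₀
    rw [← hB u₀ w₀] at e1
    refine mul_right_cancel₀ (fun h0 => hw₀ (by rw [← hB u₀ w₀, h0, mul_zero])) (e1.trans ?_)
    ring
  obtain ⟨X, hX⟩ : ∃ X, X = flatG t k (tGL (Function.update (fun _ => 1) l A)) := ⟨_, rfl⟩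
  obtain ⟨r, hr⟩ := (GS j).surjective (kr (1 : GL (Fin k) F) (X * B))
  have hX' : X⁻¹ = flatG t k (tGL (Function.update (fun _ => 1) l A⁻¹)) := by
    rw [hX, ← map_inv]
    congr 1
    refine inv_eq_of_mul_eq_one_right (ext_pv fun xs => ?_)
    rw [Transvec.mul_mulVec, tGL_apply, tGL_apply, Units.val_one, one_mulVec]
    congr 1
    funext i
    by_cases hi : i = l
    · subst hi; simp
    · simp [hi]
  obtain ⟨g', hg'⟩ : ∃ g', g' = slotEl j A * slotEl (j.succAbove l) A⁻¹ := ⟨_, rfl⟩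
  have hgg : g = g' * r := (GS j).injective (by
    rw [map_mul, hg', map_mul, GS_slotEl, GS_slotEl_other, hr, hkr, ← hX']
    refine Units.ext ?_
    simp only [Units.val_mul, kr, ← mul_kronecker_mul, Units.val_one, one_mul, mul_one]
    rw [← Units.val_mul, ← Units.val_mul, ← mul_assoc, inv_mul_cancel, one_mul])
  have hXB : Transvec.Iso (fForm (t := t) f) (X * B) := fun u w => by
    rw [Transvec.mul_mulVec, Transvec.mul_mulVec, hX, fForm_slot hf hg hA, hB]
  have hrΩ := rest_mem_omega P hf hg h5 j hXB hr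
  have hg'Ω : g' ∈ Cfsg.Geo.omegaGL ⇑Q := by
    rw [show g' = g * r⁻¹ by rw [hgg, mul_inv_cancel_right]]
    exact mul_mem hgΩ (inv_mem hrΩ)
  rw [hgg]
  refine mul_mem (hstab g' hg'Ω ?_) (hrest r _ hXB hr)
  exact ⟨_, _, hg' ▸ (slotEl_data j A).mul (slotEl_data (j.succAbove l) A⁻¹)⟩

end CfsgLib.Classical22.TPow
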