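/-
The dichotomy for the stabiliser of an even tensor power in Omega, odd characteristic.
-/
import Cfsg.Agent.Lib.Classical22.TensorPower.Split
import Cfsg.Agent.Lib.Classical22.TensorPower.PlusGrow
import Cfsg.Agent.Lib.Classical22.TensorPower.Dich

set_option autoImplicit false
set_option linter.unusedSectionVars false
set_option linter.unusedSimpArgs false

namespace CfsgLib.Classical22.TPow

open Matrix Kronecker CfsgLib.Transvec CfsgLib.Classical CfsgLib.Classical22.TensorMax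
  CfsgLib.Classical22.TensorMax.SympO
open CfsgLib.Classical22.TensorMax.SpO (kr kr_apply isKron_kr)
open CfsgLib.Classical22.TWMax
open scoped MatrixGroups

variable {F : Type*} [Field F] {t k : ℕ} {f : (Fin k → F) → (Fin k → F) → F}

/-- The action of the reindexed element on pure vectors. -/
lemma GS_act (j : Fin (t + 1)) (g : GL (Idx (t + 1) k) F) (x : Fin k → F) (zs : Fin t → Fin k → F) :
    (GS j g).val *ᵥ pt x (fv zs) = (g.val *ᵥ pv (Fin.insertNth j x zs)) ∘ (eS j).symm := by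
  conv_lhs => rw [show pt x (fv zs) = (pt x (fv zs) ∘ eS j) ∘ (eS j).symm by
    rw [Function.comp_assoc, Equiv.self_comp_symm, Function.comp_id], GS, glReindex_mulVec, eS_vec]

/-- A slot-first description from the action on pure vectors. -/
lemma GS_of_act (j : Fin (t + 1)) {g : GL (Idx (t + 1) k) F} {A : GL (Fin k) F} {B : GL (Fin (k ^ t)) F}
    (h : ∀ x zs, g.val *ᵥ pv (Fin.insertNth j x zs) = pt (A.val *ᵥ x) (B.val *ᵥ fv zs) ∘ eS j) :
    GS j g = kr A B := by
  classical
  refine Units.ext (Matrix.ext_of_mulVec_single fun p => ?_)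
  have hp : (Pi.single p 1 : Fin k × Fin (k ^ t) → F) =
      pt (Pi.single p.1 1) (fv fun i => Pi.single ((flatE t k).symm p.2 i) 1) := by
    rw [← single_flat]
    funext q
    obtain ⟨a, b⟩ := p
    obtain ⟨a', b'⟩ := q
    simp only [pt, Pi.single_apply, Prod.mk.injEq]
    split_ifs <;> simp_all
  rw [hp, GS_act, h, Function.comp_assoc, Equiv.self_comp_symm, Function.comp_id]
  exact (kr_apply A B _ _).symm

lemma permGL_mul (σ τ : Equiv.Perm (Fin t)) : permGL (F := F) (m := k) σ * permGL τ = permGL (σ * τ) :=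
  ext_pv fun xs => by
    rw [Transvec.mul_mulVec, permGL_apply, permGL_apply, permGL_apply]
    congr 1

lemma permGL_one : permGL (F := F) (m := k) (1 : Equiv.Perm (Fin t)) = 1 :=
  ext_pv fun xs => by rw [permGL_apply, Units.val_one, one_mulVec]; rfl

/-- A permutation moving the slot does not respect the split. -/
lemma not_kron_perm (hk : 2 ≤ k) {j : Fin (t + 1)} {σ : Equiv.Perm (Fin (t + 1))} (hσ : σ.symm j ≠ j) :
    ¬ IsKron (GS j (permGL (F := F) (m := k) σ)) := by
  classical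
  rintro ⟨A, B, hAB⟩
  have hkr : GS j (permGL (F := F) (m := k) σ) = kr A B := Units.ext hAB
  obtain ⟨l, hl⟩ := Fin.exists_succAbove_eq hσ
  obtain ⟨e₀, he₀⟩ : ∃ e₀ : Fin k → F, e₀ = Pi.single ⟨0, by omega⟩ 1 := ⟨_, rfl⟩
  have he : e₀ ≠ 0 := by rw [he₀]; simp
  obtain ⟨u, hu⟩ : ∃ u, u = B.val *ᵥ fv (fun _ : Fin t => e₀) := ⟨_, rfl⟩
  have hu0 : u ≠ 0 := hu ▸ Transvec.mulVec_ne_zero B fun h => pv_ne_zero (fun _ => he)
    ((flatE t k).symm.surjective.injective_comp_right
      (show pv (fun _ : Fin t => e₀) ∘ (flatE t k).symm = (0 : Idx t k → F) ∘ (flatE t k).symm from h))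
  obtain ⟨b, hb⟩ := Function.ne_iff.mp hu0
  have hmem : ∀ x, ∃ c : F, A.val *ᵥ x = c • e₀ := fun x => by
    obtain ⟨ys, hys⟩ : ∃ ys : Fin (t + 1) → Fin k → F,
        ys = fun i => (Fin.insertNth j x (fun _ : Fin t => e₀) : Fin (t + 1) → Fin k → F) (σ.symm i) := ⟨_, rfl⟩
    have h := GS_act j (permGL (F := F) (m := k) σ) x fun _ => e₀
    rw [permGL_apply, ← hys, hkr, kr_apply, ← hu, ← Fin.insertNth_self_removeNth j ys, ← eS_vec,
      Function.comp_assoc, Equiv.self_comp_symm, Function.comp_id,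
      show ys j = e₀ by rw [hys]; simp [← hl]] at h
    refine ⟨fv (Fin.removeNth j ys) b / u b, funext fun a => ?_⟩
    have e := congrFun h (a, b)
    simp only [pt] at e
    rw [Pi.smul_apply, smul_eq_mul, div_mul_eq_mul_div, eq_div_iff hb, e, mul_comm]
  obtain ⟨x, hx⟩ := hmem (Pi.single ⟨0, by omega⟩ 1)
  obtain ⟨y, hy⟩ := hmem (Pi.single ⟨1, by omega⟩ 1)
  have hA : y • (Pi.single ⟨0, by omega⟩ 1 : Fin k → F) - x • Pi.single ⟨1, by omega⟩ 1 = 0 := by
    refine Transvec.mulVec_injective A ?_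
    simp only
    rw [mulVec_sub, mulVec_smul, mulVec_smul, hx, hy, mulVec_zero, smul_smul, smul_smul, mul_comm, sub_self]
  have h1 := congrFun hA ⟨1, by omega⟩
  simp at h1
  rw [h1, zero_smul] at hx
  exact Transvec.mulVec_ne_zero A (by simp) hx

lemma iso_flat_iff (g : GL (Idx t k) F) : PIso f g ↔ Transvec.Iso (fForm (t := t) f) (flatG t k g) := by
  have hv : ∀ x : Fin (k ^ t) → F, ((flatG t k g).val *ᵥ x) ∘ flatE t k = g.val *ᵥ (x ∘ flatE t k) := fun x => by
    conv_lhs => rw [show x = (x ∘ flatE t k) ∘ (flatE t k).symm by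
      rw [Function.comp_assoc, Equiv.self_comp_symm, Function.comp_id]]
    rw [flatG, glReindex_mulVec, Function.comp_assoc, Equiv.symm_comp_self, Function.comp_id]
  rw [iso_pForm_iff]
  constructor
  · intro h x y
    rw [fForm, hv, hv, h]; rfl
  · intro h x y
    have e := h (x ∘ (flatE t k).symm) (y ∘ (flatE t k).symm)
    simp only [fForm, hv, Function.comp_assoc, Equiv.symm_comp_self, Function.comp_id] at e
    exact e

variable [Fintype F] {Q : QuadraticForm F (Idx (t + 1) k → F)}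

lemma omega_le_iso (Q : QuadraticForm F (Idx (t + 1) k → F)) {g : GL (Idx (t + 1) k) F}
    (hg : g ∈ Cfsg.Geo.omegaGL ⇑Q) (x : Idx (t + 1) k → F) : Q (g.val *ᵥ x) = Q x := by
  rw [OrthSubfield.omegaGL_eq_commutator] at hg
  exact (Subgroup.commutator_le_self _ hg) x x

variable (P : PForm f Q) (hf : Cfsg.Geo.IsSymplecticForm f)
include P hf

lemma polar_eq_pForm (x y : Idx (t + 1) k → F) : QuadraticMap.polar Q x y = pForm f x y := by
  classical
  obtain ⟨B, hB⟩ : ∃ B : LinearMap.BilinForm F (Idx (t + 1) k → F), ∀ x y, B x y = pForm f x y :=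
    ⟨LinearMap.mk₂ F (pForm (t := t + 1) f) (fun x y v => by simp [pForm, dotProduct_add])
      (fun c x v => by simp [pForm, dotProduct_smul]) (fun v x y => by simp [pForm, mulVec_add, add_dotProduct])
      (fun c v x => by simp [pForm, mulVec_smul]), fun x y => rfl⟩
  have key : Q.polarBilin = B := LinearMap.ext_basis (Pi.basisFun F _) (Pi.basisFun F _) fun a b => by
    simp only [Pi.basisFun_apply, QuadraticMap.polarBilin_apply_apply, hB]
    rw [single_eq_pv, single_eq_pv, P.polar, pForm_pv hf]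
  rw [← hB, ← key]
  rfl

lemma piso_of_omega {g : GL (Idx (t + 1) k) F} (hg : g ∈ Cfsg.Geo.omegaGL ⇑Q) : PIso f g := by
  rw [iso_pForm_iff]
  intro x y
  rw [← polar_eq_pForm P hf, ← polar_eq_pForm P hf]
  simp only [QuadraticMap.polar, ← mulVec_add, omega_le_iso Q hg]

variable (hg : Cfsg.Geo.IsSymplecticForm (pForm (t := t) f)) (h5 : 5 ≤ k ^ (t + 1))
include hg h5

/-- All slot permutations, for at least three slots. -/
theorem perm_mem (ht : 2 ≤ t) {M : Subgroup (GL (Idx (t + 1) k) F)}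
    (hstab : ∀ g ∈ Cfsg.Geo.omegaGL ⇑Q, IsTW g → g ∈ M) (σ : Equiv.Perm (Fin (t + 1))) : permGL σ ∈ M := by
  classical
  induction σ using Equiv.Perm.swap_induction_on with
  | one => rw [permGL_one]; exact M.one_mem
  | swap_mul τ a b hab ih =>
    rw [← permGL_mul]
    refine mul_mem (hstab _ ?_ ⟨(Equiv.swap a b).symm, fun _ => 1, fun xs => by rw [permGL_apply]; simp⟩) ih
    obtain ⟨j, hja, hjb⟩ : ∃ j, j ≠ a ∧ j ≠ b := by
      have h3 : 0 < (({a, b} : Finset (Fin (t + 1)))ᶜ).card := by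
        rw [Finset.card_compl, Fintype.card_fin, Finset.card_pair hab]; omega
      obtain ⟨j, hj⟩ := Finset.card_pos.mp h3
      simp at hj
      exact ⟨j, hj⟩
    have hfix : Equiv.swap a b j = j := Equiv.swap_apply_of_ne_of_ne hja hjb
    choose p hp using fun l : Fin t => Fin.exists_succAbove_eq
      (show Equiv.swap a b (j.succAbove l) ≠ j from fun h => Fin.succAbove_ne j l ((Equiv.swap a b).injective (h.trans hfix.symm)))
    have hinv : ∀ l, p (p l) = l := fun l => Fin.succAbove_right_injective (p := j) (by rw [hp, hp, Equiv.swap_apply_self])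
    obtain ⟨π, hπ⟩ : ∃ π : Equiv.Perm (Fin t), ∀ l, π.symm l = p l := ⟨⟨p, p, hinv, hinv⟩, fun l => rfl⟩
    refine rest_mem_omega P hf hg h5 j (B := flatG t k (permGL π)) ((iso_flat_iff _).mp (iso_perm π))
      (GS_of_act j fun x zs => ?_)
    rw [permGL_apply, Units.val_one, one_mulVec, flatG_apply, permGL_apply, ← fv, eS_vec, Equiv.symm_swap]
    congr 1
    funext i
    rcases Fin.eq_self_or_eq_succAbove j i with rfl | ⟨l, rfl⟩
    · simp [hfix]
    · simp [hπ, ← hp l]

/-- At least four slots: a non-scalar shear gives Omega. -/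
theorem omega_le_of_four (h2 : (2 : F) ≠ 0) (hk : 4 ≤ k ∨ (k = 2 ∧ 5 ≤ Nat.card F)) (ht : Even (t + 1)) (ht3 : 3 ≤ t)
    {M : Subgroup (GL (Idx (t + 1) k) F)} (hM : M ≤ Cfsg.Geo.omegaGL ⇑Q)
    (hstab : ∀ g ∈ Cfsg.Geo.omegaGL ⇑Q, IsTW g → g ∈ M) (C : PCtx f M) (hns : NSShear f M) :
    Cfsg.Geo.omegaGL ⇑Q ≤ M := by
  classical
  have hperm := perm_mem P hf hg h5 (by omega) hstab
  obtain ⟨s, G, hG, hN, h1⟩ := exists_allButOne hf C hperm h2 ht hns
  obtain ⟨T, rfl⟩ : ∃ T, t = T + 1 := ⟨t - 1, by omega⟩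
  have hT : Odd (T + 1) := (Nat.even_add_one.mp ht |> Nat.not_even_iff_odd.mp)
  obtain ⟨lift, hlift⟩ : ∃ lift : GL (Idx (T + 1) k) F →* GL (Idx (T + 2) k) F,
      ∀ g, slotG s (lift g) = kr (flatG (T + 1) k g) (1 : GL (Fin k) F) :=
    ⟨(slotG s).symm.toMonoidHom.comp (MonoidHom.mk' (fun g => kr (flatG (T + 1) k g) (1 : GL (Fin k) F))
      fun g g' => Units.ext (by simp [kr, map_mul, ← mul_kronecker_mul])), fun g => (slotG s).apply_symm_apply _⟩
  have hlGS : ∀ g, GS s (lift g) = kr (1 : GL (Fin k) F) (flatG (T + 1) k g) := fun g => GS_eq_kr (hlift g)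
  have hle : ∀ g, IsTW g → PIso f g → g ∈ M.comap lift := fun g ⟨π, as, hd⟩ hi =>
    hstab _ (rest_mem_omega P hf hg h5 s ((iso_flat_iff g).mp hi) (hlGS g)) (twData_of_kr s hd 1 (hlift g))
  have hiso : ∀ g ∈ M.comap lift, PIso f g := fun g hgM => by
    have T' := P.tens hf hg s
    have hgΩ : GS s (lift g) ∈ Cfsg.Geo.omegaGL ⇑(QS Q s) := omega_map Q s ▸ ⟨_, hM hgM, rfl⟩
    rw [omega_eich P hf hg h5] at hgΩ
    obtain ⟨e, -, he⟩ := hgΩ
    rw [iso_flat_iff]
    intro u w
    obtain ⟨x, hx⟩ : ∃ x : Fin k → F, x ≠ 0 := ⟨Pi.single ⟨0, by omega⟩ 1, by simp⟩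
    obtain ⟨y, hy⟩ := (hf.nondegenerate x hx).2
    refine mul_left_cancel₀ hy ?_
    rw [← T'.polar_pt, ← T'.polar_pt]
    have e1 : ∀ z v, e.1 (pt z v) = pt z ((flatG (T + 1) k g).val *ᵥ v) := fun z v => by
      rw [← qHom_mulVec, he, hlGS, kr_apply, Units.val_one, one_mulVec]
    rw [← e1, ← e1]
    exact qAut_polar e _ _
  have hall : ∀ g, PIso f g → g ∈ M.comap lift := by
    refine (mem_dich hf h2 hk hT hle hiso).resolve_left fun h => ?_
    obtain ⟨c, hc, el, hel, he⟩ := hG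
    choose u hu hGu using fun l => hN (s.succAbove l) (by simp [Fin.succAbove_ne])
    refine not_tw_sT hf h2 (by omega) hT (by omega) hu hc (h _ ?_)
    rw [Subgroup.mem_comap]
    convert hel using 1
    refine (slotG s).injective ?_
    rw [hlift]
    refine Units.ext ?_
    rw [slotG_val, he, map_add, map_one, map_smul, slotA_tmat, h1 s (by simp),
      show (fun j => G (s.succAbove j)) = fun l => outer f (u l) (u l) from funext hGu, kr]
    simp only [flatG_eq, sT_pv_val hf hg, Units.val_one, map_add, map_one, map_smul]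
    rw [add_kronecker, one_kronecker_one, smul_kronecker]
  have hrest : ∀ g B, Transvec.Iso (fForm (t := T + 1) f) B → GS s g = kr (1 : GL (Fin k) F) B → g ∈ M := by
    intro g B hB hgB
    obtain ⟨g', rfl⟩ := (flatG (T + 1) k).surjective B
    rw [show g = lift g' from (GS s).injective (hgB.trans (hlGS g').symm)]
    exact hall g' ((iso_flat_iff g').mpr hB)
  have hkt : k ^ 3 ≤ k ^ (T + 1) := Nat.pow_le_pow_right (by omega) (by omega)
  have hk3 : 4 * k ≤ k ^ 3 := by
    have h4 : 4 ≤ k ^ 2 := (Nat.pow_le_pow_left (show 2 ≤ k by omega) 2)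
    calc 4 * k ≤ k ^ 2 * k := Nat.mul_le_mul_right _ h4
      _ = k ^ 3 := (pow_succ k 2).symm
  refine (omega_le_or_kron P hf hg h5 s (by omega) (by omega) (by omega)
    (Or.inr ⟨-1, neg_ne_zero.mpr one_ne_zero, fun h => h2 (by linear_combination -h)⟩) hM
    (fun g hgΩ hK => kron_mem P hf hg h5 (by omega) s ⟨0, by omega⟩ hstab hrest hgΩ hK)).resolve_right fun h => ?_
  obtain ⟨r, hr⟩ : ∃ r, r ≠ s := exists_ne s
  exact not_kron_perm (by omega) (σ := Equiv.swap s r) (by simpa using hr) (h _ (hperm _))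

end CfsgLib.Classical22.TPow
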