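/-
Omega of a tensor power form: a small element outside the stabiliser, and transport to given coordinates.
-/
import Cfsg.Agent.Lib.Classical22.TensorPower.Split

set_option autoImplicit false
set_option linter.unusedSectionVars false
set_option linter.unusedSimpArgs false

namespace CfsgLib.Classical22.TPow

open Matrix Kronecker Cfsg CfsgLib.Transvec CfsgLib.Classical CfsgLib.Classical22.TensorMax
  CfsgLib.Classical22.TensorMax.SympO
open CfsgLib.Classical22.TWMax
open scoped MatrixGroups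

variable {F : Type*} [Field F] [Fintype F] {t k : ℕ} {f : (Fin k → F) → (Fin k → F) → F}

/-- An element of Omega with square-zero part of rank at most two. -/
theorem exists_small {Q : QuadraticForm F (Idx (t + 1) k → F)} (P : PForm f Q) (hf : Cfsg.Geo.IsSymplecticForm f)
    (hg : Cfsg.Geo.IsSymplecticForm (pForm (t := t) f)) (h5 : 5 ≤ k ^ (t + 1)) (ht : 1 ≤ t) :
    ∃ g ∈ Cfsg.Geo.omegaGL ⇑Q, g ≠ 1 ∧ (g.val - 1) * (g.val - 1) = 0 ∧ Module.finrank F (mv g) ≤ 2 := by
  classical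
  obtain ⟨e, he⟩ : ∃ e : Fin k → F, e ≠ 0 :=
    ⟨Pi.single ⟨0, Nat.pos_of_ne_zero fun h => by simp [h] at h5⟩ 1, by simp⟩
  obtain ⟨e', he'⟩ := (hf.nondegenerate e he).2
  have he'0 : e' ≠ 0 := fun h => he' (by rw [h]; exact Transvec.zero_right' hf e)
  obtain ⟨xs, hxs⟩ : ∃ xs : Fin (t + 1) → Fin k → F, xs = fun _ => e := ⟨_, rfl⟩
  obtain ⟨ys, hys⟩ : ∃ ys : Fin (t + 1) → Fin k → F, ys = Function.update (fun _ => e') 0 e := ⟨_, rfl⟩
  obtain ⟨U, hU⟩ : ∃ U, U = pv xs ∘ (eS (0 : Fin (t + 1))).symm := ⟨_, rfl⟩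
  obtain ⟨R, hR⟩ : ∃ R, R = pv ys ∘ (eS (0 : Fin (t + 1))).symm := ⟨_, rfl⟩
  have hq : ∀ X : Idx (t + 1) k → F, QS Q 0 (X ∘ (eS 0).symm) = Q X := fun X => by
    rw [QS, QuadraticMap.comp_apply]
    change Q ((X ∘ (eS 0).symm) ∘ eS 0) = Q X
    rw [Function.comp_assoc, Equiv.symm_comp_self, Function.comp_id]
  have hQU : QS Q 0 U = 0 := by rw [hU, hq, P.pure]
  have hQR : QS Q 0 R = 0 := by rw [hR, hq, P.pure]
  have hpol : QuadraticMap.polar (QS Q 0) U R = 0 := by
    rw [hU, hR, QuadraticMap.polar, show pv xs ∘ (eS (0 : Fin (t + 1))).symm + pv ys ∘ (eS 0).symm =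
      (pv xs + pv ys) ∘ (eS 0).symm from rfl, hq, hq, hq]
    change QuadraticMap.polar Q (pv xs) (pv ys) = 0
    rw [P.polar]
    exact Finset.prod_eq_zero (Finset.mem_univ 0) (by rw [hxs, hys, Function.update_self, hf.alternating])
  have hUR : QuadraticMap.polar (QS Q 0) R U = 0 := by rw [QuadraticMap.polar_comm, hpol]
  have hUU : ∀ V, QS Q 0 V = 0 → QuadraticMap.polar (QS Q 0) V V = 0 := fun V hV => by
    rw [QuadraticMap.polar_self, hV, smul_zero]
  obtain ⟨w, hw⟩ : ∃ w, w = eich (QS Q 0) U R := ⟨_, rfl⟩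
  have happ : ∀ v, w.1 v - v = QuadraticMap.polar (QS Q 0) v U • R - QuadraticMap.polar (QS Q 0) v R • U := fun v => by
    rw [hw, eich_apply _ hQU hpol, hQR, zero_mul, add_zero]
    abel
  obtain ⟨g, hgw⟩ := (GS (0 : Fin (t + 1))).surjective (qHom (QS Q 0) w)
  refine ⟨g, mem_omega_of_eich P hf hg h5 0 (hw ▸ eich_mem _ hQU hpol) hgw.symm, ?_, ?_, ?_⟩
  · intro h1
    rw [h1, map_one] at hgw
    obtain ⟨z, hz⟩ : ∃ z, QuadraticMap.polar (QS Q 0) z R ≠ 0 := by
      by_contra hall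
      push Not at hall
      have h0 := polarNondeg (P.tens hf hg 0) R fun z => by rw [QuadraticMap.polar_comm]; exact hall z
      have : pv ys = 0 := (eS (0 : Fin (t + 1))).symm.surjective.injective_comp_right
        (show pv ys ∘ (eS (0 : Fin (t + 1))).symm = (0 : Idx (t + 1) k → F) ∘ (eS (0 : Fin (t + 1))).symm from hR ▸ h0)
      refine pv_ne_zero (fun l => ?_) this
      rw [hys]
      by_cases hl : l = 0
      · subst hl; simpa using he
      · simpa [hl] using he'0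
    have h1' := happ z
    rw [← qHom_mulVec, ← hgw, Units.val_one, one_mulVec, sub_self, eq_comm, sub_eq_zero] at h1'
    -- the two centres are independent
    have hUmem : pv xs ∈ Submodule.span F ({pv ys} : Set (Idx (t + 1) k → F)) := by
      refine Submodule.mem_span_singleton.mpr ⟨QuadraticMap.polar (QS Q 0) z U / QuadraticMap.polar (QS Q 0) z R, ?_⟩
      refine (eS (0 : Fin (t + 1))).symm.surjective.injective_comp_right ?_
      simp only
      change (_ : F) • (pv ys ∘ (eS 0).symm) = pv xs ∘ (eS 0).symm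
      rw [← hR, ← hU, div_eq_inv_mul, mul_smul, h1', inv_smul_smul₀ hz]
    obtain ⟨c, hc⟩ := Submodule.mem_span_singleton.mp hUmem
    obtain ⟨l, hl⟩ : ∃ l : Fin (t + 1), l ≠ 0 := ⟨⟨1, by omega⟩, fun h => by simpa using congrArg Fin.val h⟩
    have h2 := mem_span_of_pv_eq (xs := ys) (ys := xs) (l := c) (fun m => by
      rw [hys]
      by_cases hm : m = 0
      · subst hm; simpa using he
      · simpa [hm] using he'0) (fun m => by rw [hxs]; exact he) hc.symm l
    rw [hys, hxs, Function.update_of_ne hl] at h2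
    obtain ⟨d, hd⟩ := Submodule.mem_span_singleton.mp h2
    refine he' ?_
    simp only at hd
    rw [← hd, hf.bilinear.smul_left, hf.alternating, mul_zero]
  · have hsq : ∀ v, w.1 (w.1 v - v) - (w.1 v - v) = 0 := fun v => by
      rw [happ (w.1 v - v), happ v]
      simp only [QuadraticMap.polar_sub_left, QuadraticMap.polar_smul_left, hpol, hUR, hUU U hQU, hUU R hQR,
        smul_zero, sub_zero, zero_smul]
    refine (Matrix.reindexAlgEquiv F F (eS (0 : Fin (t + 1)))).injective ?_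
    rw [map_mul, map_sub, map_one, map_zero, show Matrix.reindexAlgEquiv F F (eS (0 : Fin (t + 1))) g.val =
      (GS 0 g).val from rfl, hgw]
    refine Matrix.ext_iff_mulVec.2 fun v => ?_
    rw [← mulVec_mulVec, sub_mulVec, one_mulVec, sub_mulVec, one_mulVec, qHom_mulVec, qHom_mulVec, hsq, zero_mulVec]
  · rw [← finrank_mv_glReindex (eS (0 : Fin (t + 1))) g]
    change Module.finrank F (mv (GS 0 g)) ≤ 2
    rw [hgw]
    refine le_trans (Submodule.finrank_mono (show mv (qHom (QS Q 0) w) ≤ Submodule.span F {R, U} from ?_)) ?_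
    · intro v hv
      obtain ⟨y, rfl⟩ := mem_mv.mp hv
      rw [qHom_mulVec, happ]
      exact Submodule.sub_mem _ (Submodule.smul_mem _ _ (Submodule.subset_span (by simp)))
        (Submodule.smul_mem _ _ (Submodule.subset_span (by simp)))
    · refine (finrank_span_le_card ({R, U} : Set (Fin k × Fin (k ^ t) → F))).trans ?_
      rw [Set.toFinset_insert, Set.toFinset_singleton]
      exact Finset.card_le_two

/-- The statement in given coordinates, from the dichotomy in tensor coordinates. -/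
theorem isMaximalIn_of_dich {n : ℕ} (Q₀ : (Fin n → F) → F) (hQ : Cfsg.Geo.IsNondegenerateQuadraticForm Q₀)
    (e : Fin n ≃ (Fin (t + 1) → Fin k)) (P : GL (Fin n) F) (hf : Cfsg.Geo.IsSymplecticForm f)
    (hT : Cfsg.Geo.IsTensorPowerFormStructure id (QuadraticMap.polar Q₀) f e P)
    (hpure : ∀ xs : Fin (t + 1) → Fin k → F,
      Q₀ (P.val *ᵥ ((fun a : Fin (t + 1) → Fin k => ∏ i, xs i (a i)) ∘ e)) = 0)
    (hdich : ∀ Q : QuadraticForm F (Idx (t + 1) k → F), PForm f Q →
      (∃ g ∈ Cfsg.Geo.omegaGL ⇑Q, ¬ IsTW g) ∧ ∀ M : Subgroup (GL (Idx (t + 1) k) F), M ≤ Cfsg.Geo.omegaGL ⇑Q →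
        (∀ g ∈ Cfsg.Geo.omegaGL ⇑Q, IsTW g → g ∈ M) → (∀ g ∈ M, IsTW g) ∨ Cfsg.Geo.omegaGL ⇑Q ≤ M) :
    Cfsg.Geo.IsMaximalIn (Cfsg.Geo.omegaGL Q₀)
      (Cfsg.Geo.tensorWreathSubgroup k (t + 1) e P ⊓ Cfsg.Geo.omegaGL Q₀) := by
  obtain ⟨q, rfl, -⟩ := exists_quadraticForm hQ
  obtain ⟨c, hc, hpol⟩ := hT
  obtain ⟨L, hL⟩ : ∃ L : (Idx (t + 1) k → F) →ₗ[F] (Fin n → F), ∀ x, L x = P.val *ᵥ (x ∘ e) :=
    ⟨(Matrix.mulVecLin P.val).comp (LinearMap.funLeft F F e), fun x => rfl⟩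
  obtain ⟨Q, hQd⟩ : ∃ Q : QuadraticForm F (Idx (t + 1) k → F), Q = c⁻¹ • q.comp L := ⟨_, rfl⟩
  have hQv : ∀ x, Q x = c⁻¹ * q (P.val *ᵥ (x ∘ e)) := fun x => by
    rw [hQd, QuadraticMap.smul_apply, QuadraticMap.comp_apply, hL, smul_eq_mul]
  have hform : ∀ x y, QuadraticMap.polar q (L x) (L y) = c * pForm f x y := fun x y => by
    rw [hL, hL, hpol, pForm, pG]
    congr 1
    simp only [dotProduct, mulVec, Finset.sum_mul]
    refine Finset.sum_congr rfl fun a _ => Finset.sum_congr rfl fun b _ => ?_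
    simp only [tmat, id_eq]
    ring
  have PQ : PForm f Q := ⟨fun xs ys => by
      rw [← pForm_pv hf, show QuadraticMap.polar Q (pv xs) (pv ys) =
        c⁻¹ * QuadraticMap.polar q (L (pv xs)) (L (pv ys)) by
          simp only [QuadraticMap.polar, hQv, ← hL, map_add]; ring, hform, inv_mul_cancel_left₀ hc],
    fun xs => by rw [hQv]; exact mul_eq_zero_of_right _ (hpure xs)⟩
  obtain ⟨E, hE⟩ : ∃ E : GL (Idx (t + 1) k) F ≃* GL (Fin n) F,
      E = (Cfsg.Geo.glReindex e.symm).trans (MulAut.conj P) := ⟨_, rfl⟩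
  have hact : ∀ (g : GL (Idx (t + 1) k) F) x, (E g).val *ᵥ L x = L (g.val *ᵥ x) := by
    intro g x
    rw [hL, hL, hE]
    change (P.val * Matrix.reindexAlgEquiv F F e.symm g.val * (P⁻¹).val) *ᵥ (P.val *ᵥ (x ∘ e)) = _
    rw [← Matrix.mulVec_mulVec, Matrix.mulVec_mulVec (x ∘ e), Units.inv_mul, Matrix.one_mulVec,
      ← Matrix.mulVec_mulVec, Matrix.reindexAlgEquiv_apply, Matrix.reindex_apply, Equiv.symm_symm,
      Matrix.submatrix_mulVec_equiv]
    simp only [Function.comp_assoc, Equiv.self_comp_symm, Function.comp_id]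
  have hiso : (isometryGroup F ⇑Q).map E.toMonoidHom = isometryGroup F ⇑q := by
    ext g
    obtain ⟨g₀, rfl⟩ := E.surjective g
    constructor
    · rintro ⟨y, hy, he⟩
      obtain rfl := E.injective he
      intro v v'
      obtain ⟨x, rfl⟩ : ∃ x, v = L x := ⟨(P⁻¹.val *ᵥ v) ∘ e.symm, by
        rw [hL, Function.comp_assoc, e.symm_comp_self, Function.comp_id, Transvec.mulVec_inv_cancel]⟩
      change q ((E y).val *ᵥ L x) = q (L x)
      rw [hact, hL, hL]
      have := hy x x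
      change Q (y.val *ᵥ x) = Q x at this
      rw [hQv, hQv] at this
      exact mul_left_cancel₀ (inv_ne_zero hc) this
    · intro h
      refine ⟨g₀, fun x x' => ?_, rfl⟩
      have h1 := h (L x) (L x)
      change q ((E g₀).val *ᵥ L x) = q (L x) at h1
      rw [hact, hL, hL] at h1
      change Q (g₀.val *ᵥ x) = Q x
      rw [hQv, hQv, h1]
  have hom : (Cfsg.Geo.omegaGL ⇑Q).map E.toMonoidHom = Cfsg.Geo.omegaGL ⇑q := by
    rw [OrthSubfield.omegaGL_eq_commutator, OrthSubfield.omegaGL_eq_commutator, Subgroup.map_commutator, hiso]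
  have htw : ∀ g, E g ∈ Cfsg.Geo.tensorWreathSubgroup k (t + 1) e P ↔ IsTW g := fun g => by
    rw [← mem_standard_iff, Cfsg.Geo.tensorWreathSubgroup, Subgroup.map_map, hE]
    exact Subgroup.mem_map_iff_mem (f := ((Cfsg.Geo.glReindex e.symm).trans (MulAut.conj P)).toMonoidHom)
      ((Cfsg.Geo.glReindex e.symm).trans (MulAut.conj P)).injective
  have hmem : ∀ g, E g ∈ Cfsg.Geo.omegaGL ⇑q ↔ g ∈ Cfsg.Geo.omegaGL ⇑Q := fun g => by
    rw [← hom]
    exact Subgroup.mem_map_iff_mem E.injective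
  obtain ⟨⟨g₁, hg₁, hn₁⟩, hall⟩ := hdich Q PQ
  refine ⟨lt_of_le_of_ne inf_le_right fun heq => hn₁ ((htw g₁).mp (heq.ge ((hmem g₁).mpr hg₁)).1),
    fun M hHM hMK => ?_⟩
  rcases hall (M.comap E.toMonoidHom) (fun g hg => (hmem g).mp (hMK hg))
      (fun g hg ht => hHM ⟨(htw g).mpr ht, (hmem g).mpr hg⟩) with h | h
  · left
    refine le_antisymm (fun g hg => ?_) hHM
    obtain ⟨g₀, rfl⟩ := E.surjective g
    exact ⟨(htw g₀).mpr (h g₀ hg), hMK hg⟩
  · right
    refine le_antisymm hMK fun g hg => ?_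
    obtain ⟨g₀, rfl⟩ := E.surjective g
    exact h ((hmem g₀).mp hg)

end CfsgLib.Classical22.TPow
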