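/-
Maximality of the stabiliser of a tensor power in Omega, characteristic two.
-/
import Cfsg.Agent.Lib.Classical22.TensorPower.EvenInvol
import Cfsg.Agent.Lib.Classical22.TensorPower.EvenAll
import Cfsg.Agent.Lib.Classical22.TensorPower.PlusBase
import Cfsg.Agent.Lib.Classical22.TensorPower.Plus

set_option autoImplicit false
set_option linter.unusedSectionVars false
set_option linter.unusedSimpArgs false

namespace CfsgLib.Classical22.TPow

open Matrix Kronecker Cfsg CfsgLib.Transvec CfsgLib.Classical CfsgLib.Classical22.TensorMax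
  CfsgLib.Classical22.TensorMax.SympO
open CfsgLib.Classical22.TensorMax.SpO (kr kr_apply isKron_kr)
open CfsgLib.Classical22.TWMax
open scoped MatrixGroups

variable {F : Type*} [Field F] [Fintype F] {t k : ℕ} {f : (Fin k → F) → (Fin k → F) → F}

/-- Without non-scalar elements T(e,w,G) the group lies in the tensor wreath group. -/
theorem pDich2 (hf : Cfsg.Geo.IsSymplecticForm f) (hc : (2 : F) = 0) (hk : 6 ≤ k) (t : ℕ) : PDich2 hf t := by
  induction t with
  | zero => exact fun M _ => Or.inr fun g _ => isTW_one g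
  | succ T ih =>
    intro M C
    exact or_iff_not_imp_left.mpr fun hb g hg => EHyp.tw_of_even ⟨hf, hc, hk, C, hb, ih⟩ hg

/-- The tensor power of symplectic forms is symplectic in characteristic two. -/
lemma isSymplectic_pForm2 (hf : Cfsg.Geo.IsSymplecticForm f) (hc : (2 : F) = 0) (ht : 1 ≤ t) :
    Cfsg.Geo.IsSymplecticForm (pForm (t := t) f) := by
  have h1 : (-1 : F) ^ t = 1 := by rw [show (-1 : F) = 1 by linear_combination -hc, one_pow]
  have hsymm : ∀ x y : Idx t k → F, pForm f x y = pForm f y x := fun x y => by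
    rw [pForm, pForm, dotProduct_comm, dotProduct_mulVec, ← mulVec_transpose, pG_transpose hf, h1, one_smul]
  have hb : Cfsg.Geo.IsBilinearForm (pForm (t := t) f) := ⟨fun x y v => dotProduct_add _ _ _,
    fun c x v => by simp [pForm, dotProduct_smul], fun v x y => by simp [pForm, mulVec_add, add_dotProduct],
    fun c v x => by simp [pForm, mulVec_smul]⟩
  have hself : ∀ v : Idx t k → F, pForm f v v = 0 := fun v => by
    classical
    rw [pi_eq_sum_univ' v]
    refine Finset.sum_induction _ (fun w => pForm f w w = 0) (fun a b ha hb' => ?_) (by simp [pForm]) fun x _ => ?_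
    · rw [hb.add_left, hb.add_right, hb.add_right, ha, hb', hsymm b a]
      linear_combination (pForm f a b) * hc
    · rw [hb.smul_left, hb.smul_right, single_eq_pv, pForm_pv hf,
        Finset.prod_eq_zero (Finset.mem_univ (⟨0, by omega⟩ : Fin t)) (hf.alternating _), mul_zero, mul_zero]
  refine ⟨hb, fun x y => ?_, hself, fun v hv => ?_⟩
  · rw [hsymm]; linear_combination (pForm f y x) * hc
  · have hex : ∃ w, pForm f v w ≠ 0 := by
      by_contra hall
      push Not at hall
      refine hv (funext fun i => ?_)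
      have := hall ((pG t f)⁻¹ *ᵥ Pi.single i 1)
      rw [pForm, mulVec_mulVec, Matrix.mul_nonsing_inv _ (pG_unit hf), one_mulVec, single_one_dotProduct] at this
      exact this
    obtain ⟨w, hw⟩ := hex
    exact ⟨⟨w, by rwa [hsymm]⟩, ⟨w, hw⟩⟩

/-- The group of a reindexed quadratic form. -/
lemma omega_reindex {ι κ : Type} [Fintype ι] [DecidableEq ι] [Fintype κ] [DecidableEq κ] (e : ι ≃ κ)
    (Q : QuadraticForm F (ι → F)) :
    (Cfsg.Geo.omegaGL ⇑Q).map (Cfsg.Geo.glReindex e).toMonoidHom =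
      Cfsg.Geo.omegaGL ⇑(Q.comp (LinearMap.funLeft F F e)) := by
  have hiso : (Cfsg.isometryGroup F ⇑Q).map (Cfsg.Geo.glReindex e).toMonoidHom =
      Cfsg.isometryGroup F ⇑(Q.comp (LinearMap.funLeft F F e)) := by
    ext g
    obtain ⟨g₀, rfl⟩ := (Cfsg.Geo.glReindex e).surjective g
    have hact : ∀ x : κ → F, (Cfsg.Geo.glReindex e g₀).val *ᵥ x = (g₀.val *ᵥ (x ∘ e)) ∘ e.symm := fun x => by
      conv_lhs => rw [show x = (x ∘ e) ∘ e.symm by rw [Function.comp_assoc, Equiv.self_comp_symm, Function.comp_id]]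
      rw [glReindex_mulVec]
    constructor
    · rintro ⟨y, hy, he⟩
      obtain rfl := (Cfsg.Geo.glReindex e).injective he
      intro x x'
      change Q (((Cfsg.Geo.glReindex e y).val *ᵥ x) ∘ e) = Q (x ∘ e)
      rw [hact, Function.comp_assoc, Equiv.symm_comp_self, Function.comp_id]
      exact hy _ (x' ∘ e)
    · intro h
      refine ⟨g₀, fun x x' => ?_, rfl⟩
      have h1 : Q (((Cfsg.Geo.glReindex e g₀).val *ᵥ (x ∘ e.symm)) ∘ e) = Q ((x ∘ e.symm) ∘ e) :=
        h (x ∘ e.symm) (x' ∘ e.symm)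
      rw [hact] at h1
      simp only [Function.comp_assoc, Equiv.symm_comp_self, Function.comp_id] at h1
      exact h1
  rw [OrthSubfield.omegaGL_eq_commutator, OrthSubfield.omegaGL_eq_commutator, Subgroup.map_commutator, hiso]

/-- The converse of the slot-first description. -/
lemma slotG_eq_kr {j : Fin (t + 1)} {g : GL (Idx (t + 1) k) F} {A : GL (Fin k) F} {B : GL (Fin (k ^ t)) F}
    (h : GS j g = kr A B) : slotG j g = kr B A := by
  refine Units.ext (Matrix.ext fun p q => ?_)
  have e := congrFun (congrFun (congrArg (fun X : GL (Fin k × Fin (k ^ t)) F => X.val) h) (p.2, p.1)) (q.2, q.1)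
  change g.val _ _ = A.val p.2 q.2 * B.val p.1 q.1 at e
  change g.val _ _ = B.val p.1 q.1 * A.val p.2 q.2
  rw [mul_comm, ← e]
  rfl

/-- A slot swap fixing `s`, in the coordinates of `s`. -/
lemma slotG_swap (s : Fin (t + 1)) (l l' : Fin t) :
    slotG s (permGL (F := F) (m := k) (Equiv.swap (s.succAbove l) (s.succAbove l'))) =
      kr (flatG t k (permGL (Equiv.swap l l'))) (1 : GL (Fin k) F) := by
  refine slotG_eq_kr (GS_of_act s fun x zs => ?_)
  rw [permGL_apply, Units.val_one, one_mulVec, flatG_apply, permGL_apply, ← fv, eS_vec]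
  congr 1
  funext i
  rcases Fin.eq_self_or_eq_succAbove s i with rfl | ⟨a, rfl⟩
  · simp [Equiv.symm_swap, Equiv.swap_apply_of_ne_of_ne]
  · simp only [Equiv.symm_swap, Fin.insertNth_apply_succAbove]
    rw [Fin.succAbove_right_injective.swap_apply, Fin.insertNth_apply_succAbove]

variable {Q : QuadraticForm F (Idx (t + 1) k → F)} {M : Subgroup (GL (Idx (t + 1) k) F)}

/-- All blocks give Omega. -/
theorem omega_le_of_blocks (P : PForm f Q) (hf : Cfsg.Geo.IsSymplecticForm f) (hc : (2 : F) = 0) (hk : 4 ≤ k)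
    (ht : 1 ≤ t) (hM : M ≤ Cfsg.Geo.omegaGL ⇑Q) (s : Fin (t + 1))
    (hall : ∀ G, Duo.HasAll (D := pDuo hf t) (M.map (slotG s).toMonoidHom) G) :
    Cfsg.Geo.omegaGL ⇑Q ≤ M := by
  classical
  have hg := isSymplectic_pForm2 (t := t) hf hc ht
  have hkt : k ≤ k ^ t := Nat.le_self_pow (by omega) k
  obtain ⟨QR, hQR⟩ : ∃ QR : QuadraticForm F (Fin (k ^ t) × Fin k → F),
      QR = Q.comp (LinearMap.funLeft F F (slotE s)) := ⟨_, rfl⟩
  have T' := P.tens hf hg s
  have hsw : ∀ u x, QR (pt u x) = QS Q s (pt x u) := fun u x => by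
    rw [hQR, QS, QuadraticMap.comp_apply, QuadraticMap.comp_apply]
    congr 1
    funext a
    simp [LinearMap.funLeft, pt, eS, mul_comm]
  have hswf : ∀ u x v y, QR (pt u x + pt v y) = QS Q s (pt x u + pt y v) := fun u x v y => by
    rw [hQR, QS, QuadraticMap.comp_apply, QuadraticMap.comp_apply]
    congr 1
    funext a
    simp [LinearMap.funLeft, pt, eS, mul_comm]
  have T : Tens QR (fForm (t := t) f) f := by
    refine ⟨isSymplectic_fForm hg, hf, fun u x v y => ?_, fun u x => by rw [hsw]; exact T'.pure x u⟩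
    rw [mul_comm, ← T'.polar_pt]
    simp only [QuadraticMap.polar, hswf, hsw]
  have hΩmap : (Cfsg.Geo.omegaGL ⇑Q).map (slotG s).toMonoidHom = Cfsg.Geo.omegaGL ⇑QR := by
    rw [hQR]; exact omega_reindex (slotE s) Q
  have hcard : 5 ≤ Fintype.card (Fin (k ^ t) × Fin k) := by
    rw [Fintype.card_prod, Fintype.card_fin, Fintype.card_fin]; nlinarith
  have heich : Cfsg.Geo.omegaGL ⇑QR = (eichGroup QR).map (qHom QR) := omegaGL_eq_map _ (polarNondeg T) hcard
  obtain ⟨M', hM'⟩ : ∃ M' : Subgroup (qAut QR), ∀ e, e ∈ M' ↔ qHom QR e ∈ M.map (slotG s).toMonoidHom :=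
    ⟨(M.map (slotG s).toMonoidHom).comap (qHom QR), fun e => Iff.rfl⟩
  have hform : ∀ x y : Fin (k ^ t) → F, fForm (t := t) f x y = x ⬝ᵥ ((pDuo hf t).GR *ᵥ y) := fun x y => by
    rw [fForm, pForm, show (pDuo hf t).GR = flatA t k (pG t f) from rfl, flatA, reindexAlgEquiv_apply, reindex_apply,
      submatrix_mulVec_equiv, Equiv.symm_symm, dotProduct_comm x]
    exact (comp_equiv_symm_dotProduct _ _ _).symm
  have hadj : ∀ G, adj (fForm (t := t) f) G = (pDuo hf t).adjR G := fun G =>
    adj_eq (isSymplectic_fForm hg) fun x y => by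
      rw [hform, hform, (pDuo hf t).adjR_dot hc ((pDuo hf t).adjR G), (pDuo hf t).adjR_adjR]
  have hle := le_of_all' (M := M') T (by omega) hk fun e w hp G => by
    obtain ⟨h, hh, hhv⟩ := hall G e w hp
    have hhΩ : h ∈ (eichGroup QR).map (qHom QR) := by
      rw [← heich, ← hΩmap]
      exact Subgroup.map_mono hM hh
    obtain ⟨g, -, hg'⟩ := hhΩ
    refine ⟨g, (hM' g).mpr (by rw [hg']; exact hh), fun v => ?_⟩
    rw [← qHom_mulVec, hg', hhv, add_mulVec, one_mulVec, Duo.tm, add_mulVec, (pDuo hf t).outer_vec,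
      (pDuo hf t).outer_vec, hadj, ← add_assoc]
    rfl
  intro g hgΩ
  have h1 : slotG s g ∈ (Cfsg.Geo.omegaGL ⇑Q).map (slotG s).toMonoidHom := ⟨g, hgΩ, rfl⟩
  rw [hΩmap, heich] at h1
  obtain ⟨e, he, hee⟩ := h1
  obtain ⟨y, hy, hyg⟩ := (hM' e).mp (hle he)
  exact (slotG s).injective (hyg.trans hee) ▸ hy

/-- A group between the stabiliser and Omega is one of them. -/
theorem plus_dich_even (P : PForm f Q) (hf : Cfsg.Geo.IsSymplecticForm f) (hc : (2 : F) = 0) (hk : 6 ≤ k)
    (ht : 1 ≤ t) :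
    (∃ g ∈ Cfsg.Geo.omegaGL ⇑Q, ¬ IsTW g) ∧ ∀ M : Subgroup (GL (Idx (t + 1) k) F), M ≤ Cfsg.Geo.omegaGL ⇑Q →
      (∀ g ∈ Cfsg.Geo.omegaGL ⇑Q, IsTW g → g ∈ M) → (∀ g ∈ M, IsTW g) ∨ Cfsg.Geo.omegaGL ⇑Q ≤ M := by
  classical
  have hg := isSymplectic_pForm2 (t := t) hf hc ht
  have hkt : k ≤ k ^ t := Nat.le_self_pow (by omega) k
  have h5 : 5 ≤ k ^ (t + 1) := le_trans (by omega) (Nat.le_self_pow (by omega) k)
  refine ⟨?_, fun M hM hstab => ?_⟩
  · obtain ⟨g, hgΩ, hne, hsq, hd⟩ := exists_small P hf hg h5 ht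
    refine ⟨g, hgΩ, fun ⟨σ, gs, hd'⟩ => ?_⟩
    by_cases hσ : σ = 1
    · subst hσ
      obtain ⟨s, u, hu, he⟩ := pure_of_base (by omega) hd' hne (by omega)
      rw [he, finrank_slotW s hu] at hd
      omega
    · have := (perm_small (by omega) hd' hsq hσ (by omega)).2.1
      omega
  have C : PCtx f M := ⟨fun g hg' => piso_of_omega P hf (hM hg'), fun s u c =>
    hstab _ (ptr_mem_omega P hf hg h5 s u c) ⟨_, _, slotEl_data s _⟩⟩
  rcases pDich2 hf hc hk t M C with ⟨s, hbad⟩ | h
  · right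
    refine omega_le_of_blocks P hf hc (by omega) ht hM s
      (all_blocks hf hc (by omega) C s (fun l l' hll => ?_) hbad)
    have ht2 : 2 ≤ t := by
      by_contra h
      exact hll (Fin.ext (by omega))
    exact ⟨_, perm_mem P hf hg h5 ht2 hstab _, slotG_swap s l l'⟩
  · exact Or.inl h

end CfsgLib.Classical22.TPow
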