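/-
Two factors: a non-scalar shear gives all elements T(e,w,G).
-/
import Cfsg.Agent.Lib.Classical22.TensorPower.Plus

set_option autoImplicit false
set_option linter.unusedSectionVars false
set_option linter.unusedSimpArgs false

namespace CfsgLib.Classical22.TPow

open Matrix Kronecker CfsgLib.Transvec CfsgLib.Classical CfsgLib.Classical22.TensorMax
  CfsgLib.Classical22.TensorMax.SympO
open CfsgLib.Classical22.TensorMax.SpO (kr kr_apply isKron_kr)
open CfsgLib.Classical22.TWMax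
open scoped MatrixGroups

variable {F : Type*} [Field F] {k : ℕ} {f : (Fin k → F) → (Fin k → F) → F}

lemma outer_add_add (a b : Fin k → F) (hf : Cfsg.Geo.IsSymplecticForm f) :
    outer f (a + b) (a + b) = outer f a a + outer f b b + (outer f a b + outer f b a) :=
  Matrix.ext_iff_mulVec.2 fun x => by
    simp only [add_mulVec, outer_mulVec hf, hf.bilinear.add_right]
    module

/-- Every matrix is a sum of outer products. -/
lemma exists_sum_outer (hf : Cfsg.Geo.IsSymplecticForm f) (G : Matrix (Fin k) (Fin k) F) :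
    ∃ z : Fin k → Fin k → F, G = ∑ j, outer f (fun i => G i j) (z j) := by
  classical
  choose z hz using fun j : Fin k => exists_repr hf (Pi.single j (1 : F))
  exact ⟨z, Matrix.ext fun i l => by simp [Matrix.sum_apply, outer, hz, vecMulVec_apply, Pi.single_apply]⟩

variable [Fintype F] {Q : QuadraticForm F (Idx (1 + 1) k → F)} (P : PForm f Q) (hf : Cfsg.Geo.IsSymplecticForm f)
  {M : Subgroup (GL (Idx (1 + 1) k) F)}
include hf

/-- Both slots carry every alternating element, with any nilpotent at the other. -/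
theorem two_all (h2 : (2 : F) ≠ 0) (C : PCtx f M) (hns : NSShear f M) (s : Fin (1 + 1)) (Z : Matrix (Fin k) (Fin k) F)
    (hZ : ∃ a b, Z = hMat f a b) {r : Fin (1 + 1)} (hrs : r ≠ s) (v : Fin k → F) :
    ∃ h ∈ M, h.val = 1 + tmat (Function.update (fun _ => outer f v v) s Z) := by
  classical
  have hev : Even (1 + 1) := ⟨1, rfl⟩
  obtain ⟨G, i, l, hG, hpat, hi, hli, hl⟩ := exists_start hf C h2 hns
  have htwo : ∀ {p q : Fin (1 + 1)}, p ≠ q → ∀ m, m = p ∨ m = q := fun {p q} h m => by omega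
  have hne : ∀ {G : Fin (1 + 1) → Matrix (Fin k) (Fin k) F} {p q}, p ≠ q → G p ≠ 1 → G q ≠ 1 → ∀ m, G m ≠ 1 :=
    fun {G p q} h hp hq m => (htwo h m).elim (fun e => e ▸ hp) fun e => e ▸ hq
  have hPl : IsP f (G l) := ((hpat l).resolve_left hl).resolve_left fun h => by
    obtain ⟨m, hm⟩ := not_allN hf C h2 hev hG
    exact hm ((htwo hli m).elim (fun e => e ▸ h) fun e => e ▸ hi)
  obtain ⟨v₁, hv₁, hall₁⟩ := slot_all hf C h2 hev hG hpat (hne hli hl (not_one_of_isN hf hi)) hPl hi hli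
  obtain ⟨a, b, hab, hli', -⟩ := hPl
  obtain ⟨h', hh', he'⟩ := hall₁ (hMat f a b) (Or.inr ⟨a, b, rfl⟩)
  have hNl : IsN f (Function.update (fun m => outer f (v₁ m) (v₁ m)) i (hMat f a b) l) := by
    rw [Function.update_of_ne hli]; exact ⟨_, hv₁ l hli, rfl⟩
  have hPi : IsP f (Function.update (fun m => outer f (v₁ m) (v₁ m)) i (hMat f a b) i) := by
    rw [Function.update_self]; exact ⟨a, b, hab, hli', rfl⟩
  obtain ⟨v₂, hv₂, hall₂⟩ := slot_all hf C h2 hev ⟨1, one_ne_zero, h', hh', by rw [one_smul]; exact he'⟩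
    (fun m => (htwo hli m).elim (fun e => by rw [e]; exact Or.inr (Or.inl hNl)) fun e => by rw [e]; exact Or.inr (Or.inr hPi))
    (hne hli (not_one_of_isN hf hNl) (not_one_of_isP hf hPi)) hPi hNl hli.symm
  obtain ⟨a₀, b₀, rfl⟩ := hZ
  obtain ⟨v₀, hv₀, hv⟩ : ∃ v₀ : Fin k → F, v₀ ≠ 0 ∧
      ∃ h ∈ M, h.val = 1 + tmat (Function.update (fun _ => outer f v₀ v₀) s (hMat f a₀ b₀)) := by
    rcases htwo hli s with rfl | rfl
    · obtain ⟨h, hh, he⟩ := hall₂ _ (Or.inr ⟨a₀, b₀, rfl⟩)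
      refine ⟨v₂ i, hv₂ i hli.symm, h, hh, ?_⟩
      rw [he]; congr 2; funext m
      rcases htwo hli m with rfl | rfl <;> simp [hli.symm]
    · obtain ⟨h, hh, he⟩ := hall₁ _ (Or.inr ⟨a₀, b₀, rfl⟩)
      refine ⟨v₁ l, hv₁ l hli, h, hh, ?_⟩
      rw [he]; congr 2; funext m
      rcases htwo hli m with rfl | rfl <;> simp [hli]
  by_cases hv0 : v = 0
  · refine ⟨1, M.one_mem, ?_⟩
    rw [tmat_eq_zero r (by
      rw [Function.update_of_ne hrs, hv0]
      exact Matrix.ext_iff_mulVec.2 fun x => by rw [outer_mulVec hf, smul_zero, zero_mulVec]), add_zero, Units.val_one]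
  obtain ⟨τ, hτ, hτi, hτM⟩ := exists_move hf C hv₀ hv0
  obtain ⟨h, hh, he⟩ := hv
  obtain ⟨gs, hgs⟩ : ∃ gs, gs = Function.update (fun _ : Fin (1 + 1) => (1 : GL (Fin k) F)) r τ := ⟨_, rfl⟩
  have hm : tGL gs ∈ M := tGL_mem fun m => by
    rw [hgs]
    by_cases hm : m = r
    · subst hm; simpa using hτM m
    · simpa [hm] using slotEl_one_mem hf C m
  refine ⟨tGL gs * h * (tGL gs)⁻¹, mul_mem (mul_mem hm hh) (inv_mem hm), ?_⟩
  rw [Units.val_mul, Units.val_mul, he, mul_add, mul_one, add_mul, Units.mul_inv,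
    show (tGL gs)⁻¹.val = tmat fun m => (gs m)⁻¹.val from rfl,
    show (tGL gs).val = tmat fun m => (gs m).val from rfl, tmat_mul, tmat_mul]
  congr 2
  funext m
  rcases htwo hrs m with rfl | rfl
  · simp only [hgs, Function.update_self, Function.update_of_ne hrs, conj_outer_gen hf hτi, hτ]
  · simp [hgs, hrs.symm]

lemma add_el {X Y : Matrix (Idx (1 + 1) k) (Idx (1 + 1) k) F} (hX : ∃ h ∈ M, h.val = 1 + X)
    (hY : ∃ h ∈ M, h.val = 1 + Y) (h0 : X * Y = 0) : ∃ h ∈ M, h.val = 1 + (X + Y) := by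
  obtain ⟨g, hg, hgX⟩ := hX
  obtain ⟨g', hg', hgY⟩ := hY
  exact ⟨g * g', mul_mem hg hg', by
    rw [Units.val_mul, hgX, hgY]; simp only [mul_add, add_mul, mul_one, one_mul, h0]; abel⟩

include P

/-- Two factors: a non-scalar shear gives Omega. -/
theorem omega_le_of_two (hg : Cfsg.Geo.IsSymplecticForm (pForm (t := 1) f)) (h5 : 5 ≤ k ^ (1 + 1))
    (h2 : (2 : F) ≠ 0) (hk : 4 ≤ k) (hM : M ≤ Cfsg.Geo.omegaGL ⇑Q) (C : PCtx f M) (hns : NSShear f M) :
    Cfsg.Geo.omegaGL ⇑Q ≤ M := by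
  classical
  obtain ⟨M', hM'⟩ : ∃ M' : Subgroup (qAut (QS Q 0)), ∀ e, e ∈ M' ↔
      qHom (QS Q 0) e ∈ M.map (GS 0).toMonoidHom :=
    ⟨(M.map (GS 0).toMonoidHom).comap (qHom (QS Q 0)), fun e => Iff.rfl⟩
  have T := P.tens hf hg 0
  have hfv : ∀ e : Fin (k ^ 1) → F, ∃ e₀ : Fin k → F, e = fv fun _ : Fin 1 => e₀ := fun e =>
    ⟨fun a => e (flatE 1 k fun _ => a), funext fun b => by
      rw [fv, Function.comp_apply, pv, Fin.prod_univ_one]
      congr 1
      rw [show (fun _ : Fin 1 => (flatE 1 k).symm b 0) = (flatE 1 k).symm b from funext fun i => by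
        rw [Subsingleton.elim i 0]]
      exact ((flatE 1 k).apply_symm_apply b).symm⟩
  have hpair : ∀ e₀ w₀ : Fin k → F, fForm (t := 1) f (fv fun _ => e₀) (fv fun _ => w₀) = f e₀ w₀ := fun e₀ w₀ => by
    rw [fForm, fv_comp, fv_comp, pForm_pv hf, Fin.prod_univ_one]
  -- T-elements from matrices
  have hT : ∀ (e₀ w₀ : Fin k → F) (G : Matrix (Fin k) (Fin k) F), (∃ h ∈ M, h.val = 1 +
      (tmat (![G, outer f w₀ e₀]) + tmat (![adj f G, outer f e₀ w₀]))) →
      HasT M' f (fForm (t := 1) f) (fv fun _ => e₀) (fv fun _ => w₀) G := by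
    rintro e₀ w₀ G ⟨h, hh, he⟩
    have hΩ : GS 0 h ∈ Cfsg.Geo.omegaGL ⇑(QS Q 0) := omega_map Q 0 ▸ ⟨h, hM hh, rfl⟩
    rw [omega_eich P hf hg h5] at hΩ
    obtain ⟨g, -, hg'⟩ := hΩ
    refine ⟨g, (hM' g).mpr ⟨h, hh, hg'.symm⟩, ?_⟩
    obtain ⟨R, hR⟩ : ∃ R : (Fin k × Fin (k ^ 1) → F) →ₗ[F] (Fin k × Fin (k ^ 1) → F),
        ∀ v, R v = v + pt (G *ᵥ s2 (fForm (t := 1) f) (fv fun _ => e₀) v) (fv fun _ => w₀) +
          pt (adj f G *ᵥ s2 (fForm (t := 1) f) (fv fun _ => w₀) v) (fv fun _ => e₀) :=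
      ⟨LinearMap.id + (ptL (fv fun _ => w₀)).comp ((Matrix.mulVecLin G).comp (s2 (fForm (t := 1) f) (fv fun _ => e₀))) +
        (ptL (fv fun _ => e₀)).comp ((Matrix.mulVecLin (adj f G)).comp (s2 (fForm (t := 1) f) (fv fun _ => w₀))),
        fun v => rfl⟩
    intro v
    rw [← hR, ← qHom_mulVec, hg', ← LinearMap.toMatrix'_mulVec R]
    refine congrArg (· *ᵥ v) (TPow.mat_ext_pt fun x z => ?_)
    obtain ⟨z₀, rfl⟩ := hfv z
    rw [GS_act, LinearMap.toMatrix'_mulVec, hR, he]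
    simp only [add_mulVec, one_mulVec, tmat_mulVec, s2_pt T, hpair, pt_smul_left, mulVec_smul]
    funext q
    obtain ⟨a, b⟩ := q
    simp [eS, slotE, pv, pt, fv, outer_mulVec hf, Fin.prod_univ_two, Fin.prod_univ_one, Fin.insertNth_zero',
      mul_comm, mul_assoc, mul_left_comm]
    ring
  have hN : ∀ (Z : Matrix (Fin k) (Fin k) F), (∃ a b, Z = hMat f a b) → ∀ v,
      ∃ h ∈ M, h.val = 1 + tmat (![Z, outer f v v]) := fun Z hZ v => by
    obtain ⟨h, hh, he⟩ := two_all hf h2 C hns 0 Z hZ (r := 1) (by decide) v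
    refine ⟨h, hh, ?_⟩
    rw [he]; congr 2; funext m; fin_cases m <;> simp
  have hN' : ∀ (Z : Matrix (Fin k) (Fin k) F), (∃ a b, Z = hMat f a b) → ∀ v,
      ∃ h ∈ M, h.val = 1 + tmat (![outer f v v, Z]) := fun Z hZ v => by
    obtain ⟨h, hh, he⟩ := two_all hf h2 C hns 1 Z hZ (r := 0) (by decide) v
    refine ⟨h, hh, ?_⟩
    rw [he]; congr 2; funext m; fin_cases m <;> simp
  have htm : ∀ (A B A' B' : Matrix (Fin k) (Fin k) F), tmat ![A, B] * tmat ![A', B'] = tmat ![A * A', B * B'] :=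
    fun A B A' B' => by
      rw [tmat_mul]; congr 1; funext m; fin_cases m <;> simp
  have htadd : ∀ (A B B' : Matrix (Fin k) (Fin k) F), tmat ![A, B] + tmat ![A, B'] = tmat ![A, B + B'] :=
    fun A B B' => by
      ext x y; simp [tmat, Fin.prod_univ_two, mul_add]
  have htneg : ∀ (A B : Matrix (Fin k) (Fin k) F), tmat ![A, -B] = -tmat ![A, B] := fun A B => by
    ext x y; simp [tmat, Fin.prod_univ_two]
  have hneg : ∀ (A B : Matrix (Fin k) (Fin k) F), tmat ![-A, B] = -tmat ![A, B] := fun A B => by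
    ext x y; simp [tmat, Fin.prod_univ_two]
  have hHsym : ∀ (e₀ w₀ : Fin k → F), f e₀ w₀ = 0 → ∀ a b,
      HasT M' f (fForm (t := 1) f) (fv fun _ => e₀) (fv fun _ => w₀) (hMat f a b) := by
    intro e₀ w₀ hew a b
    refine hT _ _ _ ?_
    have hwe : f w₀ e₀ = 0 := by rw [hf.skew, hew, neg_zero]
    have hz : hMat f b a = -hMat f a b := (neg_sub _ _).symm
    rw [show adj f (hMat f a b) = hMat f a b by
      rw [show hMat f a b = outer f a b + adj f (outer f a b) by rw [adj_outer hf, hMat, sub_eq_add_neg],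
        adj_add hf, adj_adj hf, add_comm],
      htadd]
    have p1 : ∀ (Z Z' : Matrix (Fin k) (Fin k) F) x y, f y x = 0 →
        tmat ![Z', outer f x x] * tmat ![Z, outer f y y] = 0 := fun Z Z' x y h => by
      rw [htm, outer_sq hf, h, zero_smul]
      exact tmat_eq_zero 1 rfl
    have e1 : tmat ![hMat f a b, outer f w₀ e₀ + outer f e₀ w₀] = tmat ![hMat f a b, outer f (e₀ + w₀) (e₀ + w₀)] +
        (tmat ![hMat f b a, outer f e₀ e₀] + tmat ![hMat f b a, outer f w₀ w₀]) := by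
      rw [hz, hneg, hneg, ← htneg, ← htneg, htadd, htadd, outer_add_add e₀ w₀ hf]
      congr 2
      congr 1
      abel_nf
    rw [e1]
    refine add_el hf (hN _ ⟨a, b, rfl⟩ _) (add_el hf (hN _ ⟨b, a, rfl⟩ _) (hN _ ⟨b, a, rfl⟩ _) ?_) ?_
    · rw [p1 _ _ _ _ hwe]
    · rw [mul_add, p1 _ _ _ _ (by rw [hf.bilinear.add_right, hf.alternating, hew, add_zero]),
        p1 _ _ _ _ (by rw [hf.bilinear.add_right, hwe, hf.alternating, add_zero]), add_zero]
  have hNsym : ∀ (e₀ w₀ : Fin k → F), f e₀ w₀ = 0 → ∀ a,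
      HasT M' f (fForm (t := 1) f) (fv fun _ => e₀) (fv fun _ => w₀) (outer f a a) := by
    intro e₀ w₀ hew a
    refine hT _ _ _ ?_
    rw [adj_outer hf, hneg, ← htneg, htadd, ← sub_eq_add_neg]
    exact hN' _ ⟨w₀, e₀, rfl⟩ a
  have hall : ∀ e w, Pair (fForm (t := 1) f) e w → ∀ G, HasT M' f (fForm (t := 1) f) e w G := by
    intro e w hp G
    obtain ⟨e₀, rfl⟩ := hfv e
    obtain ⟨w₀, rfl⟩ := hfv w
    have hew : f e₀ w₀ = 0 := by rw [← hpair]; exact hp.2.2
    have hadd : ∀ {G K}, HasT M' f (fForm (t := 1) f) (fv fun _ => e₀) (fv fun _ => w₀) G →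
        HasT M' f (fForm (t := 1) f) (fv fun _ => e₀) (fv fun _ => w₀) K →
        HasT M' f (fForm (t := 1) f) (fv fun _ => e₀) (fv fun _ => w₀) (G + K) :=
      fun hG hK => hasT_add' T hp.2.2 hG hK
    have hout : ∀ a b, HasT M' f (fForm (t := 1) f) (fv fun _ => e₀) (fv fun _ => w₀) (outer f a b) := fun a b => by
      obtain ⟨a', ha'⟩ : ∃ a', a' = (2 : F)⁻¹ • a := ⟨_, rfl⟩
      have hdec : outer f a b = outer f (a' + b) (a' + b) + outer f ((-1 : F) • a') a' + outer f ((-1 : F) • b) b +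
          hMat f a' b := Matrix.ext_iff_mulVec.2 fun x => by
        rw [show a = (2 : F) • a' by rw [ha', smul_smul, mul_inv_cancel₀ h2, one_smul]]
        simp only [add_mulVec, hMat_mulVec hf, outer_mulVec hf, hf.bilinear.add_right, smul_smul]
        module
      have hng : ∀ x : Fin k → F, HasT M' f (fForm (t := 1) f) (fv fun _ => e₀) (fv fun _ => w₀)
          (outer f ((-1 : F) • x) x) := fun x => by
        have hz : f ((-1 : F) • e₀) w₀ = 0 := by rw [hf.bilinear.smul_left, hew, mul_zero]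
        refine hT _ _ _ ?_
        rw [adj_outer hf, hneg]
        have e1 : outer f ((-1 : F) • x) x = -outer f x x := Matrix.ext_iff_mulVec.2 fun y => by
          rw [neg_mulVec, outer_mulVec hf, outer_mulVec hf]; module
        have e2 : outer f x ((-1 : F) • x) = -outer f x x := Matrix.ext_iff_mulVec.2 fun y => by
          rw [neg_mulVec, outer_mulVec hf, outer_mulVec hf, hf.bilinear.smul_right]; module
        rw [e1, e2, hneg, hneg, neg_neg, ← htneg, add_comm (tmat ![outer f x x, -outer f w₀ e₀]), htadd, ← sub_eq_add_neg]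
        exact hN' _ ⟨e₀, w₀, rfl⟩ x
      rw [hdec]
      exact hadd (hadd (hadd (hNsym e₀ w₀ hew _) (hng _)) (hng _)) (hHsym e₀ w₀ hew _ _)
    obtain ⟨z, hz⟩ := exists_sum_outer hf G
    rw [hz]
    exact Finset.sum_induction _ _ (fun a b => hadd) (by
      have := hout 0 0
      rwa [show outer f (0 : Fin k → F) 0 = 0 from Matrix.ext_iff_mulVec.2 fun y => by
        rw [outer_mulVec hf, smul_zero, zero_mulVec]] at this) fun j _ => hout _ _
  have hle := le_of_all' T (by omega) (by simpa using hk) hall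
  intro g hgΩ
  have h1 : GS 0 g ∈ Cfsg.Geo.omegaGL ⇑(QS Q 0) := omega_map Q 0 ▸ ⟨g, hgΩ, rfl⟩
  rw [omega_eich P hf hg h5] at h1
  obtain ⟨e, he, hee⟩ := h1
  obtain ⟨y, hy, hyg⟩ := (hM' e).mp (hle he)
  exact (GS 0).injective (hyg.trans hee) ▸ hy

end CfsgLib.Classical22.TPow
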