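/-
Maximality of the stabiliser of an even tensor power in Omega, odd characteristic.
-/
import Cfsg.Agent.Lib.Classical22.TensorPower.PlusTwo
import Cfsg.Agent.Lib.Classical22.TensorPower.PlusBase

set_option autoImplicit false
set_option linter.unusedSectionVars false
set_option linter.unusedSimpArgs false

namespace CfsgLib.Classical22.TPow

open Matrix Cfsg CfsgLib.Transvec CfsgLib.Classical22.TensorMax.SympO CfsgLib.Classical22.TWMax
open scoped MatrixGroups

variable {F : Type*} [Field F] [Fintype F] {t k : ℕ} {f : (Fin k → F) → (Fin k → F) → F}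

/-- A group between the stabiliser and Omega is one of them. -/
theorem plus_dich_odd {Q : QuadraticForm F (Idx (t + 1) k → F)} (P : PForm f Q) (hf : Cfsg.Geo.IsSymplecticForm f)
    (h2 : (2 : F) ≠ 0) (hk : 4 ≤ k ∨ (k = 2 ∧ 5 ≤ Nat.card F)) (ht : Even (t + 1)) (hn : 13 ≤ k ^ (t + 1)) :
    (∃ g ∈ Cfsg.Geo.omegaGL ⇑Q, ¬ IsTW g) ∧ ∀ M : Subgroup (GL (Idx (t + 1) k) F), M ≤ Cfsg.Geo.omegaGL ⇑Q →
      (∀ g ∈ Cfsg.Geo.omegaGL ⇑Q, IsTW g → g ∈ M) → (∀ g ∈ M, IsTW g) ∨ Cfsg.Geo.omegaGL ⇑Q ≤ M := by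
  classical
  have htodd : Odd t := Nat.not_even_iff_odd.mp (Nat.even_add_one.mp ht)
  have hg := isSymplectic_pForm (t := t) hf h2 htodd
  have ht1 : 1 ≤ t := by obtain ⟨r, hr⟩ := htodd; omega
  have hk2 : 2 ≤ k := by omega
  have hkt : 3 ≤ k ^ t := by
    rcases Nat.lt_or_ge t 2 with h | h
    · obtain rfl : t = 1 := by omega
      rcases hk with h4 | ⟨rfl, -⟩
      · simp; omega
      · simp at hn
    · have : 2 ^ 2 ≤ k ^ t := (Nat.pow_le_pow_left hk2 2).trans (Nat.pow_le_pow_right (by omega) h)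
      omega
  refine ⟨?_, fun M hM hstab => ?_⟩
  · obtain ⟨g, hgΩ, hne, hsq, hd⟩ := exists_small P hf hg (by omega) ht1
    refine ⟨g, hgΩ, fun htw => ?_⟩
    obtain ⟨s, u, hu, he⟩ := pure_of_sq h2 hk2 htw hne hsq (by omega)
    rw [he, finrank_slotW s hu] at hd
    omega
  have C : PCtx f M := ⟨fun g hg' => piso_of_omega P hf (hM hg'), fun s u c =>
    hstab _ (ptr_mem_omega P hf hg (by omega) s u c) ⟨_, _, slotEl_data s _⟩⟩
  rcases pDich hf h2 hk t M C with hns | h
  · right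
    rcases Nat.lt_or_ge t 3 with h3 | h3
    · obtain rfl : t = 1 := by obtain ⟨r, hr⟩ := htodd; omega
      refine omega_le_of_two P hf hg (by omega) h2 ?_ hM C hns
      rcases hk with h4 | ⟨rfl, -⟩
      · exact h4
      · simp at hn
    · exact omega_le_of_four P hf hg (by omega) h2 hk ht h3 hM hstab C hns
  · exact Or.inl h

end CfsgLib.Classical22.TPow
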