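/-
Maximality of the stabiliser of an odd tensor power in the symplectic group.
-/
import Cfsg.Agent.Lib.Classical22.TensorPower.Dich

set_option autoImplicit false
set_option linter.unusedSectionVars false
set_option linter.unusedSimpArgs false

namespace CfsgLib.Classical22.TPow

open Matrix Cfsg CfsgLib.Transvec CfsgLib.Classical22.TensorMax.SympO CfsgLib.Classical22.TWMax
open scoped MatrixGroups

/-- The statement. -/
theorem isMaximalIn_spPower {F : Type*} [Field F] [Fintype F] (m : ℕ) (hm : 4 ≤ m) (hodd : Odd (Fintype.card F))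
    (k t : ℕ) (ht : Odd t) (ht3 : 3 ≤ t) (hex : ¬ (Fintype.card F = 3 ∧ k = 2))
    (e : (Fin m ⊕ Fin m) ≃ (Fin t → Fin k)) (P : GL (Fin m ⊕ Fin m) F)
    (f₁ : (Fin k → F) → (Fin k → F) → F) (hf₁ : Cfsg.Geo.IsSymplecticForm f₁)
    (hT : Cfsg.Geo.IsTensorPowerFormStructure id (Cfsg.sympForm m F) f₁ e P) :
    Cfsg.Geo.IsMaximalIn (Cfsg.spGL m F) (Cfsg.Geo.tensorWreathSubgroup k t e P ⊓ Cfsg.spGL m F) := by
  classical
  obtain ⟨T, rfl⟩ : ∃ T, t = T + 1 := ⟨t - 1, by omega⟩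
  have h2 : (2 : F) ≠ 0 := fun h => by
    obtain ⟨p, hp⟩ := CharP.exists F
    haveI : Fact p.Prime := ⟨CharP.char_is_prime F p⟩
    have h2p : p = 2 := (Nat.prime_dvd_prime_iff_eq (Fact.out : p.Prime) Nat.prime_two).mp
      ((CharP.cast_eq_zero_iff F p 2).mp (by exact_mod_cast h))
    obtain ⟨n, -, hn⟩ := FiniteField.card F p
    rw [hn, h2p] at hodd
    exact (Nat.not_odd_iff_even.mpr ((even_two).pow_of_ne_zero n.pos.ne')) hodd
  have hcard : m + m = k ^ (T + 1) := by simpa using Fintype.card_congr e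
  have hk2 : 2 ≤ k := by
    by_contra h
    have : k ^ (T + 1) ≤ 1 := pow_le_one₀ (Nat.zero_le k) (by omega)
    omega
  have hkeven : Even k := (Nat.even_pow.mp (hcard ▸ ⟨m, rfl⟩ : Even (k ^ (T + 1)))).1
  have hk : 4 ≤ k ∨ (k = 2 ∧ 5 ≤ Nat.card F) := by
    obtain ⟨r, rfl⟩ := hkeven
    rcases Nat.lt_or_ge (r + r) 4 with h | h
    · refine Or.inr ⟨by omega, ?_⟩
      rw [Nat.card_eq_fintype_card]
      have := Fintype.one_lt_card (α := F)
      obtain ⟨j, hj⟩ := hodd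
      have : Fintype.card F ≠ 3 := fun h3 => hex ⟨h3, by omega⟩
      omega
    · exact Or.inl h
  obtain ⟨c, hc, hpol⟩ := hT
  obtain ⟨E, hE⟩ : ∃ E : GL (Idx (T + 1) k) F ≃* GL (Fin m ⊕ Fin m) F,
      E = (Cfsg.Geo.glReindex e.symm).trans (MulAut.conj P) := ⟨_, rfl⟩
  have hform : ∀ x y, sympForm m F (P.val *ᵥ (x ∘ e)) (P.val *ᵥ (y ∘ e)) = c * pForm f₁ x y := fun x y => by
    rw [hpol, pForm, pG]
    congr 1
    simp only [dotProduct, mulVec, Finset.sum_mul]
    refine Finset.sum_congr rfl fun a _ => Finset.sum_congr rfl fun b _ => ?_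
    simp only [tmat, id_eq]
    ring
  have hact : ∀ (g : GL (Idx (T + 1) k) F) x, (E g).val *ᵥ (P.val *ᵥ (x ∘ e)) = P.val *ᵥ ((g.val *ᵥ x) ∘ e) := by
    intro g x
    rw [hE]
    change (P.val * Matrix.reindexAlgEquiv F F e.symm g.val * (P⁻¹).val) *ᵥ (P.val *ᵥ (x ∘ e)) = _
    rw [← Matrix.mulVec_mulVec, Matrix.mulVec_mulVec (x ∘ e), Units.inv_mul, Matrix.one_mulVec,
      ← Matrix.mulVec_mulVec, Matrix.reindexAlgEquiv_apply, Matrix.reindex_apply, Equiv.symm_symm,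
      Matrix.submatrix_mulVec_equiv]
    simp only [Function.comp_assoc, Equiv.self_comp_symm, Function.comp_id]
  have hsurj : ∀ v, ∃ x : Idx (T + 1) k → F, P.val *ᵥ (x ∘ e) = v := fun v => ⟨(P⁻¹.val *ᵥ v) ∘ e.symm, by
    rw [Function.comp_assoc, e.symm_comp_self, Function.comp_id, Transvec.mulVec_inv_cancel]⟩
  have hmem : ∀ g, E g ∈ Cfsg.spGL m F ↔ PIso f₁ g := fun g => by
    rw [mem_spGL_iff, iso_pForm_iff]
    constructor
    · intro h x y
      have := h (P.val *ᵥ (x ∘ e)) (P.val *ᵥ (y ∘ e))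
      rw [hact, hact, hform, hform] at this
      exact mul_left_cancel₀ hc this
    · intro h v w
      obtain ⟨x, rfl⟩ := hsurj v
      obtain ⟨y, rfl⟩ := hsurj w
      rw [hact, hact, hform, hform, h]
  have htw : ∀ g, E g ∈ Cfsg.Geo.tensorWreathSubgroup k (T + 1) e P ↔ IsTW g := fun g => by
    rw [← mem_standard_iff, Cfsg.Geo.tensorWreathSubgroup, Subgroup.map_map, hE]
    exact Subgroup.mem_map_iff_mem (f := ((Cfsg.Geo.glReindex e.symm).trans (MulAut.conj P)).toMonoidHom)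
      ((Cfsg.Geo.glReindex e.symm).trans (MulAut.conj P)).injective
  refine ⟨lt_of_le_of_ne inf_le_right fun heq => ?_, fun M hHM hMK => ?_⟩
  · obtain ⟨g, hg, hgn⟩ := exists_not_tw (t := T) hf₁ h2 hk2 ht (by omega)
    exact hgn ((htw g).mp (heq.ge ((hmem g).mpr hg)).1)
  rcases mem_dich hf₁ h2 hk ht (M := M.comap E.toMonoidHom)
      (fun g h1 h2 => hHM ⟨(htw g).mpr h1, (hmem g).mpr h2⟩) (fun g hg => (hmem g).mp (hMK hg)) with h | h
  · left
    refine le_antisymm (fun g hg => ?_) hHM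
    obtain ⟨g₀, rfl⟩ := E.surjective g
    exact ⟨(htw g₀).mpr (h g₀ hg), hMK hg⟩
  · right
    refine le_antisymm hMK fun g hg => ?_
    obtain ⟨g₀, rfl⟩ := E.surjective g
    exact h g₀ ((hmem g₀).mp hg)

end CfsgLib.Classical22.TPow
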